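import Cfsg.Agent.Lib.Spor.ONGL.Mat
import Cfsg.Agent.Lib.Spor.ON.Pres

/-! The relators of the O'Nan group give scalar matrices. -/

set_option autoImplicit false
set_option maxRecDepth 100000
set_option Elab.async false

namespace CfsgLib.Spor.ONGL

open CfsgLib.Spor.ON

/-- the word of the central element -/
def zW : List ℕ := [1, 2, 3, 6, 1, 2, 3, 6, 1, 2, 3, 6, 1, 2, 3, 6, 1, 2, 3, 6]

/-- every relator gives a cube root of unity -/
def relOK : Bool :=
  baseW.all fun w => w.all (fun x => Nat.blt x 8) && (isScl w 1 || isScl w 2 || isScl w 4)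

theorem relOK_true : relOK = true := by decide +kernel

theorem zW_scl : isScl zW 2 = true := by decide +kernel

theorem gen0_ne : (isScl [0] 1 || isScl [0] 2 || isScl [0] 4) = false := by decide +kernel

end CfsgLib.Spor.ONGL
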