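import Cfsg.Agent.Lib.Spor.Fi22GL.Pack

/-! Generated matrices of degree 45 over the field of seven elements for a triple cover of the O'Nan group:
the six involutions act on a uniserial module 37.8 of the subgroup `L₃(7):2`. -/

set_option autoImplicit false
set_option maxRecDepth 100000

namespace CfsgLib.Spor.ONGL

open CfsgLib.Spor.Fi22GL

/-- the shape of all trees of rows -/
def natT : RT ℕ := (.node (.node (.node (.node (.node (.leaf 0) (.leaf 1)) (.node (.leaf 2) (.node (.leaf 3) (.leaf 4)))) (.node (.node (.leaf 5) (.node (.leaf 6) (.leaf 7))) (.node (.leaf 8) (.node (.leaf 9) (.leaf 10))))) (.node (.node (.node (.leaf 11) (.leaf 12)) (.node (.leaf 13) (.node (.leaf 14) (.leaf 15)))) (.node (.node (.leaf 16) (.node (.leaf 17) (.leaf 18))) (.node (.leaf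 19) (.node (.leaf 20) (.leaf 21)))))) (.node (.node (.node (.node (.leaf 22) (.leaf 23)) (.node (.leaf 24) (.node (.leaf 25) (.leaf 26)))) (.node (.node (.leaf 27) (.node (.leaf 28) (.leaf 29))) (.node (.leaf 30) (.node (.leaf 31) (.leaf 32))))) (.node (.node (.node (.leaf 33) (.node (.leaf 34) (.leaf 35))) (.node (.leaf 36) (.node (.leaf 37) (.leaf 38)))) (.node (.node (.leaf 39) (.node (.leaf 40) (.leaf 41))) (.node (.leaf 42) (.node (.leaf 43) (.leaf 44)))))))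

/-- the rows of letter 0 -/
def rows0 : RT CT := (.node
 (.node
 (.node
 (.node
 (.node
 (.leaf (.n (.n (.n (.n (.n (.c 2) (.c 5)) (.n (.c 1) (.n (.c 4) (.c 4)))) (.n (.n (.c 1) (.n (.c 2) (.c 6))) (.n (.c 6) (.n .z (.c 6))))) (.n (.n (.n (.c 4) (.c 6)) (.n (.c 1) (.n (.c 3) (.c 1)))) (.n (.n (.c 5) (.n .z (.c 6))) (.n (.c 5) (.n (.c 4) (.c 3)))))) (.n (.n (.n (.n (.c 1) .z) (.n .z (.n (.c 6) (.c 4)))) (.n (.n (.c 4) (.n (.c 1) (.c 5))) (.n (.c 6) (.n .z (.c 4))))) (.n (.n (.n (.c 5) (.n (.c 1) (.c 1))) (.n (.c 1) (.n .z (.c 6)))) (.n (.n .z (.n (.c 1) (.c 1))) (.n (.c 6) .z)))))) (.leaf (.n (.n (.n (.n (.n (.c 1) .z) (.n (.c 2) (.n (.c 5) (.c 2)))) (.n (.n (.c 5) (.n (.c 1) (.c 6))) (.n (.c 2) (.n (.c 1) (.c 3))))) (.n (.n (.n (.c 2) (.c 4)) (.n (.c 1) (.n (.c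 6) (.c 2)))) (.n (.n (.c 6) (.n (.c 2) (.c 3))) (.n (.c 3) (.n (.c 4) (.c 4)))))) (.n (.n (.n (.n (.c 5) (.c 2)) (.n (.c 1) (.n (.c 3) (.c 3)))) (.n (.n (.c 6) (.n (.c 5) (.c 1))) (.n .z (.n (.c 5) (.c 3))))) (.n (.n (.n (.c 6) (.n (.c 5) (.c 5))) (.n (.c 3) (.n (.c 1) (.c 4)))) (.n (.n (.c 6) (.n (.c 5) (.c 3))) (.n (.c 2) .z))))))) (.node
 (.leaf (.n (.n (.n (.n (.n (.c 2) (.c 2)) (.n (.c 6) (.n (.c 4) (.c 5)))) (.n (.n .z (.n (.c 2) (.c 5))) (.n (.c 4) (.n .z (.c 1))))) (.n (.n (.n (.c 6) (.c 3)) (.n (.c 6) (.n (.c 3) .z))) (.n (.n (.c 5) (.n (.c 3) (.c 6))) (.n (.c 6) (.n (.c 2) .z))))) (.n (.n (.n .z (.n (.c 3) (.n .z (.c 5)))) (.n (.n (.c 2) (.n (.c 6) (.c 3))) (.n (.c 2) (.n (.c 4) (.c 4))))) (.n (.n (.n (.c 2) (.n (.c 2) (.c 6))) (.n (.c 3) (.n (.c 4)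 (.c 4)))) (.n (.n (.c 3) (.n (.c 5) (.c 3))) (.n (.c 2) .z)))))) (.node
 (.leaf (.n (.n (.n (.n (.n (.c 6) .z) (.n .z (.n (.c 2) (.c 2)))) (.n (.n (.c 5) (.n (.c 1) (.c 1))) (.n (.c 1) (.n (.c 2) (.c 6))))) (.n (.n (.n (.c 2) .z) (.n (.c 6) (.n (.c 2) (.c 5)))) (.n (.n .z (.n (.c 5) (.c 2))) (.n (.c 2) (.n (.c 1) (.c 3)))))) (.n (.n (.n (.n (.c 5) (.c 6)) (.n (.c 4) (.n (.c 2) (.c 2)))) (.n (.n (.c 2) (.n (.c 3) (.c 6))) (.n (.c 1) (.n .z (.c 5))))) (.n (.n (.n (.c 4) (.n (.c 3) (.c 6))) (.n .z (.n (.c 5) .z))) (.n (.n (.c 2) (.n (.c 1) .z)) (.n (.c 6) .z)))))) (.leaf (.n (.n (.n (.n (.n (.c 2) (.c 4)) .z) (.n (.n (.c 1) (.n (.c 1) (.c 4))) (.n (.c 4) (.n .z (.c 6))))) (.n (.n (.n (.c 6) (.c 4)) (.n (.c 5) (.n (.c 6) .z))) (.n (.n .z (.n (.c 2) (.c 2))) (.n (.c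 4) (.n (.c 3) (.c 1)))))) (.n (.n (.n (.n (.c 3) (.c 2)) (.n (.c 3) (.n (.c 3) (.c 1)))) (.n (.n .z (.n (.c 1) (.c 1))) (.n (.c 1) (.n (.c 1) (.c 2))))) (.n (.n (.n (.c 5) (.n (.c 1) (.c 1))) (.n .z (.n (.c 5) (.c 5)))) (.n (.n (.c 2) (.n .z (.c 2))) .z)))))))) (.node
 (.node
 (.leaf (.n (.n (.n (.n (.n (.c 6) (.c 3)) (.n (.c 5) (.n (.c 1) (.c 4)))) (.n (.n (.c 5) (.n (.c 4) .z)) (.n (.c 6) (.n (.c 6) .z)))) (.n (.n (.n (.c 2) (.c 1)) (.n (.c 4) (.n (.c 4) .z))) (.n (.n (.c 3) (.n (.c 4) (.c 5))) (.n (.c 2) (.n (.c 2) (.c 4)))))) (.n (.n (.n (.n .z (.c 5)) (.n (.c 1) (.n (.c 1) (.c 2)))) (.n (.n (.c 5) (.n (.c 1) (.c 5))) (.n (.c 4) (.n (.c 4) (.c 4))))) (.n (.n (.n (.c 4) (.n (.c 4) (.c 1))) (.n .z (.n (.c 3) (.c 2)))) (.n (.n (.c 4) (.n (.c 6) (.c 5))) (.n (.c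 1) .z)))))) (.node
 (.leaf (.n (.n (.n (.n (.n (.c 1) (.c 2)) (.n (.c 5) (.n (.c 5) (.c 5)))) (.n (.n (.c 3) (.n (.c 4) (.c 3))) (.n (.c 1) (.n (.c 6) (.c 5))))) (.n (.n (.n .z (.c 2)) (.n .z (.n (.c 2) (.c 6)))) (.n (.n (.c 1) (.n (.c 4) (.c 5))) (.n (.c 1) (.n (.c 4) (.c 3)))))) (.n (.n (.n (.n (.c 1) .z) (.n (.c 2) (.n (.c 1) (.c 6)))) (.n (.n (.c 2) .z) (.n (.c 5) (.n (.c 1) .z)))) (.n (.n (.n (.c 1) (.n (.c 3) (.c 4))) (.n (.c 2) (.n (.c 5) (.c 3)))) (.n (.n (.c 2) (.n (.c 1) (.c 4))) (.n (.c 6) .z)))))) (.leaf (.n (.n (.n (.n (.n (.c 3) (.c 3)) (.n (.c 4) (.n .z (.c 4)))) (.n (.n (.c 1) (.n (.c 2) (.c 2))) (.n (.c 2) (.n (.c 5) (.c 2))))) (.n (.n (.n .z (.c 1)) (.n (.c 6) (.n (.c 1) (.c 4)))) (.n (.n (.c 3) (.n .z (.c 2))) (.n (.c 6) (.n (.c 3) (.c 2))))))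 (.n (.n (.n (.n (.c 2) (.c 2)) (.n .z (.n (.c 5) (.c 1)))) (.n (.n (.c 3) (.n (.c 3) .z)) (.n (.c 6) (.n (.c 1) (.c 6))))) (.n (.n (.n (.c 5) (.n (.c 1) (.c 6))) (.n .z (.n (.c 5) (.c 2)))) (.n (.n (.c 2) (.n (.c 3) (.c 5))) (.n (.c 4) .z)))))))) (.node
 (.leaf (.n (.n (.n (.n (.n (.c 2) (.c 5)) (.n .z (.n (.c 2) (.c 6)))) (.n (.n (.c 2) (.n (.c 4) .z)) (.n (.c 2) (.n (.c 5) (.c 4))))) (.n (.n (.n (.c 6) .z) (.n (.c 4) (.n (.c 4) (.c 1)))) (.n (.n (.c 4) (.n (.c 4) (.c 4))) (.n .z (.n (.c 5) (.c 3)))))) (.n (.n (.n (.n (.c 5) (.c 3)) (.n (.c 4) (.n (.c 5) .z))) (.n (.n (.c 5) (.n (.c 3) .z)) (.n .z (.n (.c 5) (.c 2))))) (.n (.n (.n .z (.n .z (.c 6))) (.n (.c 1) (.n (.c 3) (.c 2)))) (.n (.n (.c 4) (.n .z (.c 5))) .z))))) (.node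
 (.leaf (.n (.n (.n (.n (.n (.c 1) (.c 1)) (.n (.c 3) (.n .z (.c 6)))) (.n (.n (.c 5) (.n (.c 3) .z)) (.n .z (.n (.c 5) .z)))) (.n (.n (.n (.c 5) (.c 6)) (.n (.c 6) (.n (.c 1) .z))) (.n (.n (.c 1) (.n (.c 6) (.c 5))) (.n (.c 6) (.n (.c 5) (.c 2)))))) (.n (.n (.n (.n (.c 6) .z) (.n (.c 3) (.n (.c 3) (.c 2)))) (.n (.n (.c 5) (.n (.c 4) (.c 3))) (.n (.c 1) (.n (.c 4) (.c 3))))) (.n (.n (.n (.c 4) (.n (.c 4) (.c 3))) (.n (.c 6) (.n (.c 2) (.c 5)))) (.n (.n (.c 5) (.n (.c 4) (.c 2))) (.n (.c 3) .z)))))) (.leaf (.n (.n (.n (.n (.n (.c 3) (.c 5)) (.n (.c 2) (.n (.c 3) (.c 1)))) (.n (.n (.c 5) (.n (.c 4) .z)) (.n (.c 3) (.n (.c 2) (.c 2))))) (.n (.n (.n (.c 3) (.c 3)) (.n (.c 2) (.n .z (.c 1)))) (.n (.n (.c 2) (.n .z (.c 6))) (.n (.c 1) (.n (.c 1) (.c 4)))))) (.n (.n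 (.n .z (.n (.c 2) (.n .z (.c 2)))) (.n (.n (.c 4) (.n (.c 1) (.c 2))) (.n (.c 3) (.n (.c 5) (.c 3))))) (.n (.n (.n (.c 3) (.n (.c 5) .z)) (.n .z (.n (.c 1) (.c 2)))) (.n (.n (.c 6) (.n (.c 6) (.c 5))) (.n (.c 1) .z)))))))))) (.node
 (.node
 (.node
 (.leaf (.n (.n (.n (.n (.n (.c 1) (.c 1)) (.n (.c 4) (.n (.c 6) (.c 3)))) (.n (.n (.c 1) (.n (.c 2) (.c 5))) (.n (.c 1) (.n (.c 2) (.c 2))))) (.n (.n (.n (.c 4) (.c 3)) (.n (.c 3) (.n (.c 5) (.c 6)))) (.n (.n .z (.n (.c 2) (.c 1))) (.n (.c 6) (.n (.c 6) (.c 3)))))) (.n (.n (.n (.n (.c 3) (.c 6)) (.n (.c 4) (.n (.c 2) (.c 6)))) (.n (.n (.c 5) (.n (.c 4) (.c 2))) (.n .z (.n (.c 4) (.c 2))))) (.n (.n (.n .z (.n (.c 6) (.c 3))) (.n (.c 5) (.n (.c 4) (.c 1)))) (.n (.n (.c 3) (.n .z (.c 6))) .z))))) (.leaf (.n (.n (.n (.n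 (.n (.c 6) (.c 6)) (.n (.c 5) (.n .z (.c 1)))) (.n (.n (.c 5) (.n (.c 3) (.c 3))) (.n .z (.n (.c 4) (.c 6))))) (.n (.n (.n .z (.c 6)) (.n (.c 6) (.n .z (.c 3)))) (.n (.n (.c 2) (.n .z (.c 5))) (.n (.c 6) (.n (.c 6) (.c 1)))))) (.n (.n (.n (.n (.c 1) (.c 4)) (.n (.c 3) (.n .z (.c 2)))) (.n (.n (.c 6) (.n (.c 4) .z)) (.n (.c 4) (.n (.c 1) (.c 5))))) (.n (.n (.n (.c 5) (.n (.c 6) (.c 6))) (.n (.c 2) (.n (.c 5) (.c 3)))) (.n (.n (.c 2) (.n (.c 6) (.c 4))) (.n (.c 1) .z))))))) (.node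
 (.leaf (.n (.n (.n (.n (.n .z (.c 5)) (.n (.c 1) (.n (.c 2) (.c 3)))) (.n (.n (.c 2) (.n .z (.c 6))) (.n (.c 6) (.n (.c 6) (.c 5))))) (.n (.n (.n (.c 4) (.c 4)) (.n (.c 4) (.n (.c 1) (.c 6)))) (.n (.n (.c 1) (.n (.c 2) (.c 6))) (.n (.c 4) (.n (.c 1) .z))))) (.n (.n (.n (.n (.c 6) (.c 5)) (.n (.c 1) (.n (.c 4) (.c 5)))) (.n (.n .z (.n .z (.c 5))) (.n (.c 1) (.n (.c 3) (.c 6))))) (.n (.n (.n .z (.n (.c 4) (.c 4))) (.n (.c 6) (.n (.c 4) (.c 5)))) (.n (.n (.c 3) (.n (.c 5) (.c 2))) (.n (.c 2) .z)))))) (.node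
 (.leaf (.n (.n (.n (.n (.n (.c 1) .z) (.n .z (.n .z (.c 6)))) (.n (.n (.c 2) (.n (.c 6) (.c 5))) (.n (.c 1) (.n (.c 3) (.c 5))))) (.n (.n (.n (.c 2) (.c 3)) (.n .z (.n (.c 4) (.c 6)))) (.n (.n (.c 5) .z) (.n (.c 2) (.n .z (.c 6)))))) (.n (.n (.n (.n (.c 5) (.c 1)) (.n (.c 2) (.n (.c 4) (.c 4)))) (.n (.n .z (.n (.c 6) (.c 3))) (.n (.c 4) (.n (.c 1) (.c 2))))) (.n (.n (.n (.c 1) (.n (.c 6) (.c 6))) (.n (.c 1) (.n (.c 2) .z))) (.n (.n (.c 5) (.n (.c 2) .z)) (.n (.c 5) .z)))))) (.leaf (.n (.n (.n (.n (.n (.c 4) (.c 6)) (.n (.c 3) (.n (.c 3) (.c 1)))) (.n (.n (.c 3) (.n (.c 5) (.c 4))) (.n .z (.n (.c 3) (.c 2))))) (.n (.n (.n (.c 5) (.c 3)) (.n (.c 3) (.n (.c 6) (.c 3)))) (.n (.n .z (.n (.c 4) (.c 3))) (.n .z (.n (.c 5) .z))))) (.n (.n (.n (.n (.c 1) (.c 6)) (.n (.c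 5) (.n (.c 4) (.c 6)))) (.n (.n (.c 3) (.n (.c 6) (.c 1))) (.n (.c 4) (.n .z (.c 2))))) (.n (.n (.n .z (.n (.c 5) (.c 1))) (.n (.c 5) (.n .z (.c 5)))) (.n (.n .z (.n (.c 4) (.c 2))) (.n (.c 3) .z))))))))) (.node
 (.node
 (.leaf (.n (.n (.n (.n (.n (.c 6) (.c 1)) (.n (.c 5) (.n (.c 4) (.c 3)))) (.n (.n (.c 5) (.n (.c 4) (.c 5))) (.n (.c 2) (.n (.c 3) (.c 6))))) (.n (.n (.n (.c 4) (.c 6)) (.n (.c 2) (.n .z (.c 5)))) (.n (.n (.c 6) (.n (.c 1) .z)) (.n .z (.n (.c 3) .z))))) (.n (.n (.n (.n (.c 1) (.c 4)) (.n (.c 3) (.n .z (.c 2)))) (.n (.n (.c 2) (.n (.c 6) (.c 4))) (.n .z (.n (.c 3) (.c 1))))) (.n (.n (.n (.c 3) (.n (.c 1) (.c 2))) (.n (.c 5) (.n (.c 6) (.c 4)))) (.n (.n (.c 1) (.n (.c 2) (.c 3))) (.n (.c 5) .z)))))) (.node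
 (.leaf (.n (.n (.n (.n (.n (.c 5) (.c 5)) (.n (.c 5) (.n (.c 1) (.c 2)))) (.n (.n .z (.n (.c 5) (.c 2))) (.n (.c 1) (.n (.c 2) (.c 6))))) (.n (.n (.n (.c 1) (.c 2)) (.n .z (.n (.c 3) (.c 1)))) (.n (.n (.c 4) (.n (.c 4) (.c 6))) (.n (.c 6) (.n (.c 1) (.c 5)))))) (.n (.n (.n (.n (.c 1) (.c 3)) (.n (.c 5) (.n (.c 5) (.c 5)))) (.n (.n (.c 1) (.n .z (.c 6))) (.n .z (.n .z (.c 4))))) (.n (.n (.n (.c 5) (.n (.c 2) (.c 3))) (.n (.c 3) (.n (.c 1) (.c 3)))) (.n (.n (.c 6) (.n .z (.c 4))) .z))))) (.leaf (.n (.n (.n (.n (.n (.c 2) (.c 6)) (.n (.c 4) (.n (.c 5) (.c 5)))) (.n (.n .z (.n .z (.c 5))) (.n (.c 4) (.n (.c 1) .z)))) (.n (.n (.n (.c 2) (.c 1)) (.n (.c 1) (.n .z (.c 6)))) (.n (.n (.c 2) (.n (.c 4) (.c 5))) (.n (.c 3) (.n .z (.c 6)))))) (.n (.n (.n (.n .z (.c 3)) (.n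 (.c 3) (.n (.c 5) (.c 1)))) (.n (.n (.c 6) (.n (.c 3) (.c 3))) (.n .z (.n (.c 6) (.c 1))))) (.n (.n (.n (.c 6) (.n (.c 1) (.c 1))) (.n (.c 1) (.n (.c 5) (.c 3)))) (.n (.n (.c 2) (.n (.c 5) (.c 4))) (.n (.c 2) .z)))))))) (.node
 (.leaf (.n (.n (.n (.n (.n (.c 5) .z) (.n (.c 2) (.n (.c 3) (.c 5)))) (.n (.n (.c 6) (.n (.c 4) (.c 2))) (.n (.c 4) .z))) (.n (.n (.n (.c 1) (.c 1)) (.n (.c 5) (.n (.c 5) (.c 6)))) (.n (.n (.c 4) (.n .z (.c 6))) (.n (.c 2) (.n (.c 3) .z))))) (.n (.n (.n (.n (.c 2) (.c 2)) (.n .z (.n .z (.c 3)))) (.n (.n (.c 1) (.n (.c 3) (.c 2))) (.n (.c 2) (.n (.c 3) .z)))) (.n (.n (.n (.c 4) (.n (.c 5) .z)) (.n (.c 5) (.n (.c 4) (.c 1)))) (.n (.n (.c 3) (.n .z (.c 6))) .z))))) (.node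
 (.leaf (.n (.n (.n (.n (.n (.c 4) (.c 4)) (.n .z (.n (.c 6) (.c 3)))) (.n (.n (.c 1) (.n (.c 1) (.c 6))) (.n (.c 4) (.n .z (.c 6))))) (.n (.n (.n (.c 3) (.c 4)) (.n .z (.n (.c 2) (.c 4)))) (.n (.n (.c 6) (.n (.c 2) (.c 5))) (.n (.c 5) (.n (.c 2) (.c 3)))))) (.n (.n (.n (.n .z (.c 2)) (.n (.c 3) (.n (.c 1) (.c 6)))) (.n (.n (.c 1) (.n (.c 5) (.c 1))) (.n (.c 2) (.n (.c 5) (.c 5))))) (.n (.n (.n (.c 4) (.n .z (.c 5))) (.n (.c 5) (.n .z (.c 2)))) (.n (.n .z (.n (.c 5) (.c 5))) (.n (.c 2) .z)))))) (.leaf (.n (.n (.n (.n (.n (.c 5) .z) (.n (.c 6) (.n (.c 6) (.c 2)))) (.n (.n .z (.n (.c 1) (.c 3))) (.n (.c 6) (.n (.c 5) (.c 2))))) (.n (.n (.n .z (.c 3)) (.n (.c 1) (.n (.c 4) (.c 4)))) (.n (.n .z (.n (.c 1) (.c 2))) (.n (.c 2) (.n (.c 6) (.c 3)))))) (.n (.n (.n (.n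 (.c 6) .z) (.n (.c 3) (.n (.c 2) (.c 1)))) (.n (.n (.c 3) (.n (.c 1) (.c 4))) (.n (.c 4) (.n (.c 3) (.c 3))))) (.n (.n (.n (.c 1) (.n (.c 6) (.c 5))) (.n (.c 2) (.n (.c 3) (.c 4)))) (.n (.n (.c 4) (.n (.c 1) (.c 3))) (.n (.c 6) .z))))))))))) (.node
 (.node
 (.node
 (.node
 (.leaf (.n (.n (.n (.n (.n .z (.c 4)) (.n (.c 4) (.n (.c 2) (.c 1)))) (.n (.n (.c 6) (.n (.c 3) (.c 2))) (.n (.c 1) (.n (.c 4) (.c 2))))) (.n (.n (.n (.c 2) (.c 1)) (.n (.c 5) (.n (.c 5) (.c 6)))) (.n (.n (.c 6) (.n (.c 2) (.c 3))) (.n (.c 5) (.n (.c 1) (.c 5)))))) (.n (.n (.n (.n (.c 2) (.c 4)) (.n .z (.n (.c 1) (.c 2)))) (.n (.n (.c 4) (.n (.c 5) (.c 4))) (.n (.c 4) (.n .z (.c 6))))) (.n (.n (.n (.c 1) (.n .z (.c 2))) (.n (.c 6) (.n (.c 2) .z))) (.n (.n (.c 5) .z) .z))))) (.leaf (.n (.n (.n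 (.n (.n (.c 6) (.c 1)) (.n (.c 6) (.n (.c 6) .z))) (.n (.n (.c 6) (.n (.c 2) .z)) (.n .z (.n .z (.c 3))))) (.n (.n (.n (.c 3) (.c 5)) (.n (.c 2) (.n (.c 1) (.c 2)))) (.n (.n (.c 3) (.n (.c 6) (.c 1))) (.n (.c 6) (.n (.c 6) (.c 4)))))) (.n (.n (.n (.n (.c 4) (.c 3)) (.n (.c 6) (.n (.c 3) (.c 1)))) (.n (.n (.c 6) (.n (.c 3) (.c 6))) (.n (.c 2) (.n (.c 1) (.c 3))))) (.n (.n (.n (.c 4) (.n (.c 6) (.c 3))) (.n (.c 1) (.n (.c 3) .z))) (.n (.n (.c 4) (.n (.c 1) .z)) (.n (.c 6) .z))))))) (.node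
 (.leaf (.n (.n (.n (.n (.n (.c 4) (.c 1)) (.n .z (.n (.c 6) .z))) (.n (.n (.c 6) (.n (.c 2) (.c 2))) (.n (.c 5) (.n .z (.c 1))))) (.n (.n (.n (.c 3) (.c 2)) (.n (.c 5) (.n .z (.c 6)))) (.n (.n .z (.n (.c 1) (.c 4))) (.n (.c 1) (.n (.c 4) .z))))) (.n (.n (.n (.n (.c 3) (.c 1)) (.n (.c 6) (.n (.c 5) .z))) (.n (.n (.c 1) (.n (.c 4) (.c 3))) (.n (.c 2) (.n (.c 5) (.c 2))))) (.n (.n (.n (.c 1) (.n (.c 6) (.c 5))) (.n (.c 3) (.n (.c 3) (.c 2)))) (.n (.n (.c 4) (.n (.c 2) (.c 5))) (.n (.c 5) .z)))))) (.node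
 (.leaf (.n (.n (.n (.n (.n (.c 2) (.c 6)) (.n (.c 1) (.n (.c 6) (.c 1)))) (.n (.n (.c 6) (.n (.c 2) (.c 4))) (.n (.c 1) (.n (.c 3) (.c 1))))) (.n (.n (.n (.c 6) (.c 5)) (.n (.c 3) (.n (.c 1) (.c 1)))) (.n (.n (.c 6) (.n (.c 1) (.c 3))) (.n .z (.n (.c 2) (.c 3)))))) (.n (.n (.n (.n .z (.c 5)) (.n (.c 4) (.n (.c 5) (.c 4)))) (.n (.n (.c 6) (.n (.c 2) (.c 3))) (.n (.c 3) (.n (.c 4) (.c 1))))) (.n (.n (.n (.c 4) (.n (.c 5) .z)) (.n (.c 5) (.n (.c 5) .z))) (.n (.n (.c 2) .z) .z))))) (.leaf (.n (.n (.n (.n (.n (.c 2) (.c 6)) (.n (.c 2) (.n (.c 2) (.c 5)))) (.n (.n (.c 6) (.n (.c 6) (.c 2))) (.n (.c 2) (.n (.c 2) (.c 5))))) (.n (.n (.n (.c 5) (.c 5)) (.n (.c 6) (.n (.c 2) (.c 5)))) (.n (.n (.c 6) (.n (.c 6) (.c 6))) (.n .z (.n (.c 6) (.c 2)))))) (.n (.n (.n (.n (.c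 6) (.c 2)) (.n (.c 5) (.n (.c 1) (.c 6)))) (.n (.n (.c 6) (.n (.c 5) (.c 1))) (.n (.c 5) (.n (.c 5) (.c 1))))) (.n (.n (.n (.c 6) .z) (.n (.c 5) .z)) .z))))))) (.node
 (.node
 (.leaf (.n (.n (.n (.n (.n (.c 4) (.c 3)) (.n (.c 1) (.n (.c 4) (.c 5)))) (.n (.n (.c 6) (.n (.c 6) (.c 1))) (.n (.c 3) (.n (.c 5) (.c 6))))) (.n (.n (.n (.c 5) (.c 6)) (.n .z (.n (.c 4) (.c 6)))) (.n (.n .z (.n (.c 4) (.c 3))) (.n .z (.n (.c 3) (.c 6)))))) (.n (.n (.n (.n (.c 6) (.c 1)) (.n (.c 3) (.n (.c 2) (.c 6)))) (.n (.n (.c 3) (.n (.c 5) (.c 3))) (.n (.c 5) (.n (.c 2) (.c 6))))) (.n (.n (.n (.c 6) (.n (.c 4) .z)) (.n (.c 6) (.n (.c 3) (.c 6)))) (.n (.n (.c 4) (.n .z (.c 1))) .z))))) (.node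
 (.leaf (.n (.n (.n (.n (.n (.c 5) (.c 6)) (.n (.c 4) (.n (.c 1) (.c 1)))) (.n (.n (.c 1) (.n (.c 2) (.c 4))) (.n .z (.n (.c 6) (.c 5))))) (.n (.n (.n (.c 5) (.c 5)) (.n (.c 5) (.n (.c 5) .z))) (.n (.n (.c 5) (.n .z (.c 4))) (.n .z (.n (.c 5) (.c 2)))))) (.n (.n (.n (.n (.c 1) (.c 2)) (.n .z (.n (.c 3) (.c 2)))) (.n (.n .z (.n .z (.c 2))) (.n (.c 1) (.n (.c 2) (.c 5))))) (.n (.n (.n (.c 4) (.n (.c 6) (.c 4))) (.n .z (.n (.c 6) (.c 3)))) (.n (.n (.c 1) (.n .z (.c 4))) .z))))) (.leaf (.n (.n (.n (.n (.n (.c 1) (.c 4)) (.n (.c 2) (.n .z (.c 4)))) (.n (.n (.c 6) (.n (.c 6) (.c 4))) (.n .z (.n (.c 3) (.c 6))))) (.n (.n (.n (.c 5) (.c 1)) (.n .z (.n (.c 4) .z))) (.n (.n (.c 3) (.n (.c 1) (.c 4))) (.n (.c 5) (.n (.c 4) (.c 5)))))) (.n (.n (.n (.n (.c 2) (.c 3)) (.n (.c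 6) (.n (.c 6) (.c 5)))) (.n (.n (.c 1) (.n (.c 3) (.c 6))) (.n (.c 6) (.n (.c 5) (.c 3))))) (.n (.n (.n (.c 6) (.n (.c 2) (.c 1))) (.n (.c 4) (.n (.c 3) (.c 4)))) (.n (.n (.c 4) (.n (.c 4) (.c 3))) (.n (.c 3) .z)))))))) (.node
 (.leaf (.n (.n (.n (.n .z (.n (.c 1) (.n (.c 3) (.c 2)))) (.n (.n (.c 3) (.n (.c 6) (.c 4))) (.n (.c 4) (.n (.c 3) (.c 4))))) (.n (.n (.n (.c 2) (.c 1)) (.n (.c 1) (.n (.c 6) (.c 1)))) (.n (.n (.c 4) (.n (.c 1) (.c 3))) (.n (.c 6) (.n (.c 3) (.c 2)))))) (.n (.n (.n (.n (.c 2) (.c 5)) (.n .z (.n (.c 4) (.c 1)))) (.n (.n (.c 2) (.n (.c 1) (.c 4))) (.n (.c 5) (.n (.c 6) .z)))) (.n (.n (.n (.c 6) (.n (.c 5) (.c 2))) (.n .z (.n (.c 3) (.c 3)))) (.n (.n (.c 4) (.n (.c 6) (.c 4))) (.n (.c 1) .z)))))) (.node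
 (.leaf (.n (.n (.n (.n (.n (.c 6) (.c 1)) (.n (.c 5) (.n (.c 4) (.c 6)))) (.n (.n (.c 4) (.n (.c 1) (.c 6))) (.n .z (.n (.c 1) (.c 3))))) (.n (.n (.n (.c 1) (.c 2)) (.n (.c 3) (.n .z (.c 3)))) (.n (.n (.c 6) (.n (.c 1) (.c 3))) (.n (.c 1) (.n (.c 3) (.c 5)))))) (.n (.n (.n (.n (.c 1) (.c 6)) (.n (.c 6) (.n (.c 2) (.c 4)))) (.n (.n (.c 1) (.n (.c 3) (.c 3))) (.n (.c 2) (.n (.c 4) .z)))) (.n (.n (.n (.c 5) (.n (.c 6) (.c 2))) (.n (.c 1) (.n (.c 3) (.c 6)))) (.n (.n (.c 4) (.n .z (.c 1))) .z))))) (.leaf (.n (.n (.n (.n (.n (.c 1) (.c 1)) (.n (.c 6) (.n (.c 5) .z))) (.n (.n (.c 3) (.n (.c 3) (.c 1))) (.n (.c 6) (.n (.c 2) (.c 3))))) (.n (.n (.n (.c 2) (.c 1)) (.n (.c 2) (.n .z (.c 3)))) (.n (.n (.c 6) (.n (.c 2) .z)) (.n (.c 4) (.n .z (.c 4)))))) (.n (.n (.n (.n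 (.c 4) (.c 6)) (.n (.c 1) (.n .z (.c 6)))) (.n (.n (.c 3) (.n (.c 2) (.c 5))) (.n (.c 1) (.n (.c 3) (.c 4))))) (.n (.n (.n (.c 2) (.n (.c 4) (.c 5))) (.n .z (.n (.c 5) (.c 5)))) (.n (.n (.c 2) (.n (.c 1) (.c 2))) (.n (.c 6) .z)))))))))) (.node
 (.node
 (.node
 (.leaf (.n (.n (.n (.n (.n (.c 6) (.c 6)) (.n (.c 6) (.n (.c 6) (.c 4)))) (.n (.n (.c 4) (.n (.c 2) .z)) (.n (.c 3) (.n (.c 1) (.c 6))))) (.n (.n (.n (.c 5) .z) (.n (.c 4) .z)) (.n (.n (.c 6) (.n (.c 4) (.c 5))) (.n (.c 1) (.n (.c 4) (.c 5)))))) (.n (.n (.n (.n (.c 1) (.c 3)) (.n (.c 2) (.n (.c 6) (.c 2)))) (.n (.n (.c 5) (.n (.c 1) (.c 5))) (.n (.c 2) (.n (.c 6) (.c 1))))) (.n (.n (.n (.c 4) (.n (.c 4) (.c 2))) (.n (.c 4) (.n .z (.c 5)))) (.n (.n .z (.n (.c 2) (.c 2))) (.n (.c 5) .z)))))) (.node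
 (.leaf (.n (.n (.n (.n (.n (.c 1) (.c 4)) (.n .z (.n (.c 3) (.c 1)))) (.n (.n (.c 4) (.n .z (.c 4))) (.n (.c 6) (.n (.c 4) (.c 2))))) (.n (.n (.n (.c 6) (.c 5)) (.n (.c 4) (.n .z (.c 3)))) (.n (.n (.c 2) (.n (.c 4) (.c 5))) (.n (.c 2) (.n (.c 1) (.c 4)))))) (.n (.n (.n (.n .z (.c 3)) (.n (.c 5) (.n (.c 4) (.c 3)))) (.n (.n (.c 6) (.n .z (.c 1))) (.n (.c 2) (.n (.c 3) (.c 5))))) (.n (.n (.n (.c 4) (.n (.c 6) (.c 2))) (.n (.c 1) (.n (.c 4) (.c 1)))) (.n (.n (.c 3) (.n (.c 6) (.c 6))) (.n (.c 1) .z)))))) (.leaf (.n (.n (.n (.n (.n .z (.c 5)) (.n (.c 5) (.n (.c 5) (.c 5)))) (.n (.n (.c 3) (.n (.c 1) (.c 3))) (.n (.c 3) (.n (.c 6) (.c 6))))) (.n (.n (.n (.c 4) (.c 4)) (.n (.c 5) (.n (.c 1) (.c 2)))) (.n (.n (.c 3) (.n (.c 2) (.c 6))) (.n (.c 5) (.n (.c 4) (.c 2))))))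 (.n (.n (.n (.n (.c 6) (.c 5)) (.n (.c 4) (.n (.c 2) (.c 2)))) (.n (.n (.c 1) (.n (.c 1) (.c 4))) (.n (.c 6) (.n (.c 6) (.c 2))))) (.n (.n (.n (.c 3) (.n (.c 6) .z)) (.n (.c 3) (.n (.c 4) (.c 3)))) (.n (.n (.c 3) (.n (.c 3) (.c 4))) (.n (.c 4) .z)))))))) (.node
 (.leaf (.n (.n (.n (.n (.n (.c 5) (.c 5)) (.n (.c 4) (.n (.c 3) (.c 5)))) (.n (.n .z (.n (.c 2) .z)) (.n (.c 5) (.n .z (.c 6))))) (.n (.n (.n (.c 2) (.c 1)) (.n (.c 2) (.n (.c 4) (.c 3)))) (.n (.n (.c 5) (.n .z (.c 6))) (.n (.c 3) (.n (.c 1) (.c 3)))))) (.n (.n (.n (.n (.c 4) (.c 1)) (.n (.c 1) (.n (.c 1) (.c 1)))) (.n (.n (.c 3) (.n (.c 2) .z)) (.n (.c 2) (.n (.c 5) (.c 3))))) (.n (.n (.n (.c 1) (.n (.c 6) (.c 3))) (.n (.c 5) (.n (.c 6) .z))) (.n (.n (.c 1) (.n (.c 2) .z)) (.n (.c 5) .z)))))) (.node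
 (.leaf (.n .z (.n .z (.n .z (.n (.n (.c 6) .z) .z))))) (.leaf (.n .z (.n .z (.n .z (.n (.n .z (.n .z (.c 6))) .z)))))))) (.node
 (.node
 (.leaf (.n .z (.n .z (.n (.n .z (.n .z (.n (.c 6) .z))) .z)))) (.node
 (.leaf (.n .z (.n .z (.n .z (.n .z (.n (.c 6) .z)))))) (.leaf (.n .z (.n .z (.n (.n .z (.n .z (.n .z (.c 6)))) .z)))))) (.node
 (.leaf (.n .z (.n .z (.n .z (.n (.n .z (.n (.c 6) .z)) .z))))) (.node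
 (.leaf (.n .z (.n .z (.n .z (.n .z (.n .z (.n (.c 6) .z))))))) (.leaf (.n .z (.n .z (.n .z (.n .z (.n .z (.n .z (.c 6))))))))))))))

/-- the rows of letter 1 -/
def rows1 : RT CT := (.node
 (.node
 (.node
 (.node
 (.node
 (.leaf (.n (.n (.n (.n (.n (.c 6) (.c 4)) (.n (.c 6) (.n (.c 5) (.c 4)))) (.n (.n (.c 6) (.n (.c 5) (.c 3))) (.n .z (.n .z (.c 3))))) (.n (.n (.n (.c 4) (.c 5)) (.n (.c 5) (.n (.c 5) (.c 1)))) (.n (.n (.c 6) (.n (.c 2) (.c 5))) (.n (.c 5) (.n (.c 3) (.c 1)))))) (.n (.n (.n (.n (.c 6) .z) (.n .z (.n (.c 1) (.c 4)))) (.n (.n (.c 5) .z) (.n (.c 1) (.n (.c 5) (.c 3))))) (.n (.n (.n (.c 3) .z) (.n .z (.n (.c 5) (.c 3)))) (.n (.n (.c 6) (.n (.c 3) (.c 4))) (.n (.c 3) (.n .z (.c 5)))))))) (.leaf (.n (.n (.n (.n (.n (.c 4) (.c 6)) (.n (.c 3) (.n (.c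 4) (.c 4)))) (.n (.n (.c 5) (.n (.c 1) (.c 6))) (.n .z (.n .z (.c 4))))) (.n (.n (.n .z (.c 6)) (.n (.c 2) (.n (.c 3) (.c 4)))) (.n (.n (.c 2) (.n (.c 1) (.c 1))) (.n (.c 2) (.n (.c 1) (.c 1)))))) (.n (.n (.n (.n (.c 5) (.c 4)) (.n .z (.n (.c 5) .z))) (.n (.n .z (.n (.c 5) .z)) (.n (.c 4) (.n (.c 1) (.c 6))))) (.n (.n (.n (.c 6) .z) (.n (.c 1) (.n .z (.c 1)))) (.n (.n (.c 3) (.n (.c 5) (.c 1))) (.n (.c 5) (.n (.c 1) .z)))))))) (.node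
 (.leaf (.n (.n (.n (.n (.n (.c 1) (.c 2)) (.n (.c 3) (.n (.c 6) (.c 4)))) (.n (.n .z (.n (.c 5) (.c 3))) (.n .z (.n .z (.c 6))))) (.n (.n (.n (.c 4) (.c 5)) (.n .z (.n (.c 6) .z))) (.n (.n (.c 5) (.n (.c 2) (.c 3))) (.n (.c 3) (.n (.c 3) (.c 2)))))) (.n (.n (.n .z (.n .z (.n .z (.c 3)))) (.n (.n (.c 6) (.n .z (.c 6))) (.n (.c 3) (.n (.c 3) (.c 3))))) (.n (.n (.n (.c 3) .z) (.n (.c 3) (.n (.c 3) (.c 1)))) (.n (.n (.c 3) (.n (.c 4) (.c 4))) (.n (.c 5) (.n (.c 2) (.c 3)))))))) (.node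
 (.leaf (.n (.n (.n (.n (.n (.c 4) (.c 2)) (.n (.c 2) (.n (.c 3) (.c 3)))) (.n (.n (.c 2) (.n (.c 6) .z)) (.n .z (.n .z (.c 3))))) (.n (.n .z (.n (.c 1) (.n (.c 2) (.c 5)))) (.n (.n (.c 4) (.n (.c 1) (.c 2))) (.n (.c 4) .z)))) (.n (.n (.n (.n (.c 2) .z) (.n .z (.n (.c 5) (.c 2)))) (.n (.n (.c 2) (.n (.c 6) (.c 1))) (.n (.c 4) (.n .z (.c 5))))) (.n (.n (.n (.c 5) .z) (.n .z (.n (.c 1) (.c 3)))) (.n (.n (.c 1) (.n (.c 5) (.c 1))) (.n .z (.n (.c 3) .z))))))) (.leaf (.n (.n (.n (.n (.n (.c 6) .z) (.n (.c 3) (.n (.c 3) (.c 6)))) (.n (.n (.c 3) (.n (.c 1) .z)) (.n .z (.n .z (.c 1))))) (.n (.n (.n (.c 5) (.c 6)) (.n (.c 5) (.n (.c 4) (.c 4)))) (.n (.n (.c 1) (.n (.c 1) (.c 1))) (.n (.c 2) (.n .z (.c 1)))))) (.n (.n (.n (.n .z (.c 4)) (.n .z (.n (.c 3) (.c 5)))) (.n (.n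 (.c 5) (.n (.c 6) (.c 6))) (.n (.c 6) (.n (.c 1) (.c 4))))) (.n (.n (.n (.c 4) .z) (.n (.c 3) (.n (.c 4) (.c 3)))) (.n (.n (.c 5) (.n (.c 5) (.c 5))) (.n (.c 5) (.n (.c 6) (.c 3))))))))))) (.node
 (.node
 (.leaf (.n (.n (.n (.n (.n .z (.c 3)) (.n (.c 1) (.n (.c 3) (.c 1)))) (.n (.n (.c 5) (.n .z (.c 2))) (.n .z (.n .z (.c 6))))) (.n (.n (.n (.c 2) (.c 2)) (.n .z (.n (.c 2) (.c 6)))) (.n (.n (.c 5) (.n (.c 4) (.c 2))) (.n (.c 2) (.n (.c 2) (.c 5)))))) (.n (.n (.n (.n .z (.c 3)) (.n .z (.n .z (.c 1)))) (.n (.n (.c 1) (.n (.c 2) (.c 4))) (.n (.c 4) (.n (.c 5) (.c 6))))) (.n (.n (.n (.c 6) .z) (.n (.c 2) (.n (.c 5) (.c 6)))) (.n (.n (.c 5) (.n (.c 2) (.c 4))) (.n (.c 3) (.n (.c 4) .z))))))) (.node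
 (.leaf (.n (.n (.n (.n (.n (.c 3) (.c 3)) (.n .z (.n (.c 4) (.c 2)))) (.n (.n (.c 5) (.n (.c 1) (.c 2))) (.n .z (.n .z (.c 3))))) (.n (.n (.n (.c 2) (.c 1)) (.n .z (.n (.c 1) (.c 6)))) (.n (.n (.c 4) (.n (.c 4) (.c 2))) (.n (.c 4) (.n (.c 4) (.c 1)))))) (.n (.n (.n (.n (.c 1) (.c 2)) (.n .z (.n (.c 1) (.c 6)))) (.n (.n (.c 6) (.n (.c 2) (.c 3))) (.n (.c 1) (.n (.c 1) (.c 6))))) (.n (.n (.n (.c 6) .z) (.n (.c 3) (.n (.c 6) (.c 5)))) (.n (.n (.c 5) (.n (.c 4) (.c 1))) (.n (.c 5) (.n (.c 6) (.c 5)))))))) (.leaf (.n (.n (.n (.n (.n (.c 4) (.c 5)) (.n (.c 4) (.n .z (.c 1)))) (.n (.n (.c 3) (.n (.c 5) (.c 2))) (.n .z (.n (.c 5) .z)))) (.n (.n (.n (.c 2) .z) (.n .z (.n (.c 6) (.c 2)))) (.n (.n .z (.n (.c 2) (.c 6))) (.n (.c 3) (.n (.c 2) (.c 3)))))) (.n (.n (.n (.n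 (.c 3) (.c 4)) (.n .z (.n (.c 2) (.c 3)))) (.n (.n (.c 4) (.n (.c 2) (.c 3))) (.n (.c 5) (.n (.c 6) (.c 2))))) (.n (.n (.n (.c 2) .z) (.n (.c 3) (.n (.c 2) .z))) (.n (.n (.c 5) (.n (.c 1) (.c 1))) (.n (.c 3) (.n (.c 5) (.c 4)))))))))) (.node
 (.leaf (.n (.n (.n (.n (.n (.c 2) (.c 2)) (.n (.c 2) (.n (.c 1) (.c 4)))) (.n (.n (.c 6) (.n .z (.c 3))) (.n .z (.n .z (.c 3))))) (.n (.n (.n (.c 6) (.c 5)) (.n .z (.n .z (.c 2)))) (.n (.n (.c 3) (.n (.c 4) .z)) (.n (.c 2) (.n (.c 6) (.c 1)))))) (.n (.n (.n (.n (.c 6) (.c 3)) (.n .z (.n (.c 5) (.c 4)))) (.n (.n (.c 3) (.n (.c 6) (.c 4))) (.n (.c 2) (.n (.c 6) (.c 2))))) (.n (.n (.n (.c 2) (.n (.c 6) .z)) (.n (.c 3) (.n (.c 3) (.c 3)))) (.n (.n .z (.n (.c 3) (.c 2))) (.n (.c 4) (.n .z (.c 4)))))))) (.node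
 (.leaf (.n (.n (.n (.n (.n (.c 5) (.c 1)) (.n (.c 6) (.n (.c 4) (.c 5)))) (.n (.n (.c 5) (.n (.c 5) .z)) (.n .z (.n .z (.c 1))))) (.n (.n (.n (.c 6) (.c 3)) (.n .z (.n (.c 6) (.c 4)))) (.n (.n (.c 5) (.n (.c 3) (.c 4))) (.n (.c 6) (.n .z (.c 6)))))) (.n (.n (.n (.n .z (.c 6)) (.n .z (.n (.c 6) (.c 5)))) (.n (.n (.c 5) (.n (.c 2) (.c 6))) (.n (.c 5) (.n (.c 3) (.c 1))))) (.n (.n (.n (.c 1) .z) (.n (.c 6) (.n (.c 2) (.c 6)))) (.n (.n (.c 5) (.n (.c 3) (.c 3))) (.n (.c 5) (.n (.c 3) (.c 2)))))))) (.leaf (.n (.n (.n (.n (.n (.c 6) (.c 2)) (.n (.c 1) (.n (.c 1) .z))) (.n (.n (.c 5) .z) (.n .z (.n .z (.c 5))))) (.n (.n (.n (.c 4) (.c 5)) (.n .z (.n (.c 1) .z))) (.n (.n (.c 5) (.n (.c 4) (.c 1))) (.n (.c 2) (.n .z (.c 5)))))) (.n (.n (.n (.n (.c 6) (.c 1)) (.n .z (.n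 .z (.c 4)))) (.n (.n (.c 4) (.n (.c 1) (.c 2))) (.n .z (.n (.c 2) (.c 1))))) (.n (.n (.n (.c 1) .z) (.n (.c 5) (.n (.c 5) (.c 6)))) (.n (.n (.c 6) (.n (.c 6) .z)) (.n .z (.n (.c 3) (.c 5)))))))))))) (.node
 (.node
 (.node
 (.leaf (.n (.n (.n (.n (.n (.c 5) (.c 2)) (.n (.c 5) (.n (.c 4) (.c 6)))) (.n (.n .z (.n (.c 3) (.c 3))) (.n .z (.n .z (.c 2))))) (.n (.n (.n (.c 4) .z) (.n .z (.n (.c 6) (.c 5)))) (.n (.n .z (.n (.c 2) (.c 3))) (.n (.c 3) (.n (.c 6) .z))))) (.n (.n (.n (.n (.c 1) (.c 2)) (.n .z (.n (.c 3) .z))) (.n (.n .z (.n (.c 3) .z)) (.n (.c 5) (.n .z (.c 1))))) (.n (.n (.n (.c 1) .z) (.n (.c 4) (.n (.c 6) (.c 6)))) (.n (.n (.c 1) (.n .z (.c 5))) (.n (.c 5) (.n (.c 2) (.c 4)))))))) (.leaf (.n (.n (.n (.n (.n .z (.c 4)) (.n (.c 3) (.n (.c 2) (.c 5)))) (.n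 (.n .z (.n (.c 3) (.c 2))) (.n .z (.n (.c 1) (.c 1))))) (.n (.n (.n (.c 6) (.c 2)) (.n .z (.n (.c 6) .z))) (.n (.n (.c 5) (.n (.c 3) (.c 5))) (.n (.c 5) (.n (.c 2) (.c 5)))))) (.n (.n (.n (.n (.c 4) (.c 3)) (.n .z (.n (.c 1) (.c 2)))) (.n (.n (.c 2) (.n (.c 2) (.c 1))) (.n .z (.n (.c 5) (.c 2))))) (.n (.n (.n (.c 2) .z) (.n (.c 3) (.n (.c 6) (.c 3)))) (.n (.n (.c 5) (.n (.c 6) (.c 5))) (.n (.c 6) (.n (.c 2) .z)))))))) (.node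
 (.leaf (.n (.n (.n (.n (.n (.c 1) (.c 4)) (.n (.c 6) (.n (.c 2) .z))) (.n (.n .z (.n .z (.c 4))) (.n .z (.n .z (.c 6))))) (.n (.n (.n (.c 6) (.c 5)) (.n .z (.n (.c 4) (.c 3)))) (.n (.n (.c 4) (.n .z (.c 5))) (.n (.c 3) (.n (.c 2) (.c 5)))))) (.n (.n (.n (.n (.c 1) .z) (.n .z (.n (.c 6) (.c 3)))) (.n (.n (.c 3) (.n .z (.c 5))) (.n (.c 5) (.n .z (.c 1))))) (.n (.n (.n (.c 1) .z) (.n (.c 2) (.n (.c 4) (.c 6)))) (.n (.n (.c 3) (.n (.c 3) (.c 4))) (.n (.c 1) (.n (.c 1) .z))))))) (.node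
 (.leaf (.n (.n (.n (.n (.n (.c 1) (.c 5)) (.n (.c 2) (.n (.c 5) (.c 3)))) (.n (.n (.c 4) (.n .z (.c 4))) (.n .z (.n .z (.c 4))))) (.n (.n (.n (.c 6) (.c 2)) (.n .z (.n (.c 2) (.c 3)))) (.n (.n (.c 6) (.n (.c 6) (.c 4))) (.n (.c 6) (.n .z (.c 1)))))) (.n (.n (.n (.n (.c 1) (.c 3)) (.n .z (.n (.c 5) (.c 1)))) (.n (.n (.c 1) (.n (.c 2) (.c 4))) (.n (.c 2) (.n (.c 3) (.c 2))))) (.n (.n (.n (.c 2) .z) (.n (.c 3) (.n (.c 2) (.c 2)))) (.n (.n (.c 5) (.n (.c 4) (.c 1))) (.n (.c 5) (.n (.c 3) (.c 2)))))))) (.leaf (.n (.n (.n (.n (.n .z (.c 2)) (.n (.c 3) (.n (.c 6) (.c 5)))) (.n (.n (.c 1) (.n (.c 6) (.c 1))) (.n .z (.n .z (.c 6))))) (.n (.n (.n (.c 4) (.c 6)) (.n .z (.n .z (.c 3)))) (.n (.n (.c 4) (.n (.c 5) (.c 5))) (.n (.c 3) (.n (.c 2) (.c 1)))))) (.n (.n (.n (.n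 (.c 4) .z) (.n .z (.n (.c 1) (.c 3)))) (.n (.n (.c 3) (.n (.c 2) (.c 5))) (.n (.c 1) (.n (.c 3) (.c 5))))) (.n (.n (.n (.c 5) .z) (.n (.c 3) (.n (.c 5) (.c 4)))) (.n (.n (.c 6) (.n (.c 2) (.c 1))) (.n (.c 2) (.n (.c 4) (.c 3))))))))))) (.node
 (.node
 (.leaf (.n (.n (.n (.n (.n (.c 3) .z) (.n .z (.n (.c 6) .z))) (.n (.n (.c 2) (.n (.c 6) (.c 6))) (.n .z (.n .z (.c 3))))) (.n (.n (.n (.c 6) (.c 3)) .z) (.n (.n (.c 2) (.n (.c 4) (.c 3))) (.n .z (.n .z (.c 6)))))) (.n (.n (.n (.n (.c 2) (.c 1)) (.n .z (.n (.c 1) (.c 4)))) (.n (.n (.c 4) (.n (.c 2) (.c 2))) (.n (.c 5) (.n .z (.c 1))))) (.n (.n (.n (.c 1) .z) (.n (.c 3) (.n (.c 4) (.c 4)))) (.n (.n (.c 2) (.n (.c 2) (.c 3))) (.n .z (.n (.c 2) .z))))))) (.node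
 (.leaf (.n (.n (.n (.n (.n (.c 2) (.c 5)) (.n (.c 2) (.n (.c 4) (.c 5)))) (.n (.n (.c 1) (.n (.c 1) (.c 5))) (.n .z (.n .z (.c 3))))) (.n (.n (.n (.c 5) (.c 5)) (.n .z (.n (.c 6) (.c 2)))) (.n (.n (.c 6) (.n (.c 5) (.c 1))) (.n (.c 3) (.n (.c 6) .z))))) (.n (.n (.n (.n (.c 6) (.c 5)) (.n .z (.n (.c 1) .z))) (.n (.n .z (.n (.c 4) .z)) (.n (.c 1) (.n .z (.c 3))))) (.n (.n (.n (.c 3) .z) (.n (.c 2) (.n .z (.c 4)))) (.n (.n (.c 4) (.n (.c 3) (.c 3))) (.n (.c 2) (.n (.c 5) .z))))))) (.leaf (.n (.n (.n (.n (.n (.c 6) (.c 5)) (.n (.c 2) (.n (.c 4) (.c 1)))) (.n (.n (.c 6) (.n (.c 6) .z)) (.n .z (.n .z (.c 2))))) (.n (.n (.n .z (.c 5)) (.n .z (.n (.c 3) (.c 2)))) (.n (.n (.c 3) (.n .z (.c 5))) (.n (.c 6) (.n (.c 4) (.c 6)))))) (.n (.n (.n (.n (.c 1) (.c 5)) (.n .z (.n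 .z (.c 1)))) (.n (.n (.c 1) (.n .z (.c 4))) (.n (.c 2) (.n .z (.c 6))))) (.n (.n (.n (.c 6) .z) (.n (.c 2) (.n (.c 4) .z))) (.n (.n (.c 1) (.n (.c 3) .z)) (.n (.c 5) .z)))))))) (.node
 (.leaf (.n (.n (.n (.n (.n (.c 3) (.c 3)) (.n (.c 3) (.n (.c 4) (.c 2)))) (.n (.n .z (.n (.c 6) .z)) (.n .z (.n .z (.c 4))))) (.n (.n (.n (.c 3) (.c 3)) (.n .z (.n (.c 2) .z))) (.n (.n (.c 2) (.n (.c 4) (.c 1))) (.n (.c 5) (.n (.c 6) .z))))) (.n (.n (.n (.n (.c 1) (.c 1)) (.n .z (.n (.c 2) .z))) (.n (.n .z (.n (.c 1) .z)) (.n (.c 4) (.n (.c 6) (.c 6))))) (.n (.n (.n (.c 6) .z) (.n (.c 2) (.n (.c 2) .z))) (.n (.n (.c 5) (.n (.c 5) (.c 1))) (.n (.c 5) (.n (.c 4) .z))))))) (.node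
 (.leaf (.n (.n (.n (.n (.n (.c 1) (.c 5)) (.n (.c 1) (.n (.c 1) (.c 1)))) (.n (.n (.c 3) (.n (.c 2) (.c 3))) (.n .z (.n (.c 5) (.c 3))))) (.n (.n (.n (.c 1) .z) (.n .z (.n (.c 5) (.c 6)))) (.n (.n (.c 6) (.n (.c 1) (.c 6))) (.n (.c 1) (.n (.c 3) (.c 1)))))) (.n (.n (.n (.n (.c 3) (.c 6)) (.n .z (.n .z (.c 3)))) (.n (.n (.c 3) (.n (.c 5) (.c 5))) (.n (.c 6) .z))) (.n (.n .z (.n (.c 6) (.n (.c 4) (.c 1)))) (.n (.n (.c 2) (.n (.c 4) (.c 1))) (.n (.c 1) (.n (.c 4) (.c 5)))))))) (.leaf (.n (.n (.n (.n (.n .z (.c 4)) (.n .z (.n (.c 1) (.c 1)))) (.n (.n (.c 2) (.n (.c 5) (.c 3))) .z)) (.n (.n (.n (.c 6) (.c 3)) (.n .z (.n (.c 2) (.c 5)))) (.n (.n (.c 4) (.n (.c 1) (.c 3))) (.n (.c 5) (.n (.c 6) (.c 6)))))) (.n (.n (.n (.n (.c 3) (.c 4)) (.n .z (.n (.c 6) (.c 2)))) (.n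 (.n (.c 2) (.n (.c 5) (.c 1))) (.n (.c 5) (.n .z (.c 5))))) (.n (.n (.n (.c 5) .z) (.n (.c 6) (.n (.c 4) (.c 4)))) (.n (.n (.c 4) (.n .z (.c 4))) (.n (.c 5) (.n (.c 6) (.c 2))))))))))))) (.node
 (.node
 (.node
 (.node
 (.leaf (.n (.n (.n (.n (.n (.c 2) (.c 6)) (.n (.c 6) (.n (.c 3) (.c 2)))) (.n (.n (.c 2) (.n (.c 4) (.c 4))) (.n .z (.n .z (.c 3))))) (.n (.n (.n (.c 3) (.c 6)) (.n .z (.n (.c 5) (.c 6)))) (.n (.n (.c 1) (.n (.c 3) (.c 6))) (.n (.c 3) (.n (.c 4) .z))))) (.n (.n (.n (.n (.c 1) (.c 5)) (.n .z (.n (.c 2) .z))) (.n (.n .z (.n (.c 1) .z)) (.n (.c 2) (.n (.c 3) (.c 5))))) (.n (.n (.n (.c 5) .z) (.n (.c 5) (.n (.c 6) (.c 1)))) (.n (.n (.c 4) (.n (.c 6) (.c 3))) (.n (.c 6) (.n (.c 6) (.c 1)))))))) (.leaf (.n (.n (.n (.n (.n .z (.c 4)) (.n (.c 6) (.n .z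 (.c 4)))) (.n (.n (.c 4) (.n (.c 5) (.c 6))) (.n .z (.n (.c 2) (.c 5))))) (.n (.n (.n (.c 4) (.c 4)) (.n .z (.n (.c 6) (.c 4)))) (.n (.n .z (.n (.c 2) (.c 2))) (.n (.c 6) (.n (.c 6) (.c 6)))))) (.n (.n (.n (.n (.c 5) (.c 3)) (.n .z (.n (.c 4) (.c 1)))) (.n (.n (.c 1) (.n .z (.c 4))) (.n (.c 4) (.n (.c 3) (.c 5))))) (.n (.n (.n (.c 5) .z) (.n (.c 5) (.n .z (.c 1)))) (.n (.n (.c 1) (.n (.c 1) (.c 2))) (.n (.c 3) (.n (.c 4) (.c 6))))))))) (.node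
 (.leaf (.n (.n (.n (.n (.n (.c 2) (.c 4)) (.n (.c 3) (.n (.c 5) (.c 1)))) (.n (.n (.c 6) (.n (.c 4) (.c 5))) .z)) (.n (.n (.n (.c 3) (.c 3)) (.n .z (.n (.c 1) (.c 2)))) (.n (.n .z (.n (.c 2) (.c 5))) (.n (.c 2) (.n (.c 4) (.c 6)))))) (.n (.n (.n (.n (.c 1) (.c 4)) (.n .z (.n (.c 3) (.c 2)))) (.n (.n (.c 2) (.n (.c 3) (.c 1))) (.n .z (.n (.c 3) (.c 1))))) (.n (.n (.n (.c 1) (.n .z (.c 1))) (.n (.c 6) (.n (.c 4) (.c 6)))) (.n (.n (.c 5) (.n (.c 3) (.c 2))) (.n (.c 3) (.n (.c 6) (.c 5)))))))) (.node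
 (.leaf (.n (.n (.n (.n (.n (.c 1) .z) (.n (.c 2) (.n (.c 2) .z))) (.n (.n (.c 1) (.n (.c 2) (.c 1))) (.n .z (.n .z (.c 2))))) (.n (.n (.n .z (.c 6)) (.n .z (.n .z (.c 2)))) (.n (.n (.c 2) (.n (.c 2) (.c 3))) (.n (.c 6) (.n (.c 5) .z))))) (.n (.n (.n (.n (.c 6) (.c 3)) .z) (.n (.n .z (.n (.c 6) .z)) (.n (.c 5) (.n (.c 3) (.c 4))))) (.n (.n (.n (.c 4) .z) (.n (.c 1) (.n (.c 6) (.c 1)))) (.n (.n (.c 6) (.n (.c 2) (.c 4))) (.n .z (.n (.c 2) (.c 4)))))))) (.leaf (.n (.n (.n (.n (.n (.c 5) (.c 6)) (.n (.c 5) (.n .z (.c 1)))) (.n (.n (.c 6) (.n (.c 6) (.c 2))) (.n .z (.n .z (.c 2))))) (.n (.n (.n (.c 2) (.c 5)) (.n .z (.n .z (.c 6)))) (.n (.n (.c 6) (.n (.c 6) (.c 6))) (.n .z (.n (.c 6) .z))))) (.n (.n (.n (.n (.c 2) (.c 2)) (.n .z (.n (.c 6) .z))) (.n .z (.n .z (.n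 (.c 2) (.c 2))))) (.n (.n (.n (.c 6) .z) (.n .z (.n (.c 2) .z))) (.n (.n .z (.n (.c 1) (.c 1))) (.n .z (.n (.c 3) (.c 2))))))))))) (.node
 (.node
 (.leaf (.n (.n (.n (.n (.n (.c 6) (.c 1)) (.n (.c 1) (.n (.c 3) .z))) (.n (.n .z (.n (.c 1) (.c 2))) (.n .z (.n .z (.c 4))))) (.n (.n (.n (.c 5) (.c 4)) (.n .z (.n .z (.c 5)))) (.n (.n (.c 4) (.n (.c 6) (.c 5))) (.n (.c 2) (.n (.c 5) .z))))) (.n (.n (.n (.n (.c 1) (.c 5)) (.n .z (.n (.c 6) .z))) (.n .z (.n (.c 5) .z))) (.n (.n (.n (.c 1) .z) (.n (.c 6) (.n (.c 2) (.c 3)))) (.n (.n (.c 1) (.n (.c 5) (.c 3))) (.n (.c 1) (.n .z (.c 3)))))))) (.node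
 (.leaf (.n (.n (.n (.n (.n (.c 2) .z) (.n (.c 3) (.n .z (.c 5)))) (.n (.n (.c 4) (.n (.c 5) .z)) .z)) (.n (.n (.n (.c 3) (.c 6)) (.n .z (.n .z (.c 4)))) (.n (.n (.c 3) (.n (.c 2) (.c 6))) (.n (.c 1) (.n (.c 6) .z))))) (.n (.n (.n (.n .z (.c 3)) (.n .z (.n (.c 1) .z))) (.n (.n .z (.n (.c 3) .z)) (.n (.c 6) (.n (.c 5) (.c 2))))) (.n (.n (.n (.c 2) .z) (.n (.c 2) (.n .z (.c 2)))) (.n (.n (.c 6) (.n (.c 1) (.c 6))) (.n (.c 2) (.n (.c 1) (.c 6)))))))) (.leaf (.n (.n (.n (.n (.n (.c 2) .z) (.n (.c 3) (.n (.c 6) (.c 1)))) (.n (.n (.c 1) (.n (.c 3) (.c 3))) (.n .z (.n .z (.c 1))))) (.n (.n (.n (.c 2) (.c 5)) (.n .z (.n (.c 5) (.c 1)))) (.n (.n (.c 3) (.n (.c 6) (.c 2))) (.n (.c 4) (.n (.c 1) (.c 2)))))) (.n (.n (.n (.n .z (.c 5)) (.n .z (.n (.c 2) (.c 5)))) (.n (.n (.c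 5) (.n (.c 1) (.c 6))) (.n (.c 5) (.n (.c 2) (.c 1))))) (.n (.n (.n (.c 5) .z) (.n .z (.n (.c 5) (.c 5)))) (.n (.n (.c 3) (.n (.c 1) .z)) (.n (.c 4) (.n (.c 2) (.c 1)))))))))) (.node
 (.leaf (.n (.n (.n (.n .z (.n (.c 1) (.n (.c 3) (.c 5)))) (.n (.n (.c 4) (.n (.c 6) .z)) (.n .z (.n .z (.c 5))))) (.n (.n (.n (.c 5) (.c 1)) (.n .z (.n (.c 6) (.c 3)))) (.n (.n (.c 2) (.n (.c 6) (.c 1))) (.n (.c 3) (.n .z (.c 6)))))) (.n (.n (.n (.n (.c 6) (.c 3)) (.n .z (.n (.c 2) (.c 1)))) (.n (.n (.c 1) (.n (.c 6) (.c 4))) (.n (.c 6) (.n (.c 2) (.c 5))))) (.n (.n (.n (.c 5) .z) (.n .z (.n (.c 2) (.c 1)))) (.n (.n (.c 1) (.n (.c 6) (.c 6))) (.n (.c 5) (.n (.c 4) .z))))))) (.node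
 (.leaf (.n (.n (.n (.n (.n .z (.c 4)) (.n (.c 1) (.n .z (.c 4)))) (.n (.n .z (.n (.c 2) (.c 3))) (.n .z (.n .z (.c 2))))) (.n (.n (.n (.c 1) (.c 6)) (.n .z (.n (.c 1) (.c 5)))) (.n (.n (.c 2) (.n (.c 1) (.c 1))) (.n (.c 1) (.n (.c 2) .z))))) (.n (.n (.n (.n (.c 4) (.c 2)) (.n .z (.n (.c 1) .z))) (.n (.n .z (.n (.c 1) .z)) (.n (.c 4) (.n (.c 6) (.c 3))))) (.n (.n (.n (.c 3) .z) (.n (.c 4) (.n (.c 6) (.c 5)))) (.n (.n (.c 1) (.n (.c 1) (.c 4))) (.n (.c 3) (.n (.c 6) (.c 3)))))))) (.leaf (.n (.n (.n (.n (.n (.c 1) (.c 3)) (.n (.c 4) (.n (.c 2) (.c 3)))) (.n (.n (.c 4) (.n (.c 3) (.c 5))) (.n .z (.n .z (.c 1))))) (.n (.n (.n (.c 4) (.c 6)) (.n .z (.n (.c 4) .z))) (.n (.n (.c 4) (.n (.c 3) (.c 3))) (.n (.c 6) (.n .z (.c 6)))))) (.n (.n (.n (.n (.c 4) (.c 2)) (.n .z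 (.n (.c 4) (.c 3)))) (.n (.n (.c 4) (.n (.c 6) (.c 1))) (.n .z (.n (.c 2) (.c 2))))) (.n (.n (.n (.c 2) .z) (.n (.c 3) (.n (.c 1) (.c 5)))) (.n (.n (.c 3) (.n (.c 6) (.c 4))) (.n (.c 5) (.n (.c 5) .z))))))))))) (.node
 (.node
 (.node
 (.leaf (.n (.n (.n (.n (.n (.c 1) (.c 3)) (.n (.c 5) (.n (.c 5) (.c 1)))) (.n (.n (.c 5) (.n (.c 1) (.c 4))) (.n .z (.n .z (.c 6))))) (.n (.n (.n (.c 1) (.c 2)) (.n .z (.n (.c 1) (.c 1)))) (.n (.n (.c 1) (.n (.c 2) (.c 5))) (.n (.c 4) (.n (.c 4) (.c 4)))))) (.n (.n (.n .z (.n .z (.n (.c 1) (.c 4)))) (.n (.n (.c 1) (.n (.c 2) (.c 3))) (.n (.c 2) (.n (.c 6) (.c 3))))) (.n (.n (.n (.c 3) .z) (.n (.c 5) (.n (.c 3) (.c 1)))) (.n (.n (.c 2) (.n (.c 3) (.c 4))) (.n (.c 5) (.n (.c 2) (.c 6)))))))) (.node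
 (.leaf (.n (.n (.n (.n (.n (.c 2) (.c 6)) (.n .z (.n (.c 4) (.c 6)))) (.n (.n (.c 2) (.n (.c 1) (.c 6))) (.n (.c 6) (.n .z (.c 4))))) (.n (.n (.n .z (.c 4)) (.n .z (.n (.c 2) (.c 3)))) (.n (.n (.c 1) (.n .z (.c 3))) (.n (.c 1) (.n (.c 1) (.c 5)))))) (.n (.n (.n (.n (.c 4) (.c 5)) (.n .z (.n .z (.c 6)))) (.n (.n (.c 6) (.n .z (.c 3))) (.n .z (.n (.c 4) (.c 1))))) (.n (.n (.n (.c 1) .z) (.n (.c 4) (.n (.c 4) (.c 3)))) (.n (.n (.c 4) (.n .z (.c 2))) (.n (.c 4) (.n (.c 1) (.c 4)))))))) (.leaf (.n (.n (.n (.n (.n (.c 1) (.c 4)) (.n (.c 3) (.n (.c 5) (.c 2)))) (.n (.n (.c 3) (.n (.c 3) (.c 5))) (.n .z (.n .z (.c 4))))) (.n (.n (.n .z (.c 6)) (.n .z (.n (.c 5) (.c 5)))) (.n (.n (.c 4) (.n (.c 1) (.c 3))) (.n (.c 3) (.n .z (.c 5)))))) (.n (.n (.n (.n (.c 5) (.c 2)) (.n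 (.c 1) (.n (.c 6) (.c 6)))) (.n (.n (.c 6) (.n (.c 1) (.c 3))) (.n (.c 1) (.n (.c 1) (.c 4))))) (.n (.n (.n (.c 4) .z) (.n (.c 2) (.n (.c 1) (.c 2)))) (.n (.n (.c 6) (.n (.c 5) (.c 5))) (.n (.c 6) (.n (.c 3) (.c 3)))))))))) (.node
 (.leaf (.n (.n (.n (.n (.n (.c 5) .z) (.n .z (.n .z (.c 2)))) (.n (.n (.c 6) (.n (.c 3) (.c 6))) .z)) (.n (.n (.n (.c 4) (.c 4)) (.n .z (.n (.c 3) (.c 6)))) (.n (.n (.c 5) (.n (.c 2) (.c 6))) (.n .z (.n (.c 5) (.c 2)))))) (.n (.n (.n (.n (.c 4) (.c 2)) (.n .z (.n (.c 4) (.c 1)))) (.n (.n (.c 1) (.n (.c 5) (.c 4))) (.n .z (.n .z (.c 2))))) (.n (.n (.n (.c 2) .z) (.n .z (.n (.c 5) (.c 5)))) (.n (.n (.c 4) (.n (.c 6) (.c 6))) (.n (.c 4) (.n (.c 6) .z))))))) (.node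
 (.leaf (.n .z (.n .z (.n (.n .z (.n .z (.n (.c 6) (.c 2)))) (.n (.n (.c 3) (.n (.c 4) (.c 3))) (.n (.c 5) (.n (.c 1) (.c 1)))))))) (.leaf (.n .z (.n .z (.n (.n .z (.n .z (.n (.c 5) (.c 4)))) (.n (.n (.c 3) (.n (.c 4) (.c 1))) (.n (.c 4) (.n (.c 4) (.c 6))))))))))) (.node
 (.node
 (.leaf (.n .z (.n .z (.n (.n .z (.n .z (.n (.c 3) (.c 4)))) (.n (.n (.c 6) (.n (.c 2) (.c 5))) (.n (.c 3) (.n (.c 1) (.c 1)))))))) (.node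
 (.leaf (.n .z (.n .z (.n (.n .z (.n .z (.n (.c 3) (.c 4)))) (.n (.n (.c 5) (.n (.c 4) (.c 4))) (.n (.c 1) (.n (.c 6) (.c 4)))))))) (.leaf (.n .z (.n .z (.n (.n .z (.n .z (.n (.c 4) (.c 1)))) (.n (.n (.c 2) (.n (.c 4) (.c 4))) (.n (.c 4) (.n (.c 3) (.c 1)))))))))) (.node
 (.leaf (.n .z (.n .z (.n (.n .z (.n .z (.n (.c 2) (.c 4)))) (.n (.n (.c 4) (.n (.c 1) (.c 4))) (.n (.c 4) (.n (.c 1) (.c 3)))))))) (.node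
 (.leaf (.n .z (.n .z (.n (.n .z (.n .z (.n (.c 5) (.c 4)))) (.n (.n (.c 5) (.n (.c 2) (.c 3))) (.n (.c 5) (.n (.c 6) (.c 2)))))))) (.leaf (.n .z (.n .z (.n (.n .z (.n .z (.n (.c 5) (.c 2)))) (.n (.n (.c 5) (.n (.c 4) (.c 5))) (.n (.c 3) (.n (.c 2) (.c 6))))))))))))))

/-- the rows of letter 2 -/
def rows2 : RT CT := (.node
 (.node
 (.node
 (.node
 (.node
 (.leaf (.n (.n (.n (.n (.n (.c 5) (.c 2)) (.n (.c 6) (.n (.c 2) (.c 3)))) (.n (.n (.c 6) (.n (.c 3) (.c 5))) (.n (.c 6) (.n .z (.c 3))))) (.n (.n (.n (.c 2) (.c 6)) (.n (.c 6) (.n (.c 2) (.c 6)))) (.n (.n (.c 1) (.n (.c 5) (.c 2))) (.n (.c 1) (.n (.c 6) (.c 5)))))) (.n (.n (.n (.n (.c 3) (.c 1)) (.n .z (.n (.c 4) (.c 4)))) (.n (.n (.c 2) (.n (.c 4) (.c 3))) (.n (.c 4) (.n (.c 5) (.c 6))))) (.n (.n (.n (.c 1)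 (.n .z (.c 2))) (.n (.c 4) (.n (.c 5) (.c 4)))) (.n (.n (.c 2) (.n (.c 1) (.c 3))) (.n (.c 6) .z)))))) (.leaf (.n (.n (.n (.n (.n .z (.c 1)) (.n (.c 5) (.n (.c 6) (.c 5)))) (.n (.n (.c 4) (.n (.c 1) (.c 1))) (.n (.c 5) (.n .z (.c 4))))) (.n (.n (.n .z (.c 2)) (.n (.c 4) (.n (.c 1) (.c 5)))) (.n (.n (.c 3) (.n (.c 4) (.c 6))) (.n (.c 3) (.n (.c 6) .z))))) (.n (.n (.n (.n (.c 4) (.c 6)) (.n (.c 4) (.n (.c 5) (.c 3)))) (.n (.n (.c 6) (.n (.c 3) (.c 1))) (.n (.c 4) (.n (.c 1) (.c 2))))) (.n (.n (.n (.c 2) (.n (.c 6) .z)) (.n (.c 6) (.n (.c 4) (.c 5)))) (.n (.n (.c 3) (.n (.c 5) (.c 2))) (.n (.c 2) .z))))))) (.node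
 (.leaf (.n (.n (.n (.n (.n (.c 2) (.c 2)) (.n .z (.n (.c 1) (.c 2)))) (.n (.n (.c 4) (.n .z (.c 6))) (.n .z (.n (.c 1) (.c 6))))) (.n (.n (.n (.c 4) .z) (.n (.c 6) (.n (.c 6) .z))) (.n (.n (.c 2) (.n (.c 6) (.c 2))) (.n (.c 5) (.n (.c 1) (.c 4)))))) (.n (.n (.n (.n (.c 3) (.c 1)) (.n (.c 4) (.n (.c 1) (.c 5)))) (.n (.n (.c 4) (.n (.c 6) (.c 5))) (.n (.c 5) (.n (.c 3) .z)))) (.n (.n (.n (.c 4) (.n (.c 2) (.c 3))) (.n (.c 5) (.n (.c 1) (.c 2)))) (.n (.n (.c 6) (.n (.c 3) (.c 5))) (.n (.c 4) .z)))))) (.node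
 (.leaf (.n (.n (.n (.n (.n .z (.c 6)) (.n (.c 2) (.n .z (.c 5)))) (.n (.n (.c 6) (.n (.c 5) .z)) (.n (.c 2) (.n (.c 3) (.c 3))))) (.n (.n (.n (.c 4) (.c 4)) (.n (.c 1) (.n (.c 6) (.c 2)))) (.n (.n (.c 6) (.n (.c 2) (.c 2))) (.n (.c 6) (.n (.c 1) (.c 1)))))) (.n (.n (.n (.n (.c 2) (.c 6)) (.n (.c 4) (.n (.c 1) (.c 2)))) (.n (.n (.c 1) (.n .z (.c 5))) (.n (.c 2) (.n .z (.c 2))))) (.n (.n (.n (.c 4) (.n (.c 3) (.c 3))) (.n (.c 5) (.n (.c 4) (.c 6)))) (.n (.n (.c 3) (.n (.c 6) (.c 1))) (.n (.c 1) .z)))))) (.leaf (.n (.n (.n (.n (.n (.c 4) (.c 2)) (.n (.c 3) (.n (.c 4) .z))) (.n (.n (.c 2) (.n (.c 4) (.c 1))) (.n (.c 3) (.n (.c 1) (.c 1))))) (.n (.n (.n (.c 4) (.c 4)) (.n (.c 2) (.n (.c 2) .z))) (.n (.n (.c 1) (.n (.c 3) (.c 6))) (.n (.c 3) (.n (.c 3) (.c 3))))))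 (.n (.n (.n (.n (.c 5) (.c 2)) (.n (.c 4) (.n (.c 2) (.c 1)))) (.n (.n (.c 6) (.n (.c 3) .z)) (.n (.c 6) (.n (.c 1) (.c 4))))) (.n (.n (.n (.c 3) (.n (.c 1) (.c 2))) (.n (.c 5) (.n .z (.c 1)))) (.n (.n .z (.n (.c 3) (.c 6))) (.n (.c 4) .z))))))))) (.node
 (.node
 (.leaf (.n (.n (.n (.n (.n (.c 3) (.c 6)) (.n (.c 5) (.n (.c 1) (.c 3)))) (.n (.n (.c 4) (.n (.c 2) (.c 3))) (.n (.c 5) (.n (.c 6) (.c 6))))) (.n (.n (.n (.c 5) .z) (.n (.c 1) (.n (.c 6) .z))) (.n (.n .z (.n (.c 3) (.c 2))) (.n .z (.n (.c 4) (.c 5)))))) (.n (.n (.n (.n (.c 3) (.c 1)) (.n (.c 2) (.n (.c 4) (.c 2)))) (.n (.n (.c 2) (.n (.c 2) (.c 2))) (.n (.c 2) (.n (.c 5) .z)))) (.n (.n (.n (.c 1) (.n (.c 5) (.c 1))) (.n (.c 1) (.n (.c 6) .z))) (.n (.n (.c 1) (.n (.c 6) .z)) (.n (.c 1) .z)))))) (.node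
 (.leaf (.n (.n (.n (.n (.n (.c 2) (.c 1)) (.n (.c 5) (.n (.c 4) (.c 2)))) (.n (.n (.c 3) (.n (.c 1) (.c 5))) (.n (.c 6) (.n (.c 3) (.c 3))))) (.n (.n (.n (.c 4) (.c 1)) (.n .z (.n (.c 5) (.c 1)))) (.n (.n (.c 5) (.n (.c 5) (.c 5))) (.n (.c 1) (.n (.c 6) (.c 2)))))) (.n (.n (.n .z (.n (.c 1) (.n (.c 1) (.c 6)))) (.n (.n .z (.n (.c 3) (.c 5))) (.n (.c 1) (.n (.c 1) (.c 6))))) (.n (.n (.n (.c 5) (.n (.c 2) (.c 4))) (.n (.c 6) (.n (.c 2) (.c 6)))) (.n (.n (.c 5) (.n (.c 3) (.c 1))) (.n (.c 4) .z)))))) (.leaf (.n (.n (.n (.n (.n (.c 3) (.c 3)) (.n (.c 3) (.n (.c 6) (.c 3)))) (.n (.n (.c 4) (.n (.c 2) (.c 2))) (.n (.c 6) (.n (.c 1) .z)))) (.n (.n .z (.n (.c 4) (.n (.c 1) (.c 3)))) (.n (.n .z (.n (.c 6) (.c 1))) (.n (.c 6) (.n .z (.c 6)))))) (.n (.n (.n (.n (.c 1) (.c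 2)) (.n (.c 1) (.n (.c 3) (.c 1)))) (.n (.n .z (.n (.c 1) (.c 4))) (.n (.c 4) (.n (.c 6) (.c 5))))) (.n (.n (.n (.c 4) (.n (.c 6) (.c 5))) (.n (.c 5) (.n (.c 5) (.c 4)))) (.n (.n (.c 2) (.n .z (.c 3))) .z))))))) (.node
 (.leaf (.n (.n (.n (.n (.n (.c 5) (.c 2)) (.n (.c 6) (.n (.c 3) (.c 1)))) (.n (.n (.c 5) (.n .z (.c 6))) (.n (.c 6) (.n (.c 6) (.c 3))))) (.n (.n (.n (.c 1) (.c 4)) (.n (.c 6) (.n (.c 1) (.c 6)))) (.n (.n (.c 1) (.n (.c 2) (.c 2))) (.n (.c 2) (.n (.c 6) .z))))) (.n (.n (.n (.n (.c 5) (.c 3)) (.n (.c 5) (.n (.c 6) .z))) (.n (.n .z (.n (.c 6) (.c 2))) (.n (.c 5) (.n (.c 6) (.c 2))))) (.n (.n (.n (.c 1) (.n .z (.c 4))) (.n (.c 3) (.n (.c 5) (.c 6)))) (.n (.n (.c 2) (.n (.c 3) (.c 1))) (.n (.c 4) .z)))))) (.node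
 (.leaf (.n (.n (.n (.n (.n (.c 1) (.c 1)) (.n (.c 5) (.n (.c 2) (.c 1)))) (.n (.n (.c 4) (.n (.c 6) (.c 1))) (.n (.c 5) (.n (.c 5) (.c 1))))) (.n (.n (.n (.c 6) (.c 1)) (.n (.c 1) (.n (.c 5) .z))) (.n (.n (.c 3) (.n (.c 6) (.c 1))) (.n (.c 1) (.n (.c 6) (.c 5)))))) (.n (.n (.n (.n (.c 4) (.c 2)) (.n (.c 2) (.n (.c 2) (.c 2)))) (.n (.n (.c 4) (.n (.c 3) (.c 2))) (.n (.c 4) (.n (.c 3) (.c 1))))) (.n (.n (.n (.c 5) (.n (.c 1) (.c 3))) (.n (.c 1) (.n (.c 4) (.c 4)))) (.n (.n (.c 3) (.n (.c 3) (.c 3))) (.n (.c 4) .z)))))) (.leaf (.n (.n (.n (.n (.n (.c 5) (.c 3)) (.n (.c 5) (.n (.c 5) (.c 6)))) (.n (.n (.c 2) (.n (.c 5) (.c 1))) (.n (.c 5) (.n (.c 1) (.c 5))))) (.n (.n (.n (.c 2) (.c 3)) (.n (.c 5) (.n (.c 4) (.c 6)))) (.n (.n (.c 1) (.n (.c 4) .z)) (.n .z (.n (.c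 2) (.c 3)))))) (.n (.n (.n (.n (.c 4) (.c 1)) (.n .z (.n (.c 6) (.c 2)))) (.n (.n (.c 5) (.n (.c 1) (.c 3))) (.n (.c 1) (.n (.c 2) .z)))) (.n (.n (.n (.c 5) (.n (.c 3) (.c 4))) (.n (.c 1) (.n (.c 6) .z))) (.n (.n (.c 1) .z) .z))))))))) (.node
 (.node
 (.node
 (.leaf (.n (.n (.n (.n (.n (.c 1) (.c 1)) (.n .z (.n .z (.c 4)))) (.n (.n .z (.n (.c 6) (.c 5))) (.n (.c 5) (.n (.c 6) (.c 2))))) (.n (.n (.n (.c 5) (.c 6)) (.n (.c 1) (.n (.c 2) (.c 1)))) (.n (.n (.c 5) (.n (.c 4) (.c 6))) (.n (.c 5) (.n (.c 2) (.c 4)))))) (.n (.n (.n (.n (.c 5) (.c 4)) (.n (.c 4) (.n (.c 6) (.c 6)))) (.n (.n (.c 5) (.n (.c 2) (.c 2))) (.n (.c 6) (.n .z (.c 4))))) (.n (.n (.n (.c 4) (.n (.c 4) (.c 5))) (.n (.c 4) (.n (.c 4) (.c 4)))) (.n (.n (.c 3) (.n (.c 4) (.c 3))) (.n (.c 3) .z))))))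 (.leaf (.n (.n (.n (.n (.n (.c 6) (.c 6)) (.n .z (.n (.c 5) (.c 6)))) (.n (.n .z (.n (.c 6) (.c 2))) (.n (.c 3) (.n (.c 6) (.c 1))))) (.n (.n (.n (.c 1) (.c 3)) (.n (.c 2) (.n (.c 5) (.c 4)))) (.n (.n (.c 6) (.n (.c 3) (.c 2))) (.n .z (.n (.c 3) (.c 3)))))) (.n (.n (.n (.n (.c 2) .z) (.n (.c 4) (.n (.c 3) (.c 2)))) (.n (.n .z (.n (.c 1) (.c 1))) (.n (.c 1) (.n (.c 5) (.c 6))))) (.n (.n (.n .z (.n (.c 2) (.c 1))) (.n (.c 3) (.n (.c 2) (.c 6)))) (.n (.n (.c 5) (.n .z (.c 1))) .z)))))) (.node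
 (.leaf (.n (.n (.n (.n (.n (.c 5) .z) (.n .z (.n (.c 6) (.c 4)))) (.n (.n (.c 3) (.n (.c 6) (.c 2))) (.n .z (.n .z (.c 6))))) (.n (.n (.n .z (.c 2)) (.n (.c 4) (.n .z (.c 1)))) (.n (.n (.c 4) (.n (.c 5) (.c 5))) (.n (.c 2) (.n (.c 1) .z))))) (.n (.n (.n (.n (.c 1) (.c 2)) (.n (.c 3) (.n (.c 6) (.c 5)))) (.n (.n (.c 2) (.n (.c 5) .z)) (.n (.c 6) (.n .z (.c 1))))) (.n (.n (.n (.c 1) (.n .z (.c 6))) (.n (.c 2) (.n (.c 3) (.c 6)))) (.n (.n (.c 4) (.n (.c 6) (.c 1))) (.n (.c 1) .z)))))) (.node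
 (.leaf (.n (.n (.n (.n (.n .z (.c 1)) (.n (.c 4) (.n .z (.c 1)))) (.n (.n (.c 4) (.n (.c 3) (.c 2))) (.n (.c 4) (.n (.c 6) (.c 4))))) (.n (.n (.n (.c 3) (.c 5)) (.n (.c 5) (.n (.c 2) (.c 1)))) (.n (.n (.c 6) (.n (.c 4) (.c 5))) (.n (.c 3) (.n (.c 6) (.c 4)))))) (.n (.n (.n (.n (.c 5) (.c 2)) (.n (.c 3) (.n (.c 4) (.c 4)))) (.n (.n (.c 4) (.n (.c 6) .z)) (.n (.c 4) (.n (.c 3) (.c 2))))) (.n (.n (.n .z (.n (.c 3) .z)) (.n .z (.n (.c 3) (.c 3)))) (.n (.n (.c 4) (.n (.c 6) (.c 4))) (.n (.c 1) .z)))))) (.leaf (.n (.n (.n (.n (.n (.c 6) (.c 4)) (.n (.c 1) (.n (.c 5) (.c 6)))) (.n (.n (.c 2) (.n (.c 6) (.c 5))) (.n (.c 1) (.n .z (.c 6))))) (.n (.n (.n (.c 5) (.c 5)) (.n (.c 4) (.n (.c 6) (.c 4)))) (.n (.n (.c 5) (.n (.c 1) (.c 6))) (.n (.c 5) (.n (.c 6) (.c 4))))))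 (.n (.n (.n (.n (.c 5) (.c 5)) (.n (.c 2) (.n .z (.c 6)))) (.n (.n (.c 6) (.n (.c 3) (.c 4))) (.n .z (.n (.c 3) (.c 6))))) (.n (.n (.n (.c 5) (.n (.c 1) (.c 2))) (.n .z (.n (.c 6) (.c 6)))) (.n (.n (.c 1) (.n (.c 3) (.c 1))) (.n (.c 4) .z))))))))) (.node
 (.node
 (.leaf (.n (.n (.n (.n (.n (.c 1) (.c 6)) (.n (.c 2) (.n (.c 2) (.c 4)))) (.n (.n (.c 2) (.n (.c 6) (.c 5))) (.n (.c 3) (.n (.c 6) (.c 3))))) (.n (.n (.n (.c 4) (.c 1)) (.n (.c 4) (.n (.c 1) (.c 2)))) (.n (.n (.c 1) (.n (.c 6) (.c 3))) (.n (.c 2) (.n (.c 5) (.c 2)))))) (.n (.n (.n (.n (.c 6) (.c 6)) (.n (.c 3) (.n (.c 5) (.c 2)))) (.n (.n (.c 3) (.n (.c 6) (.c 5))) (.n (.c 3) (.n .z (.c 6))))) (.n (.n (.n (.c 1) (.n (.c 5) (.c 4))) (.n (.c 6) .z)) (.n (.n .z (.n (.c 6) .z)) (.n (.c 1) .z)))))) (.node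
 (.leaf (.n (.n (.n (.n (.n (.c 5) (.c 5)) (.n (.c 1) (.n (.c 4) (.c 5)))) (.n (.n (.c 1) (.n .z (.c 6))) (.n (.c 1) (.n (.c 4) (.c 3))))) (.n (.n (.n (.c 1) (.c 4)) (.n (.c 6) (.n .z (.c 6)))) (.n (.n .z (.n (.c 4) (.c 1))) (.n (.c 4) (.n (.c 1) (.c 3)))))) (.n (.n (.n (.n (.c 3) (.c 5)) (.n (.c 1) (.n (.c 2) (.c 5)))) (.n (.n (.c 1) (.n (.c 4) (.c 6))) (.n (.c 2) (.n .z (.c 6))))) (.n (.n (.n (.c 6) (.n .z (.c 2))) (.n (.c 6) (.n (.c 5) (.c 2)))) (.n (.n (.c 2) (.n (.c 1) (.c 5))) (.n (.c 6) .z)))))) (.leaf (.n (.n (.n (.n (.n (.c 6) (.c 2)) (.n (.c 6) (.n (.c 3) (.c 2)))) (.n (.n (.c 3) (.n (.c 2) (.c 3))) (.n (.c 6) (.n (.c 1) (.c 2))))) (.n (.n (.n (.c 2) (.c 5)) (.n (.c 4) (.n .z (.c 1)))) (.n (.n (.c 6) (.n (.c 5) (.c 5))) (.n (.c 5) (.n (.c 2) (.c 6))))))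 (.n (.n (.n (.n (.c 6) (.c 6)) (.n (.c 1) (.n (.c 3) (.c 1)))) (.n (.n (.c 4) (.n (.c 1) (.c 1))) (.n (.c 5) .z))) (.n (.n (.n (.c 5) (.n (.c 4) .z)) (.n (.c 3) (.n .z (.c 3)))) (.n (.n .z (.n .z (.c 4))) .z))))))) (.node
 (.leaf (.n (.n (.n (.n (.n .z (.c 5)) (.n .z (.n (.c 4) (.c 2)))) (.n (.n .z (.n (.c 4) (.c 1))) (.n (.c 6) (.n (.c 5) (.c 4))))) (.n (.n (.n (.c 2) (.c 6)) (.n (.c 2) (.n (.c 2) (.c 1)))) (.n (.n (.c 5) (.n (.c 3) (.c 6))) (.n (.c 4) (.n (.c 6) (.c 3)))))) (.n (.n (.n (.n .z (.c 4)) (.n (.c 3) (.n (.c 5) (.c 3)))) (.n (.n (.c 5) (.n (.c 4) (.c 6))) (.n (.c 3) (.n (.c 6) (.c 5))))) (.n (.n (.n (.c 4) (.n (.c 5) (.c 6))) (.n (.c 6) (.n (.c 1) (.c 2)))) (.n (.n (.c 6) (.n (.c 1) (.c 5))) (.n (.c 6) .z)))))) (.node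
 (.leaf (.n (.n (.n (.n (.n (.c 4) (.c 4)) (.n (.c 3) (.n .z (.c 4)))) (.n (.n (.c 4) (.n (.c 5) .z)) (.n (.c 2) (.n (.c 3) (.c 3))))) (.n (.n (.n (.c 4) (.c 2)) (.n (.c 6) (.n (.c 6) (.c 3)))) (.n (.n (.c 3) (.n (.c 2) (.c 6))) (.n (.c 6) (.n (.c 4) (.c 2)))))) (.n (.n (.n (.n (.c 2) (.c 3)) (.n (.c 5) (.n (.c 6) (.c 6)))) (.n (.n (.c 6) (.n (.c 2) (.c 6))) (.n (.c 1) .z))) (.n (.n (.n (.c 5) (.n (.c 1) .z)) (.n (.c 6) (.n (.c 3) (.c 4)))) (.n (.n (.c 4) (.n .z (.c 3))) .z))))) (.leaf (.n (.n (.n (.n (.n .z (.c 5)) (.n (.c 2) (.n (.c 6) (.c 5)))) (.n (.n (.c 3) (.n (.c 5) .z)) (.n (.c 2) (.n (.c 5) .z)))) (.n (.n (.n .z (.c 6)) (.n .z (.n (.c 3) (.c 3)))) (.n (.n .z (.n (.c 4) (.c 3))) (.n (.c 6) (.n (.c 5) (.c 3)))))) (.n (.n (.n (.n (.c 4) (.c 2)) (.n (.c 3)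 (.n (.c 2) (.c 1)))) (.n (.n (.c 3) (.n (.c 3) (.c 4))) (.n (.c 3) (.n .z (.c 1))))) (.n (.n (.n (.c 6) (.n (.c 4) (.c 1))) (.n (.c 1) (.n .z (.c 6)))) (.n (.n .z (.n .z (.c 1))) .z)))))))))) (.node
 (.node
 (.node
 (.node
 (.leaf (.n (.n (.n (.n (.n (.c 4) .z) (.n (.c 2) (.n (.c 1) (.c 6)))) (.n (.n .z (.n (.c 5) (.c 6))) (.n (.c 4) (.n (.c 4) (.c 3))))) (.n (.n (.n (.c 5) (.c 3)) (.n (.c 4) (.n (.c 3) (.c 1)))) (.n (.n (.c 6) (.n .z (.c 3))) (.n (.c 2) (.n (.c 3) (.c 2)))))) (.n (.n (.n (.n (.c 1) (.c 4)) (.n (.c 5) (.n (.c 2) (.c 2)))) (.n (.n (.c 3) (.n .z (.c 3))) (.n (.c 6) (.n (.c 3) (.c 5))))) (.n (.n (.n (.c 5) (.n (.c 2) (.c 2))) (.n (.c 3) (.n (.c 6) (.c 6)))) (.n (.n (.c 1) (.n (.c 4) (.c 1))) (.n (.c 3) .z)))))) (.leaf (.n (.n (.n (.n (.n (.c 1) (.c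 6)) (.n (.c 4) (.n (.c 3) .z))) (.n (.n (.c 5) (.n (.c 6) (.c 6))) (.n (.c 4) (.n (.c 2) (.c 5))))) (.n (.n (.n (.c 6) (.c 5)) (.n (.c 1) (.n (.c 3) (.c 5)))) (.n (.n .z (.n (.c 4) (.c 3))) (.n (.c 1) (.n (.c 1) (.c 6)))))) (.n (.n (.n (.n (.c 4) (.c 1)) (.n (.c 5) (.n (.c 3) (.c 1)))) (.n (.n (.c 1) (.n (.c 2) (.c 1))) (.n (.c 3) (.n (.c 3) (.c 3))))) (.n (.n (.n (.c 1) (.n (.c 4) (.c 4))) (.n (.c 1) (.n (.c 3) (.c 1)))) (.n (.n (.c 4) (.n (.c 4) (.c 6))) (.n (.c 3) .z))))))) (.node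
 (.leaf (.n (.n (.n (.n (.n (.c 1) (.c 4)) (.n (.c 6) .z)) (.n (.n (.c 1) (.n (.c 2) (.c 2))) (.n (.c 6) .z))) (.n (.n (.n (.c 1) (.c 5)) (.n (.c 6) (.n (.c 4) (.c 1)))) (.n (.n (.c 2) (.n (.c 1) (.c 6))) (.n .z (.n .z (.c 4)))))) (.n (.n (.n (.n (.c 5) (.c 3)) (.n (.c 1) (.n (.c 3) .z))) (.n (.n (.c 4) (.n (.c 3) (.c 6))) (.n (.c 2) (.n (.c 3) (.c 4))))) (.n (.n (.n (.c 5) (.n (.c 4) (.c 5))) (.n (.c 4) (.n (.c 6) (.c 1)))) (.n (.n (.c 1) (.n (.c 6) (.c 6))) (.n (.c 1) .z)))))) (.node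
 (.leaf (.n (.n (.n (.n (.n (.c 6) (.c 2)) (.n (.c 1) (.n (.c 5) (.c 6)))) (.n (.n (.c 6) (.n (.c 2) (.c 1))) (.n (.c 2) (.n (.c 6) (.c 2))))) (.n (.n (.n (.c 4) (.c 4)) (.n (.c 6) (.n .z (.c 6)))) (.n (.n .z (.n (.c 4) (.c 4))) (.n (.c 1) (.n (.c 1) (.c 2)))))) (.n (.n (.n (.n (.c 6) .z) (.n (.c 5) (.n (.c 2) (.c 4)))) (.n (.n (.c 4) (.n (.c 4) (.c 1))) (.n .z (.n (.c 3) .z)))) (.n (.n (.n (.c 2) (.n (.c 5) (.c 4))) (.n (.c 5) (.n (.c 4) (.c 1)))) (.n (.n (.c 3) (.n (.c 3) (.c 6))) (.n (.c 4) .z)))))) (.leaf (.n (.n (.n (.n (.n (.c 6) (.c 2)) (.n (.c 6) (.n .z (.c 2)))) (.n (.n (.c 2) (.n (.c 2) (.c 6))) (.n (.c 6) (.n .z (.c 2))))) (.n (.n (.n (.c 2) (.c 2)) (.n (.c 2) (.n .z (.c 2)))) (.n (.n (.c 2) (.n (.c 2) (.c 2))) (.n (.c 5) (.n (.c 2) .z))))) (.n (.n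 (.n (.n (.c 6) .z) (.n (.c 2) (.n (.c 1) (.c 6)))) (.n (.n (.c 6) (.n (.c 2) (.c 1))) (.n (.c 2) (.n (.c 2) (.c 1))))) (.n (.n (.n (.c 2) (.n (.c 2) (.c 5))) (.n .z (.n .z (.c 4)))) (.n (.n .z (.n (.c 3) (.c 3))) (.n (.c 4) .z))))))))) (.node
 (.node
 (.leaf (.n (.n (.n (.n (.n (.c 3) (.c 4)) (.n .z (.n (.c 6) (.c 2)))) (.n (.n (.c 3) (.n (.c 3) (.c 1))) (.n (.c 1) (.n (.c 1) (.c 4))))) (.n (.n (.n (.c 4) (.c 5)) (.n .z (.n (.c 3) (.c 1)))) (.n (.n (.c 4) (.n (.c 5) (.c 5))) (.n .z (.n (.c 2) (.c 6)))))) (.n (.n (.n (.n (.c 1) (.c 4)) (.n (.c 4) (.n (.c 3) (.c 6)))) (.n (.n (.c 4) (.n .z (.c 4))) (.n (.c 6) (.n .z (.c 1))))) (.n (.n (.n (.c 2) (.n (.c 1) (.c 4))) (.n (.c 2) (.n (.c 5) (.c 6)))) (.n (.n (.c 2) (.n .z (.c 1))) .z))))) (.node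
 (.leaf (.n (.n (.n (.n (.n (.c 6) (.c 5)) (.n (.c 4) (.n (.c 1) (.c 6)))) (.n (.n (.c 5) (.n .z (.c 2))) (.n (.c 5) (.n (.c 2) .z)))) (.n (.n (.n .z (.c 3)) (.n (.c 3) (.n (.c 6) .z))) (.n (.n (.c 5) (.n (.c 6) (.c 3))) (.n (.c 4) (.n .z (.c 4)))))) (.n (.n (.n (.n (.c 2) (.c 4)) (.n (.c 1) (.n (.c 4) (.c 2)))) (.n (.n (.c 5) (.n (.c 3) .z)) (.n (.c 4) (.n (.c 5) (.c 6))))) (.n (.n (.n (.c 6) (.n (.c 6) (.c 5))) (.n (.c 5) (.n (.c 2) (.c 5)))) (.n (.n (.c 5) (.n (.c 3) (.c 2))) (.n (.c 4) .z)))))) (.leaf (.n (.n (.n (.n (.n (.c 4) (.c 1)) (.n (.c 1) (.n (.c 5) (.c 3)))) (.n (.n (.c 6) (.n (.c 1) (.c 3))) (.n .z (.n (.c 3) (.c 1))))) (.n (.n .z (.n (.c 4) (.n (.c 4) .z))) (.n (.n (.c 1) (.n (.c 1) (.c 5))) (.n (.c 3) (.n (.c 2) (.c 5)))))) (.n (.n (.n (.n (.c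 4) (.c 5)) (.n (.c 5) (.n (.c 1) (.c 5)))) (.n (.n (.c 1) (.n (.c 5) (.c 6))) (.n (.c 1) (.n (.c 2) (.c 5))))) (.n (.n (.n (.c 3) (.n (.c 5) (.c 2))) (.n (.c 4) (.n (.c 2) (.c 4)))) (.n (.n (.c 5) (.n (.c 3) (.c 3))) (.n (.c 4) .z)))))))) (.node
 (.leaf (.n (.n (.n (.n .z (.n (.c 4) (.n (.c 6) (.c 5)))) (.n (.n (.c 4) (.n (.c 6) (.c 1))) (.n (.c 3) (.n (.c 2) (.c 5))))) (.n (.n (.n (.c 3) .z) (.n (.c 1) (.n (.c 4) (.c 6)))) (.n (.n (.c 2) (.n (.c 3) (.c 4))) (.n (.c 6) (.n (.c 2) .z))))) (.n (.n (.n (.n .z (.c 3)) (.n (.c 1) (.n (.c 1) (.c 1)))) (.n (.n (.c 3) (.n (.c 1) (.c 5))) (.n (.c 4) (.n (.c 2) (.c 5))))) (.n (.n (.n (.c 2) (.n (.c 3) (.c 3))) (.n .z (.n (.c 1) (.c 2)))) (.n (.n (.c 6) (.n (.c 1) (.c 5))) (.n (.c 6) .z)))))) (.node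
 (.leaf (.n (.n (.n (.n (.n (.c 1) (.c 6)) (.n .z (.n (.c 3) (.c 1)))) (.n (.n (.c 6) (.n (.c 5) (.c 3))) (.n .z (.n (.c 5) (.c 2))))) (.n (.n (.n (.c 6) (.c 2)) (.n (.c 2) (.n (.c 4) (.c 4)))) (.n (.n (.c 3) (.n (.c 4) (.c 3))) (.n (.c 5) (.n (.c 3) (.c 6)))))) (.n (.n (.n (.n .z (.c 5)) (.n (.c 6) (.n (.c 5) (.c 4)))) (.n (.n (.c 4) (.n (.c 2) (.c 6))) (.n (.c 1) (.n (.c 6) (.c 6))))) (.n (.n (.n (.c 1) (.n .z (.c 6))) (.n (.c 6) (.n (.c 4) (.c 2)))) (.n (.n (.c 3) (.n (.c 6) (.c 5))) (.n (.c 1) .z)))))) (.leaf (.n (.n (.n (.n (.n (.c 1) (.c 1)) (.n (.c 4) (.n (.c 5) .z))) (.n (.n (.c 2) (.n .z (.c 3))) (.n (.c 4) (.n (.c 2) (.c 1))))) (.n (.n (.n (.c 4) .z) (.n (.c 3) (.n (.c 4) (.c 4)))) (.n (.n (.c 1) (.n (.c 3) (.c 6))) (.n (.c 5) (.n (.c 3) (.c 5))))))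 (.n (.n (.n (.n (.c 3) (.c 6)) (.n (.c 4) (.n (.c 6) (.c 6)))) (.n (.n (.c 2) (.n (.c 3) (.c 4))) (.n .z (.n (.c 2) (.c 3))))) (.n (.n (.n (.c 5) (.n (.c 5) (.c 2))) (.n (.c 2) .z)) (.n (.n .z (.n (.c 5) .z)) (.n (.c 2) .z)))))))))) (.node
 (.node
 (.node
 (.leaf (.n (.n (.n (.n (.n (.c 6) (.c 6)) (.n (.c 5) (.n (.c 5) (.c 3)))) (.n (.n (.c 5) (.n .z (.c 6))) (.n (.c 5) (.n .z (.c 6))))) (.n (.n (.n (.c 1) (.c 6)) (.n (.c 2) (.n (.c 1) .z))) (.n (.n (.c 6) (.n (.c 4) .z)) (.n (.c 3) (.n (.c 3) (.c 1)))))) (.n (.n (.n (.n (.c 6) (.c 6)) (.n (.c 5) (.n (.c 6) (.c 2)))) (.n (.n (.c 2) (.n (.c 2) (.c 2))) (.n (.c 5) (.n (.c 6) (.c 6))))) (.n (.n (.n (.c 4) (.n .z (.c 1))) (.n (.c 2) (.n (.c 5) (.c 5)))) (.n (.n (.c 2) (.n (.c 2) (.c 2))) (.n (.c 5) .z)))))) (.node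
 (.leaf (.n (.n (.n (.n (.n (.c 4) (.c 1)) (.n (.c 2) (.n .z (.c 6)))) (.n (.n (.c 4) (.n (.c 5) (.c 6))) (.n (.c 2) (.n (.c 4) (.c 4))))) (.n (.n (.n (.c 4) (.c 4)) (.n (.c 3) (.n (.c 5) (.c 4)))) (.n (.n (.c 3) (.n (.c 5) (.c 2))) (.n (.c 6) (.n (.c 6) .z))))) (.n (.n (.n (.n (.c 2) (.c 3)) (.n (.c 3) (.n (.c 3) (.c 3)))) (.n (.n (.c 6) (.n (.c 4) (.c 1))) (.n (.c 6) (.n (.c 4) .z)))) (.n (.n (.n (.c 1) (.n (.c 5) (.c 4))) (.n .z (.n (.c 5) (.c 3)))) (.n (.n (.c 2) (.n (.c 6) (.c 4))) (.n (.c 1) .z)))))) (.leaf (.n (.n (.n (.n (.n (.c 5) .z) (.n (.c 3) (.n (.c 5) (.c 2)))) (.n (.n (.c 1) (.n (.c 2) .z)) (.n (.c 3) (.n (.c 2) (.c 4))))) (.n (.n (.n (.c 3) (.c 2)) (.n (.c 5) (.n .z (.c 5)))) (.n (.n .z (.n (.c 4) (.c 1))) (.n (.c 1) (.n (.c 4) (.c 5)))))) (.n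 (.n (.n (.n (.c 5) (.c 3)) (.n (.c 6) (.n (.c 1) (.c 2)))) (.n (.n (.c 3) (.n (.c 5) (.c 6))) (.n (.c 3) (.n (.c 1) (.c 1))))) (.n (.n (.n (.c 1) (.n (.c 6) (.c 2))) (.n (.c 2) .z)) .z)))))) (.node
 (.leaf (.n (.n (.n (.n (.n (.c 5) (.c 5)) (.n (.c 6) (.n .z (.c 2)))) (.n (.n (.c 2) (.n (.c 3) (.c 5))) (.n (.c 6) (.n (.c 1) .z)))) (.n (.n (.n (.c 1) (.c 3)) (.n (.c 6) (.n (.c 4) (.c 4)))) (.n (.n (.c 5) (.n (.c 1) (.c 6))) (.n (.c 5) (.n (.c 5) (.c 5)))))) (.n (.n (.n (.n (.c 4) (.c 5)) (.n .z (.n (.c 2) (.c 1)))) (.n (.n .z (.n (.c 4) (.c 4))) (.n (.c 2) (.n .z (.c 3))))) (.n (.n (.n (.c 5) (.n (.c 3) (.c 6))) (.n (.c 2) .z)) .z)))) (.node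
 (.leaf (.n .z (.n .z (.n (.n .z (.n .z (.n (.c 3) .z))) (.n (.n (.c 4) .z) (.n .z (.n (.c 3) (.c 4)))))))) (.leaf (.n .z (.n .z (.n .z (.n (.n .z (.n .z (.c 5))) (.n (.c 5) .z))))))))) (.node
 (.node
 (.leaf (.n .z (.n .z (.n (.n .z (.n .z (.n (.c 4) .z))) (.n (.n (.c 3) .z) (.n .z (.n (.c 3) (.c 4)))))))) (.node
 (.leaf (.n .z (.n .z (.n .z (.n (.n .z (.n .z (.c 5))) (.n (.c 2) .z)))))) (.leaf (.n .z (.n .z (.n (.n .z (.n .z (.n .z (.c 5)))) (.n (.n .z (.n (.c 5) .z)) .z))))))) (.node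
 (.leaf (.n .z (.n .z (.n (.n .z (.n .z (.n .z (.c 5)))) (.n (.n .z (.n (.c 2) .z)) .z))))) (.node
 (.leaf (.n .z (.n .z (.n (.n .z (.n .z (.n (.c 3) .z))) (.n (.n (.c 3) .z) (.n .z (.n (.c 3) (.c 3)))))))) (.leaf (.n .z (.n .z (.n (.n .z (.n .z (.n (.c 4) .z))) (.n (.n (.c 4) .z) (.n .z (.n (.c 3) (.c 3))))))))))))))

/-- the rows of letter 3 -/
def rows3 : RT CT := (.node
 (.node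
 (.node
 (.node
 (.node
 (.leaf (.n (.n (.n (.n (.n .z (.c 5)) (.n .z (.n .z (.c 1)))) (.n (.n (.c 5) (.n (.c 3) .z)) (.n .z (.n .z (.c 1))))) (.n (.n (.n (.c 3) (.c 2)) (.n (.c 1) (.n (.c 3) .z))) (.n (.n (.c 4) (.n (.c 3) (.c 3))) (.n (.c 5) (.n (.c 3) (.c 6)))))) (.n (.n (.n (.n (.c 2) .z) (.n (.c 6) (.n (.c 1) (.c 5)))) (.n (.n (.c 5) (.n (.c 6) (.c 5))) (.n (.c 1) (.n (.c 1) (.c 6))))) (.n (.n (.n (.c 5) (.n .z (.c 2))) (.n (.c 5) .z)) .z)))) (.leaf (.n (.n (.n (.n (.n .z (.c 1)) (.n .z (.n (.c 6) (.c 3)))) (.n (.n .z (.n (.c 4) .z)) .z)) (.n (.n (.n .z (.c 1)) (.n (.c 4) (.n (.c 6) (.c 2)))) (.n (.n (.c 6) (.n .z (.c 4))) (.n (.c 2) (.n (.c 1) (.c 5)))))) (.n (.n (.n (.n (.c 3) .z) (.n (.c 4) (.n (.c 5) (.c 6)))) (.n (.n (.c 6) (.n (.c 3) (.c 1))) (.n (.c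 4) (.n (.c 3) (.c 4))))) (.n (.n (.n (.c 4) (.n .z (.c 2))) .z) .z))))) (.node
 (.leaf (.n (.n (.n (.n (.n (.c 5) (.c 3)) (.n (.c 6) (.n (.c 2) (.c 2)))) (.n (.n (.c 1) (.n (.c 2) .z)) (.n (.c 2) (.n .z (.c 2))))) (.n (.n (.n (.c 3) (.c 2)) (.n (.c 6) (.n (.c 3) .z))) (.n (.n (.c 2) (.n (.c 4) (.c 3))) (.n (.c 3) (.n (.c 3) (.c 1)))))) (.n (.n (.n (.n (.c 6) .z) (.n (.c 1) (.n (.c 6) (.c 5)))) (.n (.n (.c 5) (.n .z (.c 6))) (.n (.c 6) (.n (.c 2) (.c 4))))) (.n (.n (.n (.c 3) (.n (.c 6) (.c 6))) (.n (.c 4) .z)) .z)))) (.node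
 (.leaf (.n (.n (.n (.n (.n .z (.c 5)) (.n .z (.n (.c 3) (.c 1)))) (.n (.n .z (.n (.c 5) .z)) .z)) (.n (.n .z (.n (.c 3) (.n (.c 2) (.c 1)))) (.n (.n (.c 2) (.n (.c 5) (.c 3))) (.n (.c 4) (.n .z (.c 2)))))) (.n (.n (.n (.n (.c 5) .z) (.n (.c 5) (.n (.c 3) (.c 6)))) (.n (.n .z (.n (.c 2) .z)) (.n (.c 3) (.n (.c 4) (.c 3))))) (.n (.n (.n (.c 5) (.n (.c 4) .z)) (.n (.c 4) .z)) .z)))) (.leaf (.n (.n (.n (.n (.n .z (.c 1)) (.n .z (.n (.c 1) (.c 5)))) (.n (.n .z (.n (.c 6) .z)) .z)) (.n (.n (.n (.c 2) (.c 1)) (.n (.c 3) (.n (.c 6) (.c 1)))) (.n (.n .z (.n (.c 2) (.c 6))) (.n (.c 2) (.n .z (.c 2)))))) (.n (.n (.n (.n (.c 4) (.c 3)) (.n (.c 4) (.n (.c 1) (.c 6)))) (.n (.n .z (.n (.c 3) (.c 1))) (.n (.c 2) (.n (.c 4) (.c 4))))) (.n (.n (.n (.c 6) (.n (.c 6) (.c 6))) (.n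 (.c 5) .z)) .z))))))) (.node
 (.node
 (.leaf (.n (.n (.n (.n (.n (.c 2) (.c 5)) (.n .z (.n (.c 5) .z))) (.n (.n .z (.n (.c 5) .z)) (.n (.c 6) .z))) (.n (.n (.n (.c 5) (.c 5)) (.n (.c 5) (.n (.c 4) (.c 5)))) (.n (.n (.c 5) (.n (.c 6) (.c 5))) (.n (.c 2) (.n (.c 2) (.c 2)))))) (.n (.n (.n (.n (.c 1) (.c 4)) (.n (.c 5) (.n (.c 1) (.c 3)))) (.n (.n (.c 3) (.n (.c 1) (.c 3))) (.n (.c 4) (.n (.c 6) (.c 2))))) (.n (.n (.n (.c 5) (.n (.c 1) (.c 5))) (.n (.c 6) .z)) .z)))) (.node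
 (.leaf (.n (.n (.n (.n .z (.n .z (.n (.c 2) .z))) (.n (.n .z (.n (.c 1) .z)) .z)) (.n (.n (.n (.c 5) (.c 6)) (.n (.c 1) (.n (.c 2) (.c 5)))) (.n (.n (.c 2) (.n (.c 1) (.c 5))) (.n (.c 4) (.n (.c 4) (.c 3)))))) (.n (.n (.n (.n (.c 3) (.c 2)) (.n (.c 4) (.n .z (.c 3)))) (.n (.n (.c 1) (.n (.c 1) (.c 5))) (.n (.c 2) (.n (.c 6) (.c 5))))) (.n (.n (.n (.c 4) (.n (.c 4) .z)) (.n (.c 3) .z)) .z)))) (.leaf (.n (.n (.n (.n (.n .z (.c 3)) (.n .z (.n (.c 6) (.c 6)))) (.n (.n (.c 5) (.n (.c 6) .z)) (.n .z (.n (.c 1) (.c 2))))) (.n (.n (.n (.c 5) .z) (.n (.c 2) (.n (.c 1) (.c 5)))) (.n (.n (.c 3) (.n (.c 4) (.c 5))) (.n (.c 3) (.n (.c 2) (.c 1)))))) (.n (.n (.n (.n (.c 2) (.c 3)) (.n (.c 5) (.n (.c 3) (.c 5)))) (.n (.n (.c 3) (.n (.c 5) (.c 2))) (.n (.c 1) (.n (.c 6) (.c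 6))))) (.n (.n (.n (.c 2) (.n (.c 6) .z)) (.n (.c 2) .z)) .z)))))) (.node
 (.leaf (.n (.n (.n (.n (.n .z (.c 3)) (.n .z (.n .z (.c 6)))) (.n (.n (.c 2) .z) (.n .z (.n .z (.c 2))))) (.n (.n (.n (.c 1) (.c 2)) (.n (.c 1) (.n (.c 4) (.c 1)))) (.n (.n (.c 5) (.n (.c 3) (.c 3))) (.n (.c 2) (.n (.c 6) .z))))) (.n (.n (.n (.n (.c 5) (.c 3)) (.n .z (.n (.c 3) (.c 3)))) (.n (.n (.c 4) (.n (.c 5) (.c 6))) (.n (.c 4) (.n (.c 2) (.c 1))))) (.n (.n (.n (.c 6) (.n (.c 1) .z)) (.n (.c 3) .z)) .z)))) (.node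
 (.leaf (.n (.n (.n (.n (.n (.c 1) (.c 3)) (.n .z (.n (.c 1) (.c 4)))) (.n (.n .z (.n (.c 5) (.c 1))) (.n (.c 2) .z))) (.n (.n (.n (.c 1) (.c 4)) (.n (.c 1) (.n (.c 1) (.c 5)))) (.n (.n (.c 5) (.n (.c 2) (.c 3))) (.n (.c 6) (.n .z (.c 2)))))) (.n (.n (.n (.n (.c 6) (.c 6)) (.n (.c 3) (.n (.c 4) (.c 4)))) (.n (.n (.c 1) (.n (.c 3) (.c 1))) (.n (.c 5) (.n (.c 6) (.c 4))))) (.n (.n (.n (.c 6) (.n (.c 2) (.c 6))) (.n (.c 4) .z)) .z)))) (.leaf (.n (.n (.n (.n (.n (.c 5) (.c 6)) (.n .z (.n (.c 3) (.c 2)))) (.n (.n .z (.n (.c 5) .z)) (.n (.c 5) .z))) (.n (.n (.n (.c 3) (.c 2)) (.n (.c 4) (.n .z (.c 6)))) (.n (.n (.c 4) (.n (.c 3) (.c 5))) (.n (.c 2) (.n .z (.c 5)))))) (.n (.n (.n (.n (.c 2) (.c 6)) (.n (.c 4) (.n (.c 1) (.c 3)))) (.n (.n (.c 2) (.n .z (.c 1))) (.n (.c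 3) (.n (.c 5) (.c 3))))) (.n (.n (.n (.c 1) (.n (.c 6) (.c 1))) (.n (.c 3) .z)) .z)))))))) (.node
 (.node
 (.node
 (.leaf (.n (.n (.n (.n (.n .z (.c 4)) (.n .z (.n (.c 4) (.c 4)))) (.n (.n .z (.n (.c 1) .z)) .z)) (.n (.n (.n (.c 3) .z) (.n (.c 5) (.n (.c 5) (.c 4)))) (.n (.n (.c 5) (.n .z (.c 5))) (.n (.c 3) (.n (.c 6) (.c 3)))))) (.n (.n (.n (.n (.c 4) (.c 4)) (.n (.c 6) (.n (.c 4) (.c 5)))) (.n (.n .z (.n (.c 2) (.c 5))) (.n (.c 4) (.n .z (.c 2))))) (.n (.n (.n (.c 5) (.n (.c 1) (.c 5))) (.n (.c 2) .z)) .z)))) (.leaf (.n (.n (.n (.n (.n .z (.c 6)) (.n .z (.n (.c 2) (.c 4)))) (.n (.n .z (.n (.c 5) .z)) .z)) (.n (.n (.n (.c 1) (.c 5)) (.n (.c 6) (.n .z (.c 5)))) (.n (.n (.c 6) (.n (.c 5) (.c 3))) (.n (.c 5) (.n (.c 2) (.c 4)))))) (.n (.n (.n (.n (.c 4) (.c 4))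 (.n (.c 1) (.n (.c 4) (.c 4)))) (.n (.n (.c 2) (.n .z (.c 2))) (.n (.c 2) (.n (.c 2) (.c 1))))) (.n (.n (.n .z (.n (.c 1) (.c 3))) (.n (.c 6) .z)) .z))))) (.node
 (.leaf (.n (.n (.n (.n (.n .z (.c 6)) (.n .z (.n .z (.c 5)))) (.n (.n .z (.n (.c 2) .z)) .z)) (.n (.n (.n (.c 1) (.c 2)) (.n (.c 5) (.n (.c 1) .z))) (.n (.n .z (.n (.c 4) (.c 4))) (.n (.c 3) (.n (.c 2) (.c 3)))))) (.n (.n (.n (.n (.c 1) (.c 3)) (.n (.c 1) .z)) (.n (.n (.c 1) (.n (.c 4) (.c 2))) (.n (.c 3) (.n (.c 1) (.c 6))))) (.n (.n (.n (.c 4) .z) (.n (.c 1) .z)) .z)))) (.node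
 (.leaf (.n (.n (.n (.n (.n .z (.c 2)) (.n .z (.n (.c 3) (.c 4)))) (.n (.n .z (.n (.c 3) .z)) .z)) (.n (.n (.n (.c 1) (.c 5)) (.n (.c 3) (.n (.c 4) (.c 5)))) (.n (.n .z (.n (.c 6) .z)) (.n (.c 6) (.n .z (.c 1)))))) (.n (.n (.n (.n (.c 5) (.c 3)) (.n (.c 5) (.n (.c 6) (.c 1)))) (.n (.n (.c 5) (.n (.c 4) (.c 2))) (.n (.c 6) (.n (.c 4) (.c 4))))) (.n (.n (.n (.c 4) (.n (.c 1) .z)) .z) .z)))) (.leaf (.n (.n (.n (.n (.n .z (.c 2)) (.n .z (.n (.c 1) (.c 2)))) (.n (.n .z (.n (.c 1) .z)) .z)) (.n (.n (.n (.c 3) (.c 1)) (.n (.c 2) (.n (.c 6) (.c 5)))) (.n (.n (.c 3) (.n (.c 4) (.c 6))) (.n (.c 3) (.n (.c 2) (.c 1)))))) (.n (.n (.n (.n (.c 2) (.c 2)) (.n (.c 4) (.n (.c 6) (.c 2)))) (.n (.n .z (.n (.c 4) (.c 5))) (.n (.c 4) (.n (.c 4) (.c 2))))) (.n (.n (.n (.c 2) (.n .z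 (.c 5))) (.n (.c 5) .z)) .z))))))) (.node
 (.node
 (.leaf (.n (.n (.n (.n (.n .z (.c 1)) (.n .z (.n (.c 5) (.c 4)))) (.n (.n .z (.n (.c 5) .z)) .z)) (.n (.n (.n (.c 1) (.c 4)) (.n (.c 4) (.n .z (.c 5)))) (.n (.n (.c 2) (.n (.c 3) (.c 4))) (.n .z (.n .z (.c 3)))))) (.n (.n (.n (.n (.c 4) (.c 1)) (.n (.c 6) (.n (.c 6) (.c 3)))) (.n (.n (.c 6) (.n .z (.c 5))) (.n (.c 1) (.n .z (.c 1))))) (.n (.n (.n (.c 4) (.n (.c 1) (.c 5))) (.n (.c 3) .z)) .z)))) (.node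
 (.leaf (.n (.n (.n (.n (.n .z (.c 4)) (.n .z (.n .z (.c 3)))) (.n (.n .z (.n (.c 2) .z)) .z)) (.n (.n (.n (.c 2) (.c 2)) (.n (.c 6) (.n (.c 3) (.c 3)))) (.n (.n (.c 1) (.n .z (.c 4))) (.n (.c 3) (.n (.c 6) (.c 2)))))) (.n (.n (.n (.n (.c 1) (.c 4)) (.n (.c 5) (.n .z (.c 2)))) (.n (.n (.c 4) (.n (.c 5) (.c 6))) (.n (.c 6) (.n .z (.c 1))))) (.n (.n (.n (.c 3) (.n (.c 3) (.c 5))) (.n (.c 5) .z)) .z)))) (.leaf (.n (.n (.n (.n (.n .z (.c 4)) (.n .z (.n (.c 4) (.c 6)))) (.n (.n .z (.n (.c 6) .z)) .z)) (.n (.n (.n .z (.c 2)) (.n (.c 3) .z)) (.n (.n (.c 6) (.n (.c 6) (.c 5))) (.n (.c 6) (.n (.c 4) .z))))) (.n (.n (.n (.n (.c 1) (.c 3)) (.n (.c 5) (.n (.c 3) .z))) (.n (.n (.c 2) (.n (.c 5) (.c 3))) (.n (.c 6) (.n (.c 4) (.c 3))))) (.n (.n (.n (.c 6) (.n (.c 6) .z)) .z)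 .z)))))) (.node
 (.leaf (.n (.n (.n (.n (.n .z (.c 2)) (.n .z (.n (.c 5) (.c 5)))) (.n (.n .z (.n (.c 4) .z)) .z)) (.n (.n (.n (.c 4) (.c 4)) (.n (.c 3) (.n (.c 5) (.c 6)))) (.n (.n (.c 1) (.n .z (.c 1))) (.n (.c 5) (.n (.c 6) (.c 6)))))) (.n (.n (.n (.n (.c 3) (.c 4)) (.n (.c 6) (.n (.c 3) (.c 3)))) (.n (.n (.c 4) (.n .z (.c 1))) (.n (.c 6) (.n .z (.c 6))))) (.n (.n (.n (.c 6) (.n (.c 2) (.c 6))) (.n (.c 1) .z)) .z)))) (.node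
 (.leaf (.n (.n (.n (.n (.n .z (.c 4)) (.n .z (.n (.c 1) (.c 1)))) (.n (.n .z (.n (.c 1) .z)) .z)) (.n (.n (.n (.c 6) .z) (.n (.c 5) (.n (.c 2) (.c 2)))) (.n (.n (.c 1) (.n (.c 4) .z)) (.n (.c 1) (.n (.c 3) (.c 5)))))) (.n (.n (.n (.n .z (.c 1)) (.n .z (.n (.c 5) (.c 6)))) (.n (.n (.c 6) (.n (.c 1) .z)) (.n (.c 5) (.n (.c 1) .z)))) (.n (.n (.n (.c 6) (.n (.c 4) (.c 1))) .z) .z)))) (.leaf (.n (.n (.n (.n (.n .z (.c 6)) (.n .z (.n (.c 4) (.c 5)))) (.n (.n .z (.n (.c 6) .z)) .z)) (.n (.n (.n (.c 1) (.c 4)) (.n (.c 4) (.n (.c 4) (.c 2)))) (.n (.n (.c 3) (.n (.c 5) .z)) (.n (.c 5) (.n (.c 6) .z))))) (.n (.n (.n (.n (.c 6) (.c 2)) (.n .z (.n (.c 1) (.c 6)))) (.n (.n .z (.n (.c 2) .z)) (.n (.c 1) (.n (.c 3) (.c 4))))) (.n (.n (.n (.c 3) (.n (.c 2) (.c 6))) (.n (.c 6)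 .z)) .z))))))))) (.node
 (.node
 (.node
 (.node
 (.leaf (.n (.n (.n (.n .z (.n .z (.n (.c 2) (.c 5)))) (.n (.n .z (.n (.c 5) .z)) .z)) (.n (.n (.n (.c 4) (.c 1)) (.n .z (.n (.c 5) (.c 6)))) (.n (.n (.c 4) (.n .z (.c 5))) (.n (.c 3) (.n (.c 4) (.c 6)))))) (.n (.n (.n (.n (.c 1) (.c 2)) (.n (.c 3) (.n (.c 5) (.c 4)))) (.n (.n (.c 6) (.n (.c 1) (.c 6))) (.n (.c 4) (.n .z (.c 3))))) (.n (.n (.n (.c 6) (.n (.c 3) (.c 3))) (.n (.c 5) .z)) .z)))) (.leaf (.n (.n (.n (.n (.n .z (.c 6)) (.n .z (.n (.c 4) (.c 1)))) (.n (.n .z (.n (.c 6) .z)) .z)) (.n (.n (.n (.c 3) (.c 3)) (.n (.c 3) (.n (.c 1) .z))) (.n (.n (.c 6) (.n (.c 6) (.c 6))) (.n (.c 6) (.n (.c 6) (.c 5)))))) (.n (.n (.n (.n (.c 6) (.c 4)) (.n (.c 1) (.n (.c 3) (.c 5)))) (.n (.n (.c 3) (.n (.c 3) (.c 6))) (.n (.c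 3) (.n (.c 6) (.c 6))))) (.n (.n (.n (.c 5) (.n (.c 5) (.c 2))) (.n (.c 3) .z)) .z))))) (.node
 (.leaf (.n (.n (.n (.n (.n .z (.c 2)) (.n .z (.n (.c 4) (.c 4)))) .z) (.n (.n (.n (.c 4) (.c 4)) (.n (.c 1) (.n .z (.c 4)))) (.n (.n (.c 1) (.n (.c 5) (.c 6))) (.n (.c 2) (.n (.c 4) (.c 4)))))) (.n (.n (.n (.n (.c 2) (.c 1)) (.n (.c 4) (.n (.c 4) (.c 5)))) (.n (.n .z (.n (.c 5) (.c 2))) (.n .z (.n (.c 6) (.c 3))))) (.n (.n (.n .z (.n .z (.c 6))) (.n (.c 2) .z)) .z)))) (.node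
 (.leaf (.n (.n (.n (.n (.n .z (.c 3)) (.n .z (.n (.c 5) (.c 1)))) (.n (.n .z (.n (.c 3) .z)) .z)) (.n (.n (.n .z (.c 1)) (.n (.c 2) (.n (.c 1) (.c 1)))) (.n (.n (.c 6) (.n .z (.c 4))) (.n (.c 6) (.n (.c 5) (.c 3)))))) (.n (.n (.n (.n (.c 3) (.c 5)) (.n (.c 4) (.n (.c 2) (.c 5)))) (.n (.n (.c 6) (.n (.c 5) (.c 1))) (.n .z (.n .z (.c 1))))) (.n (.n (.n (.c 1) (.n (.c 1) (.c 2))) (.n (.c 3) .z)) .z)))) (.leaf (.n (.n (.n (.n (.n .z (.c 6)) (.n .z (.n (.c 2) .z))) (.n (.n .z (.n (.c 1) .z)) .z)) (.n (.n (.n (.c 5) (.c 2)) (.n (.c 2) (.n (.c 2) .z))) (.n (.n (.c 6) (.n .z (.c 1))) (.n .z (.n (.c 6) .z))))) (.n (.n (.n (.n (.c 5) (.c 6)) (.n (.c 2) (.n (.c 5) (.c 1)))) (.n (.n (.c 6) (.n (.c 1) (.c 6))) (.n (.c 6) (.n .z (.c 2))))) (.n (.n .z (.n (.c 2) .z)) .z)))))))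 (.node
 (.node
 (.leaf (.n (.n (.n (.n (.n .z (.c 6)) (.n .z (.n (.c 1) (.c 4)))) (.n (.n .z (.n (.c 1) .z)) .z)) (.n (.n (.n (.c 2) (.c 3)) (.n (.c 1) (.n (.c 4) .z))) (.n (.n (.c 3) (.n .z (.c 5))) (.n (.c 2) (.n (.c 5) (.c 5)))))) (.n (.n (.n (.n (.c 6) (.c 1)) (.n (.c 5) (.n (.c 5) (.c 1)))) (.n (.n .z (.n (.c 2) (.c 1))) (.n (.c 5) (.n .z (.c 5))))) (.n (.n (.n (.c 4) (.n (.c 6) (.c 6))) (.n (.c 3) .z)) .z)))) (.node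
 (.leaf (.n (.n (.n (.n .z (.n .z (.n (.c 6) (.c 4)))) (.n (.n .z (.n (.c 5) .z)) .z)) (.n (.n (.n (.c 4) (.c 1)) (.n (.c 6) (.n (.c 5) (.c 4)))) (.n (.n .z (.n .z (.c 1))) (.n (.c 1) (.n (.c 6) (.c 5)))))) (.n (.n (.n (.n (.c 3) (.c 2)) (.n (.c 3) (.n .z (.c 5)))) (.n (.n (.c 5) (.n (.c 3) (.c 2))) (.n (.c 6) (.n .z (.c 3))))) (.n (.n (.n (.c 4) (.n (.c 5) (.c 6))) (.n (.c 2) .z)) .z)))) (.leaf (.n (.n (.n (.n .z (.n .z (.n (.c 5) (.c 3)))) (.n (.n .z (.n (.c 2) .z)) .z)) (.n (.n (.n (.c 5) (.c 2)) (.n (.c 3) (.n (.c 4) (.c 6)))) (.n (.n (.c 1) (.n (.c 2) (.c 3))) (.n (.c 4) (.n (.c 1) (.c 3)))))) (.n (.n (.n (.n (.c 5) (.c 5)) (.n (.c 5) (.n (.c 3) (.c 1)))) (.n (.n (.c 3) (.n (.c 6) (.c 3))) (.n .z (.n (.c 1) (.c 3))))) (.n (.n (.n (.c 6) (.n (.c 4) (.c 5)))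 (.n (.c 5) .z)) .z)))))) (.node
 (.leaf (.n (.n (.n (.n (.n .z (.c 2)) (.n .z (.n (.c 3) (.c 4)))) (.n (.n .z (.n (.c 6) .z)) .z)) (.n (.n (.n (.c 2) (.c 6)) (.n (.c 2) (.n (.c 6) (.c 1)))) (.n (.n (.c 2) (.n (.c 6) (.c 1))) (.n (.c 3) .z)))) (.n (.n (.n (.n (.c 4) (.c 4)) (.n .z (.n (.c 1) (.c 1)))) (.n (.n (.c 4) (.n (.c 4) (.c 1))) (.n (.c 6) (.n .z (.c 5))))) (.n (.n (.n (.c 6) (.n (.c 5) (.c 4))) (.n (.c 4) .z)) .z)))) (.node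
 (.leaf (.n (.n (.n (.n (.n .z (.c 2)) (.n .z (.n .z (.c 2)))) (.n (.n .z (.n (.c 3) .z)) .z)) (.n (.n (.n (.c 6) (.c 1)) (.n .z (.n .z (.c 6)))) (.n (.n (.c 1) (.n .z (.c 5))) (.n (.c 1) (.n (.c 2) .z))))) (.n (.n (.n (.n (.c 2) (.c 3)) (.n (.c 6) (.n (.c 3) (.c 6)))) (.n (.n (.c 6) (.n (.c 2) (.c 3))) (.n (.c 2) (.n .z (.c 3))))) (.n (.n (.n (.c 6) (.n (.c 2) (.c 1))) (.n (.c 1) .z)) .z)))) (.leaf (.n (.n (.n (.n (.n .z (.c 1)) (.n .z (.n (.c 5) (.c 1)))) (.n (.n .z (.n (.c 1) .z)) .z)) (.n (.n (.n (.c 3) (.c 1)) (.n (.c 1) (.n .z (.c 1)))) (.n (.n (.c 3) (.n (.c 4) .z)) (.n (.c 6) (.n .z (.c 2)))))) (.n (.n (.n (.n .z (.c 2)) (.n (.c 4) (.n (.c 2) (.c 4)))) (.n (.n (.c 6) (.n .z (.c 3))) (.n (.c 1) (.n .z (.c 2))))) (.n (.n (.n (.c 3) (.n (.c 5) (.c 5))) (.n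 (.c 5) .z)) .z)))))))) (.node
 (.node
 (.node
 (.leaf (.n (.n (.n (.n (.n .z (.c 2)) (.n .z (.n .z (.c 1)))) (.n (.n .z (.n (.c 5) .z)) .z)) (.n (.n (.n (.c 6) (.c 5)) (.n (.c 3) (.n .z (.c 5)))) (.n (.n (.c 5) (.n (.c 3) (.c 6))) (.n (.c 4) (.n (.c 4) .z))))) (.n (.n (.n (.n (.c 3) .z) (.n (.c 2) (.n (.c 1) (.c 5)))) (.n (.n (.c 6) (.n (.c 6) (.c 6))) (.n (.c 2) (.n (.c 4) (.c 5))))) (.n (.n (.n (.c 4) (.n .z (.c 5))) (.n (.c 6) .z)) .z)))) (.node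
 (.leaf (.n (.n (.n (.n (.n .z (.c 5)) (.n .z (.n (.c 5) (.c 4)))) (.n (.n .z (.n (.c 4) .z)) .z)) (.n (.n (.n .z (.c 3)) (.n (.c 6) .z)) (.n (.n (.c 6) (.n (.c 1) (.c 5))) (.n (.c 1) (.n (.c 1) (.c 2)))))) (.n (.n (.n (.n (.c 2) (.c 6)) (.n (.c 6) .z)) (.n (.n (.c 2) (.n (.c 4) (.c 6))) (.n (.c 4) (.n (.c 5) (.c 1))))) (.n (.n (.n (.c 4) (.n (.c 3) (.c 3))) (.n (.c 3) .z)) .z)))) (.leaf (.n (.n (.n (.n (.n .z (.c 3)) (.n .z (.n (.c 6) (.c 4)))) (.n (.n .z (.n (.c 5) .z)) .z)) (.n (.n (.n .z (.c 1)) (.n (.c 2) (.n (.c 1) (.c 6)))) (.n (.n (.c 1) (.n (.c 1) (.c 3))) (.n (.c 3) (.n .z (.c 2)))))) (.n (.n (.n (.n (.c 6) (.c 2)) (.n (.c 3) (.n (.c 1) (.c 6)))) (.n (.n (.c 3) (.n (.c 2) .z)) (.n (.c 5) (.n (.c 4) .z)))) (.n (.n (.n (.c 4) (.n (.c 5) (.c 3))) (.n (.c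 5) .z)) .z)))))) (.node
 (.leaf (.n (.n (.n (.n (.n .z (.c 4)) (.n .z (.n (.c 3) (.c 3)))) (.n (.n .z (.n (.c 6) .z)) .z)) (.n (.n (.n (.c 3) (.c 3)) (.n .z (.n (.c 4) (.c 2)))) (.n (.n (.c 3) (.n (.c 6) .z)) (.n .z (.n (.c 5) (.c 5)))))) (.n (.n (.n (.n (.c 6) (.c 3)) (.n .z (.n (.c 2) (.c 5)))) (.n (.n (.c 5) (.n (.c 1) (.c 5))) (.n (.c 2) (.n (.c 1) (.c 3))))) (.n (.n (.n (.c 3) (.n (.c 6) (.c 2))) (.n (.c 1) .z)) .z)))) (.node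
 (.leaf (.n .z (.n .z (.n (.n .z (.n .z (.n (.c 3) (.c 4)))) (.n (.n .z (.n (.c 1) .z)) (.n (.c 6) (.n (.c 6) (.c 5)))))))) (.leaf (.n .z (.n .z (.n (.n .z (.n .z (.n (.c 4) (.c 3)))) (.n (.n .z (.n (.c 1) .z)) (.n (.c 6) (.n (.c 6) (.c 5))))))))))) (.node
 (.node
 (.leaf (.n .z (.n .z (.n .z (.n (.n (.c 3) (.n (.c 6) (.c 4))) (.n (.c 1) (.n (.c 6) (.c 5)))))))) (.node
 (.leaf (.n .z (.n .z (.n (.n .z (.n .z (.n (.c 1) (.c 1)))) (.n (.n (.c 6) (.n (.c 5) (.c 6))) (.n (.c 5) (.n (.c 6) .z))))))) (.leaf (.n .z (.n .z (.n .z (.n (.n (.c 4) (.n (.c 6) (.c 3))) (.n (.c 1) (.n (.c 6) (.c 5)))))))))) (.node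
 (.leaf (.n .z (.n .z (.n (.n .z (.n .z (.n (.c 6) (.c 6)))) (.n (.n (.c 1) (.n (.c 5) (.c 1))) (.n (.c 5) (.n (.c 6) .z))))))) (.node
 (.leaf (.n .z (.n .z (.n .z (.n (.n .z (.n (.c 4) .z)) (.n (.c 4) (.n (.c 4) .z))))))) (.leaf (.n .z (.n .z (.n (.n .z (.n .z (.n (.c 6) (.c 6)))) (.n (.n (.c 6) (.n (.c 5) (.c 6))) (.n (.c 5) (.n (.c 5) .z)))))))))))))

end CfsgLib.Spor.ONGL
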