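import Cfsg.Agent.Lib.Spor.Fi22GL.Pack

/-! Generated matrices of degree 45 over the field of seven elements for a triple cover of the O'Nan group:
the six involutions act on a uniserial module 37.8 of the subgroup `L₃(7):2`. -/

set_option autoImplicit false
set_option maxRecDepth 100000

namespace CfsgLib.Spor.ONGL

open CfsgLib.Spor.Fi22GL

/-- the rows of letter 4 -/
def rows4 : RT CT := (.node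
 (.node
 (.node
 (.node
 (.node
 (.leaf (.n (.n (.n (.n (.n (.c 5) (.c 2)) (.n (.c 5) (.n (.c 3) (.c 3)))) (.n (.n (.c 2) (.n (.c 2) (.c 4))) (.n (.c 6) (.n (.c 1) (.c 5))))) (.n (.n (.n (.c 6) (.c 2)) (.n (.c 6) (.n (.c 3) (.c 5)))) (.n (.n (.c 1) (.n (.c 6) (.c 1))) (.n (.c 1) (.n (.c 2) (.c 4)))))) (.n (.n (.n (.n (.c 6) (.c 1)) (.n (.c 1) (.n (.c 1) (.c 6)))) (.n (.n (.c 5) (.n .z (.c 3))) (.n .z (.n (.c 3) (.c 3))))) (.n (.n (.n (.c 3) (.n (.c 5) (.c 3))) (.n (.c 5) .z)) .z)))) (.leaf (.n (.n (.n (.n (.n (.c 6) .z) (.n (.c 1) (.n (.c 2) (.c 5)))) (.n (.n (.c 6) (.n (.c 6) (.c 6))) (.n (.c 4) (.n (.c 3) (.c 1))))) (.n (.n (.n (.c 2) .z) (.n (.c 1) (.n (.c 1) (.c 1)))) (.n (.n (.c 2) (.n (.c 5) (.c 2))) (.n (.c 6) (.n (.c 1) (.c 4)))))) (.n (.n (.n (.n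 (.c 3) (.c 3)) (.n .z (.n (.c 4) (.c 5)))) (.n (.n (.c 2) (.n (.c 2) (.c 2))) (.n (.c 6) (.n (.c 4) (.c 4))))) (.n (.n (.n (.c 3) (.n (.c 1) (.c 1))) .z) .z))))) (.node
 (.leaf (.n (.n (.n (.n (.n (.c 5) (.c 5)) (.n (.c 5) (.n (.c 3) (.c 2)))) (.n (.n (.c 4) (.n (.c 1) .z)) (.n (.c 5) (.n (.c 4) (.c 3))))) (.n (.n (.n .z (.c 4)) (.n (.c 1) (.n (.c 2) (.c 6)))) (.n (.n .z (.n (.c 6) .z)) (.n (.c 1) (.n (.c 5) (.c 2)))))) (.n (.n (.n (.n (.c 1) (.c 5)) (.n (.c 5) (.n (.c 4) (.c 5)))) (.n (.n (.c 6) (.n (.c 2) (.c 3))) (.n (.c 4) (.n (.c 6) (.c 2))))) (.n (.n (.n (.c 5) (.n (.c 3) (.c 2))) (.n (.c 4) .z)) .z)))) (.node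
 (.leaf (.n (.n (.n (.n (.n (.c 1) .z) (.n (.c 5) (.n (.c 5) (.c 5)))) (.n (.n (.c 5) (.n .z (.c 2))) (.n (.c 1) (.n (.c 3) .z)))) (.n (.n (.n (.c 4) (.c 4)) (.n (.c 2) (.n (.c 5) (.c 4)))) (.n (.n (.c 5) (.n (.c 1) (.c 5))) (.n (.c 6) (.n (.c 3) (.c 2)))))) (.n (.n (.n (.n (.c 4) (.c 6)) (.n (.c 6) (.n (.c 2) (.c 5)))) (.n (.n (.c 3) (.n (.c 6) (.c 1))) (.n (.c 3) (.n (.c 3) (.c 6))))) (.n (.n (.n (.c 6) (.n (.c 5) (.c 2))) (.n (.c 4) .z)) .z)))) (.leaf (.n (.n (.n (.n (.n (.c 5) (.c 3)) (.n (.c 1) .z)) (.n (.n (.c 6) (.n (.c 6) (.c 3))) (.n (.c 6) (.n (.c 3) (.c 1))))) (.n (.n (.n (.c 4) (.c 4)) (.n (.c 3) (.n (.c 3) (.c 5)))) (.n (.n (.c 4) (.n (.c 1) (.c 4))) (.n (.c 2) (.n (.c 2) (.c 2)))))) (.n (.n (.n (.n (.c 5) (.c 3)) (.n (.c 6) (.n (.c 5) .z))) (.n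 (.n (.c 5) (.n (.c 6) (.c 6))) (.n (.c 4) (.n (.c 1) (.c 1))))) (.n (.n (.n (.c 4) (.n .z (.c 2))) (.n (.c 5) .z)) .z))))))) (.node
 (.node
 (.leaf (.n (.n (.n (.n (.n (.c 1) (.c 4)) (.n (.c 5) (.n (.c 6) (.c 3)))) (.n (.n (.c 5) (.n (.c 4) (.c 5))) (.n .z (.n (.c 4) (.c 5))))) (.n (.n (.n .z (.c 5)) (.n (.c 6) (.n (.c 1) (.c 6)))) (.n (.n (.c 2) (.n (.c 6) (.c 2))) (.n (.c 1) (.n (.c 3) (.c 5)))))) (.n (.n (.n (.n (.c 3) .z) (.n (.c 3) (.n (.c 2) (.c 1)))) (.n (.n (.c 6) (.n (.c 2) .z)) (.n (.c 6) (.n (.c 6) (.c 6))))) (.n (.n (.n (.c 5) (.n (.c 4) (.c 6))) (.n (.c 6) .z)) .z)))) (.node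
 (.leaf (.n (.n (.n (.n (.n (.c 6) (.c 5)) (.n (.c 2) (.n (.c 2) (.c 2)))) (.n (.n (.c 5) (.n (.c 2) (.c 6))) (.n (.c 2) (.n .z (.c 1))))) (.n (.n (.n (.c 1) (.c 4)) (.n (.c 5) (.n (.c 3) (.c 6)))) (.n (.n (.c 1) (.n (.c 2) (.c 2))) (.n .z (.n (.c 6) (.c 6)))))) (.n (.n (.n (.n (.c 5) (.c 1)) (.n (.c 2) (.n (.c 5) (.c 4)))) (.n (.n .z (.n (.c 4) (.c 4))) (.n (.c 5) (.n (.c 3) (.c 5))))) (.n (.n (.n (.c 3) (.n (.c 4) (.c 1))) (.n (.c 3) .z)) .z)))) (.leaf (.n (.n (.n (.n (.n (.c 4) (.c 4)) (.n (.c 6) (.n .z (.c 3)))) (.n (.n (.c 1) (.n (.c 5) (.c 5))) (.n .z (.n (.c 4) (.c 6))))) (.n (.n .z (.n (.c 3) (.n (.c 4) (.c 4)))) (.n (.n (.c 1) (.n .z (.c 4))) (.n (.c 2) (.n (.c 2) (.c 6)))))) (.n (.n (.n (.n (.c 6) (.c 6)) (.n (.c 1) (.n (.c 5) (.c 4)))) (.n (.n (.c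 3) (.n .z (.c 2))) (.n .z (.n .z (.c 3))))) (.n (.n (.n (.c 4) (.n (.c 4) (.c 2))) (.n (.c 2) .z)) .z)))))) (.node
 (.leaf (.n (.n (.n (.n (.n (.c 5) (.c 2)) (.n (.c 5) (.n (.c 5) (.c 1)))) (.n (.n .z (.n (.c 1) .z)) (.n (.c 6) (.n (.c 2) (.c 6))))) (.n (.n (.n (.c 4) (.c 1)) (.n (.c 2) (.n (.c 4) (.c 2)))) (.n (.n (.c 1) (.n (.c 2) (.c 1))) (.n (.c 3) (.n .z (.c 2)))))) (.n (.n (.n (.n (.c 3) (.c 2)) (.n .z (.n (.c 3) (.c 6)))) (.n (.n (.c 4) (.n (.c 1) (.c 5))) (.n (.c 3) (.n (.c 3) (.c 1))))) (.n (.n (.n (.c 2) (.n (.c 5) (.c 4))) (.n (.c 3) .z)) .z)))) (.node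
 (.leaf (.n (.n (.n (.n (.n (.c 6) (.c 6)) (.n (.c 6) (.n .z (.c 1)))) (.n (.n (.c 3) (.n (.c 6) (.c 1))) (.n (.c 4) (.n (.c 4) (.c 3))))) (.n (.n (.n (.c 1) (.c 6)) (.n (.c 4) (.n (.c 5) (.c 6)))) (.n (.n (.c 2) (.n (.c 2) (.c 2))) (.n (.c 2) (.n (.c 3) (.c 2)))))) (.n (.n (.n (.n (.c 2) (.c 1)) (.n (.c 6) (.n (.c 2) (.c 1)))) (.n (.n (.c 6) (.n (.c 4) (.c 6))) (.n (.c 4) (.n (.c 1) (.c 4))))) (.n (.n (.n (.c 2) (.n (.c 4) (.c 6))) (.n (.c 4) .z)) .z)))) (.leaf (.n (.n (.n (.n (.n (.c 4) (.c 2)) (.n .z (.n (.c 4) (.c 6)))) (.n (.n (.c 6) (.n (.c 6) (.c 2))) (.n (.c 6) (.n (.c 5) (.c 2))))) (.n (.n (.n (.c 3) (.c 2)) (.n (.c 3) (.n .z (.c 4)))) (.n (.n (.c 2) (.n .z (.c 2))) (.n (.c 1) (.n (.c 4) (.c 4)))))) (.n (.n (.n (.n (.c 4) .z) (.n (.c 4) (.n (.c 2)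 (.c 1)))) (.n (.n (.c 3) (.n (.c 5) (.c 1))) (.n (.c 5) (.n (.c 5) .z)))) (.n (.n (.n (.c 6) (.n (.c 4) (.c 6))) (.n (.c 3) .z)) .z)))))))) (.node
 (.node
 (.node
 (.leaf (.n (.n (.n (.n (.n (.c 6) (.c 6)) (.n (.c 1) (.n (.c 1) (.c 4)))) (.n (.n (.c 4) (.n (.c 2) (.c 1))) (.n (.c 2) (.n (.c 6) .z)))) (.n (.n (.n (.c 6) (.c 5)) (.n .z (.n (.c 2) (.c 5)))) (.n (.n (.c 2) .z) (.n (.c 4) (.n .z (.c 6)))))) (.n (.n (.n (.n (.c 3) (.c 5)) (.n .z (.n (.c 3) (.c 3)))) (.n (.n (.c 5) (.n (.c 1) (.c 4))) (.n (.c 3) (.n (.c 2) (.c 3))))) (.n (.n (.n (.c 1) (.n (.c 6) (.c 3))) (.n (.c 2) .z)) .z)))) (.leaf (.n (.n (.n (.n (.n (.c 1) (.c 1)) (.n (.c 5) (.n .z (.c 6)))) (.n (.n (.c 2) (.n (.c 5) (.c 1))) (.n (.c 1) (.n (.c 1) (.c 5))))) (.n (.n (.n (.c 3) (.c 1)) (.n (.c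 5) (.n (.c 6) (.c 3)))) (.n (.n (.c 4) (.n (.c 1) .z)) (.n .z (.n (.c 2) (.c 1)))))) (.n (.n (.n (.n (.c 5) .z) (.n (.c 3) (.n (.c 4) .z))) (.n (.n (.c 5) (.n (.c 3) (.c 4))) (.n (.c 4) (.n (.c 1) (.c 3))))) (.n (.n (.n (.c 1) (.n (.c 2) (.c 4))) (.n (.c 6) .z)) .z))))) (.node
 (.leaf (.n (.n (.n (.n (.n .z (.c 2)) (.n (.c 2) (.n (.c 5) (.c 4)))) (.n (.n (.c 2) (.n (.c 5) (.c 1))) (.n (.c 3) (.n (.c 4) .z)))) (.n (.n (.n (.c 2) .z) (.n (.c 3) (.n (.c 1) (.c 3)))) (.n (.n .z (.n (.c 5) .z)) (.n (.c 2) .z)))) (.n (.n (.n (.n (.c 4) (.c 2)) (.n (.c 6) (.n (.c 1) (.c 6)))) (.n (.n (.c 3) (.n (.c 5) (.c 6))) (.n (.c 6) (.n (.c 6) (.c 6))))) (.n (.n (.n (.c 6) (.n (.c 1) (.c 5))) (.n (.c 1) .z)) .z)))) (.node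
 (.leaf (.n (.n (.n (.n (.n (.c 6) .z) (.n (.c 2) (.n .z (.c 1)))) (.n (.n (.c 3) (.n (.c 5) (.c 4))) (.n (.c 1) (.n .z (.c 3))))) (.n (.n (.n (.c 5) (.c 3)) (.n .z (.n (.c 6) (.c 6)))) (.n (.n (.c 3) (.n (.c 6) (.c 3))) (.n (.c 2) (.n (.c 6) .z))))) (.n (.n (.n (.n (.c 1) (.c 3)) (.n (.c 3) (.n (.c 6) (.c 3)))) (.n (.n (.c 2) (.n (.c 1) (.c 3))) (.n (.c 5) (.n (.c 4) (.c 6))))) (.n (.n (.n .z (.n (.c 2) .z)) .z) .z)))) (.leaf (.n (.n (.n (.n (.n (.c 3) (.c 1)) (.n (.c 1) (.n (.c 4) (.c 6)))) (.n (.n (.c 2) (.n (.c 2) (.c 1))) (.n (.c 2) (.n (.c 5) (.c 3))))) (.n (.n (.n (.c 5) (.c 5)) (.n (.c 1) (.n (.c 5) (.c 5)))) (.n (.n (.c 6) (.n (.c 4) (.c 6))) (.n (.c 5) (.n .z (.c 2)))))) (.n (.n (.n (.n (.c 3) (.c 5)) (.n (.c 3) (.n (.c 5) (.c 6)))) (.n (.n (.c 5)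 (.n (.c 4) (.c 1))) (.n (.c 2) (.n (.c 6) (.c 2))))) (.n (.n (.n (.c 2) (.n (.c 4) .z)) (.n (.c 5) .z)) .z))))))) (.node
 (.node
 (.leaf (.n (.n (.n (.n (.n (.c 1) (.c 6)) (.n (.c 4) (.n (.c 3) (.c 4)))) (.n (.n (.c 4) (.n (.c 2) (.c 1))) (.n (.c 6) (.n (.c 1) .z)))) (.n (.n (.n (.c 1) (.c 4)) (.n (.c 3) (.n (.c 5) (.c 3)))) (.n (.n (.c 4) (.n (.c 2) (.c 5))) (.n (.c 6) (.n (.c 4) (.c 1)))))) (.n (.n (.n (.n (.c 6) (.c 2)) (.n .z (.n (.c 5) (.c 4)))) (.n (.n .z (.n (.c 1) (.c 3))) (.n (.c 4) (.n (.c 3) (.c 3))))) (.n (.n (.n (.c 4) (.n (.c 3) (.c 1))) (.n (.c 3) .z)) .z)))) (.node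
 (.leaf (.n (.n (.n (.n (.n (.c 2) (.c 2)) (.n (.c 6) (.n (.c 6) (.c 5)))) (.n (.n (.c 6) (.n (.c 1) .z)) (.n .z (.n (.c 5) .z)))) (.n (.n (.n (.c 4) (.c 1)) (.n (.c 5) (.n (.c 1) (.c 3)))) (.n (.n (.c 6) (.n (.c 1) (.c 6))) (.n (.c 5) (.n (.c 2) (.c 2)))))) (.n (.n (.n (.n (.c 1) (.c 4)) (.n .z (.n (.c 3) (.c 2)))) (.n (.n .z (.n (.c 4) (.c 2))) (.n (.c 2) (.n (.c 3) (.c 5))))) (.n (.n (.n (.c 6) (.n (.c 6) (.c 1))) (.n (.c 5) .z)) .z)))) (.leaf (.n (.n (.n (.n (.n (.c 5) (.c 1)) (.n (.c 2) (.n (.c 2) (.c 2)))) (.n (.n (.c 2) (.n (.c 4) (.c 5))) (.n (.c 1) (.n (.c 4) .z)))) (.n (.n (.n (.c 5) (.c 2)) (.n (.c 4) (.n (.c 5) (.c 1)))) (.n (.n (.c 1) (.n (.c 3) (.c 1))) (.n (.c 6) (.n (.c 1) (.c 6)))))) (.n (.n (.n (.n (.c 1) (.c 5)) (.n .z (.n (.c 6) (.c 1))))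 (.n (.n (.c 3) (.n (.c 5) (.c 6))) (.n (.c 4) (.n (.c 2) .z)))) (.n (.n (.n .z (.n .z (.c 4))) .z) .z)))))) (.node
 (.leaf (.n (.n (.n (.n (.n (.c 2) .z) (.n (.c 1) (.n (.c 4) (.c 2)))) (.n (.n (.c 6) (.n (.c 6) (.c 3))) (.n (.c 2) (.n (.c 5) (.c 6))))) (.n (.n (.n (.c 6) (.c 2)) (.n (.c 5) (.n (.c 5) (.c 2)))) (.n (.n (.c 1) (.n (.c 1) .z)) (.n (.c 4) (.n (.c 3) (.c 3)))))) (.n (.n (.n (.n (.c 1) (.c 4)) (.n (.c 5) (.n (.c 5) (.c 4)))) (.n (.n (.c 4) (.n (.c 3) (.c 3))) (.n .z (.n (.c 4) (.c 3))))) (.n (.n (.n (.c 4) (.n (.c 4) (.c 1))) (.n (.c 1) .z)) .z)))) (.node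
 (.leaf (.n (.n (.n (.n (.n (.c 3) (.c 3)) (.n (.c 1) (.n (.c 1) (.c 4)))) (.n (.n (.c 1) (.n .z (.c 2))) (.n (.c 4) (.n (.c 2) .z)))) (.n (.n (.n (.c 2) (.c 4)) (.n (.c 3) (.n (.c 3) .z))) (.n (.n (.c 5) (.n (.c 4) (.c 4))) (.n (.c 3) (.n (.c 3) (.c 3)))))) (.n (.n (.n (.n (.c 2) (.c 6)) (.n (.c 5) (.n .z (.c 5)))) (.n (.n (.c 1) (.n (.c 1) (.c 1))) (.n (.c 4) (.n (.c 3) (.c 6))))) (.n (.n (.n (.c 5) (.n (.c 2) (.c 1))) .z) .z)))) (.leaf (.n (.n (.n (.n (.n (.c 2) .z) (.n (.c 4) (.n (.c 1) (.c 5)))) (.n (.n (.c 4) (.n .z (.c 2))) (.n .z (.n (.c 1) .z)))) (.n (.n (.n (.c 6) .z) (.n (.c 4) (.n (.c 1) (.c 1)))) (.n (.n (.c 5) (.n .z (.c 5))) (.n (.c 2) (.n (.c 6) .z))))) (.n (.n (.n (.n (.c 6) (.c 6)) (.n (.c 3) (.n (.c 4) (.c 3)))) (.n (.n (.c 3) (.n (.c 5)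 (.c 4))) (.n (.c 4) (.n .z (.c 1))))) (.n (.n (.n (.c 1) (.n (.c 3) (.c 6))) (.n (.c 6) .z)) .z))))))))) (.node
 (.node
 (.node
 (.node
 (.leaf (.n (.n (.n (.n (.n .z (.c 3)) (.n (.c 4) (.n (.c 5) (.c 6)))) (.n (.n (.c 1) (.n (.c 1) (.c 2))) (.n (.c 1) (.n (.c 1) (.c 3))))) (.n (.n (.n (.c 3) (.c 5)) (.n (.c 2) (.n (.c 4) (.c 6)))) (.n (.n (.c 3) (.n (.c 2) (.c 5))) (.n (.c 4) (.n (.c 6) (.c 5)))))) (.n (.n (.n (.n (.c 3) (.c 2)) (.n (.c 3) (.n (.c 6) (.c 6)))) (.n (.n (.c 2) (.n (.c 5) .z)) (.n .z (.n (.c 3) (.c 2))))) (.n (.n (.n (.c 6) (.n (.c 5) (.c 4))) (.n (.c 5) .z)) .z)))) (.leaf (.n (.n (.n (.n (.n (.c 1) (.c 6)) (.n (.c 4) (.n (.c 1) .z))) (.n (.n (.c 5) (.n (.c 1) (.c 1))) (.n .z (.n (.c 4) (.c 3))))) (.n (.n (.n (.c 5) (.c 6)) (.n .z (.n (.c 2)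 (.c 2)))) (.n (.n (.c 3) (.n (.c 5) (.c 3))) (.n (.c 1) (.n (.c 3) (.c 1)))))) (.n (.n (.n (.n (.c 4) (.c 1)) (.n (.c 5) (.n (.c 3) (.c 5)))) (.n (.n (.c 5) (.n (.c 3) (.c 1))) (.n (.c 1) (.n (.c 5) (.c 4))))) (.n (.n (.n (.c 1) (.n (.c 5) (.c 6))) (.n (.c 3) .z)) .z))))) (.node
 (.leaf (.n (.n (.n (.n (.n (.c 3) (.c 6)) (.n (.c 1) (.n (.c 1) .z))) (.n (.n (.c 2) (.n (.c 5) (.c 5))) (.n (.c 5) (.n (.c 5) (.c 3))))) (.n (.n (.n (.c 5) (.c 1)) (.n (.c 1) (.n .z (.c 4)))) (.n (.n (.c 1) (.n (.c 3) (.c 1))) (.n (.c 3) (.n (.c 6) (.c 2)))))) (.n (.n (.n .z (.n (.c 5) (.n (.c 5) (.c 6)))) (.n (.n (.c 2) (.n (.c 3) .z)) (.n (.c 1) (.n .z (.c 5))))) (.n (.n (.n (.c 3) (.n .z (.c 3))) (.n (.c 2) .z)) .z)))) (.node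
 (.leaf (.n (.n (.n (.n (.n (.c 5) (.c 1)) (.n (.c 3) (.n (.c 1) (.c 6)))) (.n (.n (.c 4) (.n (.c 6) (.c 5))) (.n .z (.n (.c 2) (.c 3))))) (.n (.n (.n (.c 4) (.c 4)) (.n (.c 3) (.n (.c 3) (.c 1)))) (.n (.n (.c 5) (.n (.c 3) (.c 6))) (.n .z (.n (.c 3) .z))))) (.n (.n (.n (.n .z (.c 1)) (.n (.c 4) (.n (.c 2) (.c 3)))) (.n (.n (.c 1) (.n (.c 5) (.c 4))) (.n (.c 3) (.n (.c 2) (.c 6))))) (.n (.n (.n (.c 5) (.n (.c 6) (.c 2))) (.n (.c 3) .z)) .z)))) (.leaf (.n (.n (.n (.n (.n (.c 5) (.c 1)) (.n (.c 5) (.n (.c 5) (.c 2)))) (.n (.n (.c 1) (.n (.c 1) (.c 5))) (.n (.c 5) (.n (.c 5) (.c 2))))) (.n (.n (.n (.c 2) (.c 2)) (.n (.c 1) (.n (.c 5) (.c 2)))) (.n (.n (.c 1) (.n (.c 1) (.c 1))) (.n .z (.n (.c 1) (.c 5)))))) (.n (.n (.n (.n (.c 1) (.c 5)) (.n (.c 2) (.n (.c 6)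 (.c 1)))) (.n (.n (.c 1) (.n (.c 2) (.c 6))) (.n (.c 2) (.n (.c 2) (.c 6))))) (.n (.n (.n (.c 1) .z) (.n (.c 2) .z)) .z))))))) (.node
 (.node
 (.leaf (.n (.n (.n (.n (.n (.c 3) (.c 4)) (.n (.c 2) (.n (.c 3) (.c 2)))) (.n (.n (.c 2) (.n (.c 6) (.c 4))) (.n (.c 3) (.n (.c 4) .z)))) (.n (.n (.n (.c 5) (.c 4)) (.n (.c 2) (.n (.c 4) (.c 1)))) (.n (.n (.c 6) (.n (.c 2) .z)) (.n (.c 4) (.n (.c 1) (.c 5)))))) (.n (.n (.n (.n (.c 2) .z) (.n (.c 2) (.n .z (.c 6)))) (.n (.n (.c 1) (.n (.c 4) (.c 5))) (.n (.c 4) (.n (.c 4) (.c 3))))) (.n (.n (.n (.c 4) (.n (.c 6) (.c 5))) (.n (.c 3) .z)) .z)))) (.node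
 (.leaf (.n (.n (.n (.n (.n (.c 2) (.c 1)) (.n (.c 4) (.n (.c 6) (.c 6)))) (.n (.n (.c 1) (.n (.c 5) .z)) (.n (.c 2) (.n (.c 6) (.c 5))))) (.n (.n (.n (.c 3) .z) (.n (.c 6) (.n (.c 3) (.c 6)))) (.n (.n (.c 2) (.n (.c 2) (.c 3))) (.n (.c 4) (.n (.c 3) (.c 1)))))) (.n (.n (.n (.n (.c 1) (.c 4)) (.n (.c 6) (.n (.c 5) (.c 5)))) (.n (.n (.c 1) (.n (.c 4) (.c 6))) (.n .z (.n .z (.c 4))))) (.n (.n (.n (.c 2) (.n (.c 6) (.c 2))) (.n (.c 2) .z)) .z)))) (.leaf (.n (.n (.n (.n (.n (.c 6) (.c 3)) (.n (.c 2) (.n .z (.c 3)))) (.n (.n (.c 5) (.n (.c 4) (.c 6))) (.n (.c 6) (.n (.c 6) (.c 2))))) (.n (.n .z (.n (.c 1) (.n (.c 2) (.c 2)))) (.n (.n .z (.n (.c 2) (.c 6))) (.n (.c 5) (.n (.c 1) (.c 2)))))) (.n (.n (.n (.n .z (.c 3)) (.n (.c 1) (.n (.c 3) .z))) (.n (.n (.c 4) (.n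 (.c 4) (.c 5))) (.n (.c 1) (.n (.c 1) (.c 1))))) (.n (.n (.n (.c 3) (.n (.c 3) (.c 3))) (.n (.c 5) .z)) .z)))))) (.node
 (.leaf (.n (.n (.n (.n .z (.n (.c 3) (.n (.c 4) (.c 5)))) (.n (.n (.c 6) (.n (.c 6) (.c 1))) (.n (.c 5) (.n (.c 1) (.c 2))))) (.n (.n (.n .z (.c 3)) (.n .z (.n (.c 4) (.c 4)))) (.n (.n (.c 4) (.n .z (.c 3))) (.n (.c 3) (.n (.c 1) (.c 6)))))) (.n (.n (.n (.n (.c 1) (.c 6)) (.n (.c 2) (.n .z (.c 5)))) (.n (.n (.c 4) (.n (.c 1) (.c 4))) (.n .z (.n (.c 5) (.c 6))))) (.n (.n (.n (.c 4) .z) (.n (.c 4) .z)) .z)))) (.node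
 (.leaf (.n (.n (.n (.n (.n (.c 1) (.c 6)) (.n (.c 4) (.n (.c 3) (.c 1)))) (.n (.n (.c 6) (.n (.c 4) (.c 2))) (.n (.c 4) (.n .z (.c 6))))) (.n (.n (.n (.c 2) (.c 6)) (.n (.c 3) (.n (.c 1) (.c 1)))) (.n .z (.n (.c 5) (.n (.c 2) (.c 4)))))) (.n (.n (.n (.n (.c 5) (.c 5)) (.n (.c 5) (.n .z (.c 2)))) (.n (.n (.c 2) (.n (.c 2) (.c 2))) (.n (.c 1) (.n (.c 2) (.c 3))))) (.n (.n (.n (.c 4) (.n .z (.c 1))) (.n (.c 1) .z)) .z)))) (.leaf (.n (.n (.n (.n (.n (.c 6) (.c 6)) (.n (.c 1) (.n (.c 2) .z))) (.n (.n (.c 4) (.n (.c 4) .z)) (.n (.c 6) (.n (.c 4) (.c 2))))) (.n (.n (.n .z (.c 4)) (.n (.c 4) (.n .z (.c 1)))) (.n (.n (.c 3) (.n (.c 6) (.c 3))) (.n (.c 6) (.n (.c 5) (.c 1)))))) (.n (.n (.n (.n (.c 6) (.c 5)) (.n (.c 6) (.n (.c 3) (.c 2)))) (.n (.n .z (.n (.c 6) (.c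 2))) (.n (.c 6) (.n (.c 1) (.c 5))))) (.n (.n (.n .z (.n (.c 6) (.c 5))) (.n (.c 5) .z)) .z)))))))) (.node
 (.node
 (.node
 (.leaf (.n (.n (.n (.n (.n (.c 1) (.c 1)) (.n .z (.n (.c 1) (.c 3)))) (.n (.n (.c 2) (.n (.c 1) .z)) (.n (.c 1) (.n (.c 6) (.c 6))))) (.n (.n (.n (.c 6) (.c 1)) (.n (.c 6) (.n (.c 1) (.c 4)))) (.n (.n (.c 2) (.n (.c 6) (.c 2))) (.n (.c 6) (.n (.c 3) (.c 6)))))) (.n (.n (.n (.n (.c 5) (.c 3)) (.n (.c 5) (.n (.c 6) .z))) (.n (.n .z (.n (.c 5) (.c 1))) (.n (.c 5) (.n (.c 6) (.c 2))))) (.n (.n (.n (.c 3) (.n (.c 1) (.c 5))) (.n (.c 6) .z)) .z)))) (.node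
 (.leaf (.n (.n (.n (.n (.n (.c 6) (.c 3)) (.n (.c 5) (.n (.c 4) (.c 6)))) (.n (.n (.c 4) (.n (.c 1) (.c 2))) (.n (.c 4) (.n .z (.c 4))))) (.n (.n (.n (.c 4) (.c 4)) (.n (.c 6) (.n (.c 2) (.c 2)))) (.n (.n (.c 5) (.n (.c 5) (.c 5))) (.n (.c 3) (.n (.c 3) (.c 1)))))) (.n (.n (.n (.n (.c 3) (.c 6)) (.n (.c 5) (.n (.c 2) .z))) (.n (.n (.c 5) (.n (.c 6) (.c 6))) (.n (.c 2) (.n (.c 4) (.c 3))))) (.n (.n (.n (.c 6) .z) (.n (.c 3) .z)) .z)))) (.leaf (.n (.n (.n (.n (.n .z (.c 2)) (.n (.c 6) (.n (.c 2) (.c 2)))) (.n (.n (.c 4) (.n .z (.c 5))) (.n .z (.n (.c 6) (.c 1))))) (.n (.n (.n (.c 2) (.c 3)) (.n (.c 2) (.n .z (.c 4)))) (.n (.n (.c 4) (.n (.c 4) (.c 4))) (.n (.c 3) (.n (.c 4) (.c 4)))))) (.n (.n (.n (.n (.c 2) (.c 1)) (.n (.c 1) (.n (.c 5) (.c 3)))) (.n (.n (.c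 1) (.n (.c 1) (.c 4))) (.n (.c 3) (.n (.c 4) (.c 4))))) (.n (.n (.n (.c 3) (.n (.c 2) (.c 5))) (.n (.c 5) .z)) .z)))))) (.node
 (.leaf (.n (.n (.n (.n (.n (.c 2) (.c 2)) (.n (.c 1) (.n (.c 4) (.c 2)))) (.n (.n (.c 1) (.n (.c 2) (.c 4))) (.n (.c 2) (.n (.c 2) .z)))) (.n (.n (.n (.c 3) (.c 1)) (.n (.c 1) (.n (.c 4) (.c 4)))) (.n (.n (.c 1) (.n (.c 3) (.c 1))) (.n (.c 5) (.n (.c 6) .z))))) (.n (.n (.n (.n (.c 5) (.c 5)) (.n (.c 5) (.n (.c 4) (.c 3)))) (.n (.n (.c 5) (.n (.c 5) (.c 5))) (.n (.c 6) (.n .z (.c 6))))) (.n (.n (.n (.c 6) (.n (.c 5) (.c 5))) (.n (.c 1) .z)) .z)))) (.node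
 (.leaf (.n .z (.n .z (.n .z (.n (.n (.c 6) .z) .z))))) (.leaf (.n .z (.n .z (.n .z (.n (.n .z (.n .z (.c 1))) .z)))))))) (.node
 (.node
 (.leaf (.n .z (.n .z (.n (.n .z (.n .z (.n (.c 6) .z))) .z)))) (.node
 (.leaf (.n .z (.n .z (.n .z (.n .z (.n (.c 1) .z)))))) (.leaf (.n .z (.n .z (.n (.n .z (.n .z (.n .z (.c 1)))) .z)))))) (.node
 (.leaf (.n .z (.n .z (.n .z (.n (.n .z (.n (.c 1) .z)) .z))))) (.node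
 (.leaf (.n .z (.n .z (.n .z (.n .z (.n .z (.n (.c 6) .z))))))) (.leaf (.n .z (.n .z (.n .z (.n .z (.n .z (.n .z (.c 6))))))))))))))

/-- the rows of letter 5 -/
def rows5 : RT CT := (.node
 (.node
 (.node
 (.node
 (.node
 (.leaf (.n (.n (.n (.n (.n (.c 5) (.c 2)) (.n (.c 6) (.n .z (.c 4)))) (.n (.n (.c 6) (.n .z (.c 4))) (.n (.c 3) (.n .z (.c 3))))) (.n (.n (.n (.c 6) (.c 2)) (.n .z (.n (.c 1) .z))) (.n (.n (.c 2) (.n (.c 1) (.c 5))) (.n .z (.n (.c 4) (.c 6)))))) (.n (.n (.n (.n (.c 6) .z) (.n .z (.n (.c 4) (.c 2)))) (.n (.n .z (.n (.c 5) (.c 2))) (.n (.c 1) (.n .z (.c 3))))) (.n (.n (.n (.c 6) (.n (.c 2) (.c 6))) .z) .z)))) (.leaf (.n (.n (.n (.n (.n (.c 3) (.c 4)) (.n (.c 3) (.n .z (.c 1)))) (.n (.n (.c 4) (.n (.c 3) (.c 1))) (.n (.c 4) .z))) (.n (.n (.n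 (.c 3) (.c 1)) (.n .z (.n (.c 3) (.c 1)))) (.n (.n (.c 6) (.n (.c 2) (.c 5))) (.n (.c 5) (.n (.c 6) (.c 2)))))) (.n (.n (.n (.n (.c 1) (.c 3)) (.n .z (.n (.c 5) (.c 6)))) (.n (.n .z (.n (.c 5) (.c 5))) (.n (.c 2) (.n .z (.c 3))))) (.n (.n (.n (.c 1) (.n .z (.c 4))) (.n (.c 5) .z)) .z))))) (.node
 (.leaf (.n (.n (.n (.n (.n (.c 5) (.c 2)) (.n (.c 3) (.n .z (.c 4)))) (.n (.n (.c 4) (.n (.c 5) (.c 4))) (.n .z (.n .z (.c 1))))) (.n (.n (.n (.c 3) (.c 2)) (.n (.c 1) (.n .z (.c 1)))) (.n (.n (.c 4) (.n (.c 4) (.c 5))) (.n (.c 1) (.n (.c 4) (.c 4)))))) (.n (.n (.n (.n (.c 1) .z) (.n (.c 5) (.n (.c 5) .z))) (.n (.n .z (.n (.c 1) .z)) (.n (.c 3) (.n .z (.c 3))))) (.n (.n (.n (.c 4) (.n (.c 5) (.c 3))) (.n (.c 6) .z)) .z)))) (.node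
 (.leaf (.n (.n (.n (.n (.n (.c 6) (.c 1)) (.n (.c 2) (.n .z (.c 2)))) (.n (.n (.c 6) (.n (.c 2) .z)) (.n (.c 3) (.n .z (.c 5))))) (.n (.n (.n (.c 3) .z) (.n (.c 6) (.n (.c 6) (.c 2)))) (.n (.n (.c 3) (.n (.c 1) (.c 6))) (.n (.c 2) (.n .z (.c 1)))))) (.n (.n (.n (.n (.c 3) .z) (.n (.c 5) (.n (.c 2) (.c 2)))) (.n (.n (.c 1) (.n (.c 3) (.c 6))) (.n (.c 2) (.n .z (.c 4))))) (.n (.n (.n (.c 3) (.n .z (.c 5))) (.n (.c 1) .z)) .z)))) (.leaf (.n (.n (.n (.n (.n (.c 2) (.c 5)) (.n (.c 3) (.n .z (.c 3)))) (.n (.n (.c 2) (.n (.c 4) .z)) (.n (.c 1) (.n .z (.c 4))))) (.n (.n (.n (.c 6) (.c 1)) (.n (.c 1) (.n (.c 2) (.c 4)))) (.n (.n (.c 5) (.n (.c 5) (.c 3))) (.n (.c 6) (.n .z (.c 4)))))) (.n (.n (.n (.n (.c 1) (.c 3)) (.n (.c 4) (.n (.c 6) (.c 5)))) (.n (.n .z (.n (.c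 6) (.c 2))) (.n (.c 1) (.n .z (.c 1))))) (.n (.n (.n .z (.n .z (.c 5))) (.n (.c 5) .z)) .z))))))) (.node
 (.node
 (.leaf (.n (.n (.n (.n (.n (.c 3) (.c 4)) (.n (.c 1) (.n .z (.c 1)))) (.n (.n (.c 4) (.n (.c 3) (.c 5))) (.n (.c 4) (.n .z (.c 2))))) (.n (.n (.n (.c 6) (.c 5)) (.n (.c 3) (.n .z (.c 2)))) (.n (.n (.c 6) (.n (.c 6) (.c 6))) (.n (.c 2) (.n (.c 5) (.c 6)))))) (.n (.n (.n (.n (.c 6) (.c 4)) (.n (.c 5) .z)) (.n (.n .z (.n (.c 2) .z)) (.n (.c 4) (.n .z (.c 6))))) (.n (.n (.n (.c 6) (.n .z (.c 3))) (.n (.c 5) .z)) .z)))) (.node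
 (.leaf (.n (.n (.n (.n (.n (.c 3) (.c 4)) (.n .z (.n .z (.c 1)))) (.n (.n (.c 3) (.n (.c 3) (.c 5))) (.n (.c 3) (.n .z (.c 2))))) (.n (.n (.n (.c 2) (.c 6)) (.n (.c 4) (.n (.c 6) (.c 1)))) (.n (.n (.c 3) (.n (.c 5) (.c 1))) (.n (.c 2) (.n (.c 3) (.c 1)))))) (.n (.n (.n (.n (.c 4) (.c 5)) (.n (.c 4) (.n (.c 1) .z))) (.n (.n .z (.n (.c 1) .z)) (.n (.c 5) (.n .z (.c 5))))) (.n (.n (.n (.c 2) (.n .z (.c 5))) (.n (.c 2) .z)) .z)))) (.leaf (.n (.n (.n (.n (.n (.c 1) (.c 6)) (.n (.c 4) (.n .z (.c 5)))) (.n (.n (.c 4) (.n (.c 1) (.c 5))) (.n (.c 2) (.n (.c 2) (.c 6))))) (.n (.n (.n (.c 5) .z) (.n (.c 4) (.n (.c 3) .z))) (.n (.n (.c 4) (.n (.c 4) (.c 3))) (.n (.c 5) (.n (.c 5) (.c 2)))))) (.n (.n (.n (.n (.c 3) (.c 3)) (.n (.c 3) (.n (.c 5) .z))) (.n (.n .z (.n (.c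 3) .z)) (.n (.c 1) (.n .z (.c 6))))) (.n (.n (.n (.c 3) (.n (.c 6) (.c 6))) (.n (.c 1) .z)) .z)))))) (.node
 (.leaf (.n (.n (.n (.n (.n (.c 1) (.c 6)) (.n (.c 2) (.n .z (.c 5)))) (.n (.n (.c 5) (.n (.c 4) (.c 4))) (.n (.c 3) (.n .z (.c 6))))) (.n (.n (.n .z (.c 2)) (.n (.c 3) (.n (.c 3) (.c 2)))) (.n (.n (.c 1) (.n (.c 6) (.c 5))) (.n .z (.n (.c 1) (.c 2)))))) (.n (.n (.n (.n (.c 4) (.c 4)) (.n (.c 6) (.n (.c 6) .z))) (.n (.n .z (.n (.c 3) .z)) (.n (.c 5) (.n .z (.c 3))))) (.n (.n (.n (.c 2) (.n (.c 2) (.c 5))) (.n (.c 4) .z)) .z)))) (.node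
 (.leaf (.n (.n (.n (.n (.n (.c 4) (.c 3)) (.n (.c 6) (.n .z (.c 6)))) (.n (.n (.c 4) (.n (.c 4) .z)) (.n (.c 2) (.n .z (.c 4))))) (.n (.n (.n .z (.c 4)) (.n (.c 1) (.n (.c 3) (.c 2)))) (.n (.n (.c 3) (.n (.c 6) (.c 5))) (.n (.c 5) .z)))) (.n (.n (.n (.n .z (.c 1)) (.n (.c 1) (.n (.c 2) .z))) (.n (.n .z (.n (.c 5) .z)) (.n (.c 2) (.n .z (.c 2))))) (.n (.n (.n (.c 6) (.n .z (.c 5))) (.n (.c 6) .z)) .z)))) (.leaf (.n (.n (.n (.n (.n (.c 4) (.c 3)) (.n (.c 1) (.n .z (.c 6)))) (.n (.n (.c 2) (.n (.c 3) .z)) (.n (.c 4) .z))) (.n (.n (.n (.c 4) (.c 2)) (.n (.c 5) .z)) (.n (.n (.c 3) (.n .z (.c 3))) (.n (.c 1) (.n .z (.c 3)))))) (.n (.n (.n (.n (.c 3) (.c 6)) (.n (.c 5) (.n (.c 6) .z))) (.n (.n .z (.n (.c 3) .z)) (.n (.c 4) .z))) (.n (.n (.n .z (.n .z (.c 5))) (.n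 (.c 5) .z)) .z)))))))) (.node
 (.node
 (.node
 (.leaf (.n (.n (.n (.n (.n (.c 4) (.c 3)) (.n (.c 5) (.n .z (.c 6)))) (.n (.n .z (.n .z (.c 4))) (.n (.c 3) (.n .z (.c 2))))) (.n (.n (.n (.c 5) .z) (.n .z (.n (.c 1) .z))) (.n (.n .z (.n (.c 4) (.c 1))) (.n (.c 3) (.n (.c 1) (.c 1)))))) (.n (.n (.n (.n (.c 4) (.c 5)) (.n (.c 6) (.n (.c 4) .z))) (.n (.n .z (.n (.c 1) .z)) (.n .z (.n .z (.c 1))))) (.n (.n .z (.n (.c 3) .z)) .z)))) (.leaf (.n (.n (.n (.n (.n (.c 1) (.c 6)) (.n (.c 3) (.n .z (.c 5)))) (.n (.n .z (.n (.c 6) (.c 5))) (.n (.c 1) (.n (.c 6) .z)))) (.n (.n (.n (.c 2) (.c 5)) (.n (.c 6) (.n .z (.c 5)))) (.n (.n (.c 5) (.n (.c 4) (.c 3))) (.n (.c 2) (.n (.c 5) .z))))) (.n (.n (.n (.n .z (.c 4)) (.n .z (.n (.c 4) .z))) (.n (.n .z (.n (.c 2) .z)) (.n (.c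 4) (.n .z (.c 2))))) (.n (.n (.n (.c 6) .z) .z) .z))))) (.node
 (.leaf (.n (.n (.n (.n (.n (.c 4) (.c 3)) (.n (.c 6) (.n .z (.c 6)))) (.n (.n (.c 3) (.n (.c 3) (.c 3))) (.n .z (.n .z (.c 4))))) (.n (.n (.n .z (.c 2)) (.n (.c 2) (.n (.c 3) (.c 3)))) (.n (.n (.c 6) (.n (.c 5) (.c 4))) (.n (.c 4) (.n (.c 5) (.c 6)))))) (.n (.n (.n (.n (.c 6) .z) (.n (.c 1) (.n (.c 5) .z))) (.n (.n .z (.n (.c 5) .z)) (.n (.c 4) .z))) (.n (.n (.n (.c 6) (.n .z (.c 4))) (.n (.c 6) .z)) .z)))) (.node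
 (.leaf (.n (.n (.n (.n (.n (.c 1) (.c 6)) (.n (.c 2) (.n .z (.c 5)))) (.n (.n (.c 4) (.n (.c 4) (.c 3))) (.n (.c 6) (.n .z (.c 4))))) (.n (.n (.n (.c 1) (.c 5)) (.n (.c 3) (.n (.c 4) (.c 5)))) (.n (.n (.c 2) (.n (.c 6) (.c 4))) (.n (.c 3) (.n .z (.c 1)))))) (.n (.n (.n (.n (.c 3) (.c 4)) (.n .z (.n (.c 4) .z))) (.n (.n .z (.n (.c 2) .z)) (.n (.c 5) (.n .z (.c 4))))) (.n (.n (.n (.c 6) (.n .z (.c 2))) (.n (.c 4) .z)) .z)))) (.leaf (.n (.n (.n (.n (.n (.c 6) (.c 1)) (.n (.c 3) (.n .z (.c 2)))) (.n (.n (.c 2) (.n (.c 2) (.c 6))) (.n .z (.n .z (.c 3))))) (.n (.n (.n (.c 4) (.c 1)) (.n (.c 2) (.n (.c 5) (.c 1)))) (.n (.n .z (.n (.c 6) (.c 5))) (.n (.c 6) (.n (.c 5) .z))))) (.n (.n (.n (.n (.c 5) .z) (.n (.c 3) (.n (.c 6) .z))) (.n (.n .z (.n (.c 1) .z)) (.n (.c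 5) (.n .z (.c 2))))) (.n (.n (.n (.c 1) (.n .z (.c 6))) (.n (.c 2) .z)) .z))))))) (.node
 (.node
 (.leaf (.n (.n (.n (.n (.n (.c 4) (.c 3)) (.n .z (.n .z (.c 6)))) (.n (.n (.c 2) (.n (.c 1) (.c 1))) (.n .z (.n .z (.c 3))))) (.n (.n (.n .z (.c 4)) (.n (.c 5) (.n (.c 2) (.c 4)))) (.n (.n (.c 2) (.n (.c 1) .z)) (.n (.c 6) (.n .z (.c 2)))))) (.n (.n (.n (.n (.c 2) (.c 6)) (.n (.c 1) (.n (.c 1) .z))) (.n (.n .z (.n (.c 3) .z)) (.n (.c 2) .z))) (.n (.n (.n (.c 1) (.n .z (.c 1))) (.n (.c 6) .z)) .z)))) (.node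
 (.leaf (.n (.n (.n (.n (.n (.c 5) (.c 2)) (.n (.c 2) (.n .z (.c 4)))) (.n (.n (.c 1) (.n (.c 2) (.c 2))) (.n (.c 5) (.n .z (.c 3))))) (.n (.n (.n (.c 2) (.c 2)) (.n .z (.n (.c 3) .z))) (.n (.n .z (.n .z (.c 3))) (.n (.c 6) (.n (.c 1) (.c 1)))))) (.n (.n (.n (.n (.c 3) (.c 2)) (.n .z (.n (.c 1) .z))) (.n .z (.n .z (.n .z (.c 2))))) (.n (.n (.n (.c 1) .z) (.n (.c 6) .z)) .z)))) (.leaf (.n (.n (.n (.n (.n (.c 3) (.c 4)) (.n (.c 2) (.n .z (.c 1)))) (.n (.n (.c 3) (.n (.c 4) .z)) (.n (.c 6) (.n .z (.c 4))))) (.n (.n (.n (.c 6) (.c 2)) (.n (.c 3) (.n (.c 5) (.c 5)))) (.n (.n (.c 2) (.n (.c 6) (.c 1))) (.n (.c 6) (.n (.c 3) (.c 4)))))) (.n (.n (.n (.n .z (.c 2)) (.n (.c 1) (.n (.c 6) .z))) (.n (.n .z (.n (.c 4) .z)) (.n (.c 2) (.n .z (.c 6))))) (.n (.n (.n (.c 6)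 (.n .z (.c 2))) .z) .z)))))) (.node
 (.leaf (.n (.n (.n (.n (.n (.c 3) (.c 4)) (.n (.c 3) (.n .z (.c 1)))) (.n .z (.n .z (.n .z (.c 4))))) (.n (.n (.n (.c 1) (.c 4)) (.n .z (.n (.c 1) .z))) (.n (.n .z (.n (.c 4) (.c 6))) (.n (.c 3) (.n (.c 1) (.c 4)))))) (.n (.n (.n (.n (.c 3) (.c 6)) (.n (.c 2) (.n (.c 3) .z))) (.n (.n .z (.n (.c 4) .z)) (.n .z (.n .z (.c 5))))) (.n (.n (.n (.c 2) .z) (.n (.c 4) .z)) .z)))) (.node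
 (.leaf (.n (.n (.n (.n .z (.n (.c 1) .z)) (.n (.n (.c 4) (.n (.c 4) (.c 4))) (.n (.c 3) (.n (.c 2) (.c 2))))) (.n (.n (.n (.c 2) .z) (.n (.c 2) (.n (.c 4) (.c 4)))) (.n (.n (.c 3) (.n (.c 5) .z)) (.n (.c 5) (.n (.c 4) (.c 4)))))) (.n (.n (.n (.n .z (.c 1)) (.n (.c 3) (.n (.c 1) .z))) (.n (.n .z (.n (.c 6) .z)) (.n (.c 5) (.n .z (.c 6))))) (.n (.n (.n (.c 2) (.n .z (.c 5))) (.n (.c 5) .z)) .z)))) (.leaf (.n (.n (.n (.n (.n (.c 6) (.c 1)) (.n .z (.n .z (.c 2)))) (.n (.n (.c 3) (.n (.c 1) (.c 4))) (.n (.c 3) (.n .z (.c 4))))) (.n (.n (.n (.c 1) (.c 4)) (.n (.c 6) (.n .z (.c 4)))) (.n (.n (.c 6) (.n (.c 1) (.c 5))) (.n .z (.n (.c 1) (.c 6)))))) (.n (.n (.n (.n (.c 1) (.c 3)) (.n (.c 1) .z)) (.n (.n .z (.n (.c 5) .z)) (.n (.c 2) (.n .z (.c 6))))) (.n (.n (.n (.c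 5) .z) (.n (.c 3) .z)) .z))))))))) (.node
 (.node
 (.node
 (.node
 (.leaf (.n (.n (.n (.n (.n (.c 6) (.c 1)) (.n (.c 6) (.n .z (.c 2)))) (.n (.n .z (.n (.c 2) (.c 3))) (.n (.c 5) (.n .z (.c 2))))) (.n (.n (.n (.c 2) (.c 1)) (.n .z (.n (.c 6) .z))) (.n (.n .z (.n .z (.c 6))) (.n (.c 5) (.n (.c 3) (.c 1)))))) (.n (.n (.n (.n (.c 5) (.c 2)) (.n (.c 6) (.n (.c 3) .z))) (.n (.n .z (.n (.c 4) .z)) (.n .z (.n .z (.c 5))))) (.n (.n (.n (.c 1) .z) (.n (.c 2) .z)) .z)))) (.leaf (.n (.n (.n (.n (.n (.c 6) (.c 1)) (.n (.c 6) (.n .z (.c 2)))) (.n (.n (.c 5) (.n (.c 2) (.c 1))) (.n (.c 4) (.n (.c 5) .z)))) (.n (.n (.n .z (.c 3)) (.n (.c 3) (.n (.c 3) (.c 5)))) (.n (.n .z (.n (.c 1) (.c 4))) (.n (.c 3) (.n (.c 1) .z))))) (.n (.n (.n (.n .z (.c 4)) (.n (.c 3) .z)) (.n .z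 (.n (.c 2) (.n .z (.c 3))))) (.n (.n (.n (.c 4) .z) (.n (.c 1) .z)) .z))))) (.node
 (.leaf (.n (.n (.n (.n (.n (.c 4) (.c 3)) (.n (.c 3) (.n .z (.c 6)))) (.n (.n (.c 1) (.n .z (.c 2))) (.n .z (.n .z (.c 1))))) (.n (.n (.n (.c 5) (.c 4)) (.n (.c 6) (.n (.c 4) (.c 4)))) (.n (.n (.c 3) (.n (.c 1) (.c 4))) (.n (.c 2) (.n (.c 3) (.c 5)))))) (.n (.n (.n (.n (.c 5) (.c 3)) (.n (.c 2) (.n (.c 1) .z))) (.n (.n .z (.n (.c 3) .z)) (.n (.c 2) (.n .z (.c 6))))) (.n (.n (.n (.c 1) (.n .z (.c 3))) (.n (.c 5) .z)) .z)))) (.node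
 (.leaf (.n (.n (.n (.n (.n (.c 2) (.c 5)) (.n (.c 2) (.n .z (.c 3)))) (.n (.n (.c 6) (.n (.c 5) (.c 6))) (.n (.c 3) (.n .z (.c 1))))) (.n (.n (.n .z (.c 1)) (.n .z (.n (.c 1) .z))) (.n (.n .z (.n (.c 6) (.c 5))) (.n (.c 6) (.n (.c 2) (.c 1)))))) (.n (.n (.n (.n (.c 5) (.c 4)) (.n (.c 6) (.n (.c 2) .z))) (.n (.n .z (.n (.c 6) .z)) .z)) (.n (.n (.n (.c 5) .z) (.n (.c 2) .z)) .z)))) (.leaf (.n (.n (.n (.n (.n (.c 2) .z) (.n (.c 5) (.n .z (.c 5)))) (.n (.n (.c 2) (.n .z (.c 5))) (.n (.c 2) .z))) (.n (.n (.n (.c 2) (.c 2)) .z) (.n (.n .z (.n (.c 2) .z)) (.n (.c 5) (.n (.c 1) (.c 2)))))) (.n (.n (.n (.n (.c 1) (.c 5)) (.n .z (.n (.c 6) .z))) (.n (.n .z (.n (.c 2) .z)) (.n .z (.n .z (.c 6))))) .z)))))) (.node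
 (.node
 (.leaf (.n (.n (.n (.n (.n (.c 1) (.c 4)) (.n (.c 1) (.n (.c 1) .z))) (.n (.n (.c 3) (.n (.c 2) (.c 5))) (.n (.c 6) (.n .z (.c 2))))) (.n (.n (.n (.c 5) (.c 3)) (.n .z (.n (.c 1) .z))) (.n (.n .z (.n (.c 4) .z)) (.n (.c 2) (.n (.c 2) (.c 3)))))) (.n (.n (.n (.n (.c 3) (.c 2)) (.n (.c 1) (.n (.c 3) .z))) (.n (.n .z (.n (.c 4) .z)) .z)) (.n (.n (.n (.c 1) .z) (.n (.c 3) .z)) .z)))) (.node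
 (.leaf (.n (.n (.n (.n (.n (.c 1) (.c 6)) (.n (.c 3) (.n .z (.c 5)))) (.n (.n (.c 5) (.n (.c 1) .z)) (.n (.c 2) (.n .z (.c 4))))) (.n (.n (.n .z (.c 1)) (.n .z (.n (.c 4) .z))) (.n (.n .z (.n (.c 4) .z)) (.n (.c 4) (.n (.c 1) .z))))) (.n (.n (.n (.n (.c 1) (.c 4)) (.n (.c 5) (.n (.c 3) .z))) (.n .z (.n .z (.n .z (.c 2))))) (.n (.n (.n (.c 6) .z) (.n (.c 1) .z)) .z)))) (.leaf (.n (.n (.n (.n (.n .z (.c 2)) (.n (.c 3) (.n .z (.c 6)))) (.n (.n (.c 6) (.n (.c 4) (.c 4))) (.n (.c 5) .z))) (.n (.n (.n (.c 1) (.c 2)) (.n (.c 1) (.n (.c 4) (.c 5)))) (.n (.n (.c 3) (.n (.c 5) (.c 4))) (.n (.c 6) (.n (.c 6) .z))))) (.n (.n (.n (.n (.c 1) (.c 2)) (.n .z (.n (.c 5) .z))) (.n (.n .z (.n (.c 2) .z)) (.n (.c 3) (.n .z (.c 6))))) (.n (.n (.n (.c 5) (.n .z (.c 4))) (.n (.c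 3) .z)) .z)))))) (.node
 (.leaf (.n (.n (.n (.n (.n (.c 6) (.c 1)) (.n (.c 1) (.n .z (.c 2)))) (.n (.n (.c 4) (.n (.c 3) .z)) (.n (.c 2) (.n .z (.c 5))))) (.n (.n (.n .z (.c 6)) (.n (.c 3) (.n (.c 4) (.c 6)))) (.n (.n (.c 6) (.n (.c 4) (.c 2))) (.n .z (.n .z (.c 4)))))) (.n (.n (.n (.n (.c 6) (.c 4)) (.n (.c 3) (.n (.c 4) .z))) (.n (.n .z (.n (.c 5) .z)) (.n (.c 2) (.n .z (.c 2))))) (.n (.n (.n (.c 3) .z) (.n (.c 5) .z)) .z)))) (.node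
 (.leaf (.n (.n (.n (.n (.n (.c 5) (.c 2)) (.n (.c 1) (.n .z (.c 4)))) (.n (.n (.c 6) (.n (.c 3) (.c 4))) (.n (.c 5) (.n .z (.c 5))))) (.n (.n (.n (.c 3) (.c 1)) (.n .z (.n (.c 4) .z))) (.n (.n .z (.n (.c 4) (.c 1))) (.n (.c 3) (.n (.c 5) .z))))) (.n (.n (.n (.n (.c 6) (.c 5)) (.n (.c 6) (.n (.c 1) .z))) (.n (.n .z (.n (.c 6) .z)) (.n .z (.n (.c 6) (.c 3))))) (.n (.n (.n (.c 4) .z) (.n (.c 1) .z)) .z)))) (.leaf (.n (.n (.n (.n (.n (.c 1) (.c 6)) (.n (.c 4) (.n .z (.c 5)))) (.n (.n (.c 2) (.n (.c 4) (.c 2))) (.n (.c 4) .z))) (.n (.n (.n (.c 4) (.c 1)) (.n (.c 6) (.n (.c 1) (.c 3)))) (.n (.n (.c 3) (.n (.c 1) (.c 1))) (.n (.c 2) (.n .z (.c 6)))))) (.n (.n (.n (.n (.c 6) (.c 5)) (.n (.c 1) (.n (.c 1) .z))) (.n (.n .z (.n (.c 5) .z)) (.n (.c 2) (.n .z (.c 4)))))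 (.n (.n (.n (.c 1) (.n .z (.c 5))) (.n (.c 1) .z)) .z)))))))) (.node
 (.node
 (.node
 (.leaf (.n (.n (.n (.n (.n (.c 5) (.c 2)) (.n (.c 5) (.n .z (.c 4)))) (.n (.n (.c 5) (.n (.c 5) (.c 3))) (.n (.c 5) (.n .z (.c 6))))) (.n (.n (.n (.c 4) (.c 5)) (.n (.c 4) (.n (.c 2) (.c 6)))) (.n (.n (.c 2) (.n (.c 4) (.c 1))) (.n (.c 1) (.n (.c 3) (.c 3)))))) (.n (.n (.n (.n (.c 1) .z) (.n (.c 3) (.n (.c 6) .z))) (.n (.n .z (.n (.c 1) .z)) (.n (.c 6) (.n .z (.c 6))))) (.n (.n (.n (.c 4) .z) (.n (.c 4) .z)) .z)))) (.node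
 (.leaf (.n (.n (.n (.n (.n (.c 4) (.c 3)) (.n .z (.n .z (.c 6)))) (.n (.n (.c 4) (.n (.c 6) (.c 1))) (.n (.c 4) (.n .z (.c 5))))) (.n (.n (.n (.c 5) (.c 3)) (.n (.c 4) (.n (.c 6) (.c 1)))) (.n (.n (.c 5) (.n (.c 2) (.c 5))) (.n (.c 3) (.n (.c 6) (.c 6)))))) (.n (.n (.n (.n (.c 1) (.c 2)) (.n (.c 4) (.n (.c 4) .z))) (.n (.n .z (.n (.c 3) .z)) (.n (.c 2) (.n .z (.c 1))))) (.n (.n (.n (.c 2) (.n .z (.c 5))) .z) .z)))) (.leaf (.n (.n (.n (.n (.n (.c 2) (.c 5)) (.n (.c 3) (.n .z (.c 3)))) (.n (.n (.c 1) (.n .z (.c 2))) (.n (.c 2) (.n .z (.c 3))))) (.n (.n (.n (.c 4) (.c 1)) (.n (.c 4) (.n (.c 1) (.c 4)))) (.n (.n (.c 2) (.n (.c 4) (.c 1))) (.n (.c 2) (.n .z (.c 3)))))) (.n (.n (.n (.n (.c 4) (.c 5)) (.n (.c 5) (.n (.c 5) .z))) (.n .z (.n (.c 3) (.n .z (.c 5)))))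 (.n (.n (.n (.c 5) (.n .z (.c 5))) (.n (.c 2) .z)) .z)))))) (.node
 (.leaf (.n (.n (.n (.n (.n (.c 1) (.c 6)) (.n .z (.n .z (.c 5)))) (.n (.n (.c 2) (.n (.c 1) (.c 1))) (.n (.c 3) (.n .z (.c 5))))) (.n (.n (.n (.c 6) (.c 3)) (.n (.c 3) (.n (.c 1) (.c 6)))) (.n (.n (.c 4) (.n (.c 4) .z)) (.n .z (.n (.c 2) (.c 5)))))) (.n (.n (.n (.n (.c 2) (.c 5)) (.n (.c 2) (.n (.c 5) .z))) (.n (.n .z (.n (.c 1) .z)) (.n (.c 3) (.n .z (.c 5))))) (.n (.n (.n (.c 1) (.n .z (.c 2))) .z) .z)))) (.node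
 (.leaf (.n .z (.n .z (.n (.n .z (.n .z (.n (.c 3) (.c 6)))) (.n (.n .z (.n .z (.c 1))) (.n (.c 4) (.n (.c 5) (.c 6)))))))) (.leaf (.n .z (.n .z (.n (.n .z (.n .z (.n (.c 6) (.c 5)))) (.n (.n (.c 1) (.n (.c 1) (.c 5))) (.n (.c 6) (.n .z (.c 6))))))))))) (.node
 (.node
 (.leaf (.n .z (.n .z (.n (.n .z (.n .z (.n .z (.c 1)))) (.n (.n (.c 3) (.n (.c 4) (.c 6))) (.n .z (.n (.c 5) (.c 6)))))))) (.node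
 (.leaf (.n .z (.n .z (.n (.n .z (.n .z (.n .z (.c 1)))) (.n (.n (.c 4) (.n (.c 3) (.c 6))) (.n .z (.n (.c 5) (.c 6)))))))) (.leaf (.n .z (.n .z (.n (.n .z (.n .z (.n (.c 1) (.c 5)))) (.n (.n (.c 6) (.n (.c 6) (.c 5))) (.n (.c 1) (.n .z (.c 6)))))))))) (.node
 (.leaf (.n .z (.n .z (.n (.n .z (.n .z (.n (.c 4) (.c 6)))) (.n (.n .z (.n .z (.c 1))) (.n (.c 3) (.n (.c 5) (.c 6)))))))) (.node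
 (.leaf (.n .z (.n .z (.n (.n .z (.n .z (.n (.c 6) (.c 5)))) (.n (.n (.c 6) (.n (.c 6) (.c 5))) (.n (.c 6) (.n .z (.c 5)))))))) (.leaf (.n .z (.n .z (.n (.n .z (.n .z (.n .z (.c 4)))) (.n (.n .z (.n .z (.c 4))) (.n .z (.n .z (.c 4))))))))))))))

/-- the rows of letter 6 -/
def rows6 : RT CT := (.node
 (.node
 (.node
 (.node
 (.node
 (.leaf (.n (.n (.n (.n (.n (.c 4) (.c 3)) (.n .z (.n (.c 1) (.c 1)))) (.n (.n .z (.n (.c 2) (.c 2))) (.n (.c 3) (.n (.c 1) (.c 2))))) (.n (.n (.n (.c 3) (.c 2)) (.n (.c 5) (.n (.c 5) (.c 5)))) (.n (.n (.c 2) (.n (.c 4) (.c 4))) (.n (.c 6) (.n (.c 5) .z))))) (.n (.n (.n (.n (.c 3) (.c 2)) (.n (.c 4) (.n (.c 6) (.c 5)))) (.n (.n (.c 6) (.n (.c 1) (.c 4))) (.n (.c 6) (.n (.c 1) .z)))) (.n (.n (.n (.c 2) (.n .z (.c 1))) (.n (.c 6)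 (.n (.c 5) (.c 6)))) (.n (.n (.c 5) (.n (.c 1) .z)) (.n (.c 6) .z)))))) (.leaf (.n (.n (.n (.n (.n .z (.c 4)) (.n .z (.n .z (.c 4)))) (.n (.n (.c 2) (.n .z (.c 3))) (.n (.c 4) (.n (.c 5) (.c 2))))) (.n (.n (.n .z (.c 3)) (.n .z (.n (.c 1) (.c 6)))) (.n (.n (.c 3) (.n (.c 2) (.c 6))) (.n (.c 3) (.n (.c 1) (.c 3)))))) (.n (.n (.n (.n .z (.c 2)) (.n (.c 6) (.n (.c 4) (.c 5)))) (.n (.n (.c 5) (.n .z (.c 3))) (.n (.c 4) (.n (.c 2) (.c 6))))) (.n (.n (.n (.c 2) (.n (.c 5) (.c 5))) (.n (.c 3) (.n (.c 1) .z))) (.n (.n (.c 3) (.n (.c 3) (.c 3))) (.n (.c 5) (.n (.c 1) (.c 6))))))))) (.node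
 (.leaf (.n (.n (.n (.n (.n (.c 5) (.c 4)) (.n (.c 1) (.n (.c 1) (.c 4)))) (.n (.n (.c 4) (.n (.c 6) (.c 4))) (.n (.c 3) (.n (.c 1) (.c 2))))) (.n (.n (.n (.c 5) (.c 3)) (.n (.c 4) (.n (.c 2) (.c 5)))) (.n (.n (.c 1) (.n (.c 6) (.c 1))) (.n (.c 1) (.n (.c 1) (.c 2)))))) (.n (.n (.n (.n (.c 1) (.c 4)) (.n (.c 4) (.n (.c 3) (.c 4)))) (.n (.n (.c 1) (.n (.c 6) (.c 3))) (.n (.c 2) (.n (.c 3) (.c 2))))) (.n (.n .z (.n (.c 2) (.n (.c 2) (.c 2)))) (.n (.n (.c 5) (.n (.c 5) (.c 1))) (.n (.c 1) (.n (.c 6) (.c 6)))))))) (.node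
 (.leaf (.n (.n (.n (.n (.n (.c 6) (.c 2)) (.n (.c 6) (.n (.c 2) (.c 1)))) (.n (.n (.c 1) (.n (.c 3) (.c 1))) (.n .z (.n (.c 6) (.c 6))))) (.n (.n (.n (.c 1) (.c 5)) (.n .z (.n (.c 2) .z))) (.n (.n .z (.n (.c 6) (.c 5))) (.n (.c 2) (.n (.c 5) (.c 3)))))) (.n (.n (.n (.n (.c 4) (.c 2)) (.n (.c 5) (.n (.c 4) (.c 3)))) (.n (.n (.c 3) (.n (.c 3) .z)) (.n (.c 6) (.n (.c 3) (.c 6))))) (.n (.n (.n .z (.n (.c 6) (.c 6))) (.n (.c 4) (.n (.c 2) (.c 6)))) (.n (.n (.c 3) (.n (.c 3) (.c 2))) (.n .z (.n (.c 6) (.c 6)))))))) (.leaf (.n (.n (.n (.n (.n (.c 4) (.c 2)) (.n (.c 6) (.n (.c 5) (.c 6)))) (.n (.n (.c 6) (.n .z (.c 1))) (.n (.c 1) (.n (.c 4) (.c 2))))) (.n (.n (.n (.c 3) (.c 4)) (.n (.c 6) (.n (.c 3) (.c 2)))) (.n (.n (.c 5) (.n (.c 5) .z)) (.n (.c 1) (.n (.c 5)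 (.c 2)))))) (.n (.n (.n (.n (.c 3) (.c 3)) (.n (.c 6) (.n (.c 2) (.c 5)))) (.n (.n (.c 1) (.n (.c 3) (.c 5))) (.n (.c 3) (.n .z (.c 2))))) (.n (.n (.n (.c 5) (.n (.c 3) (.c 3))) (.n (.c 6) (.n (.c 6) (.c 5)))) (.n (.n (.c 2) (.n (.c 4) (.c 3))) (.n (.c 5) (.n .z (.c 2))))))))))) (.node
 (.node
 (.leaf (.n (.n (.n (.n (.n (.c 1) (.c 6)) (.n (.c 5) (.n .z (.c 1)))) (.n (.n (.c 3) (.n .z (.c 3))) (.n .z (.n (.c 4) (.c 2))))) (.n (.n (.n (.c 2) (.c 1)) (.n (.c 1) (.n (.c 4) (.c 4)))) (.n (.n .z (.n (.c 3) (.c 3))) (.n (.c 1) (.n .z (.c 2)))))) (.n (.n (.n (.n (.c 6) (.c 5)) (.n (.c 5) (.n (.c 6) (.c 1)))) (.n (.n (.c 2) (.n (.c 5) (.c 6))) (.n .z (.n (.c 1) (.c 4))))) (.n (.n (.n (.c 5) (.n (.c 5) (.c 4))) (.n (.c 1) (.n (.c 4) (.c 1)))) (.n (.n (.c 4) (.n (.c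 1) (.c 1))) (.n (.c 5) (.n (.c 1) (.c 1)))))))) (.node
 (.leaf (.n (.n (.n (.n (.n (.c 4) (.c 2)) (.n (.c 1) (.n (.c 5) (.c 2)))) (.n (.n (.c 3) (.n (.c 1) (.c 1))) (.n (.c 5) (.n (.c 6) (.c 2))))) (.n (.n (.n (.c 1) (.c 2)) (.n (.c 2) (.n .z (.c 6)))) (.n (.n (.c 4) (.n (.c 5) (.c 2))) (.n (.c 2) (.n (.c 2) (.c 2)))))) (.n (.n (.n (.n (.c 2) (.c 3)) (.n (.c 4) (.n (.c 1) (.c 4)))) (.n (.n (.c 4) (.n (.c 5) (.c 5))) (.n (.c 2) (.n (.c 2) (.c 4))))) (.n (.n (.n (.c 6) (.n .z (.c 6))) (.n (.c 4) (.n (.c 4) (.c 6)))) (.n (.n (.c 3) (.n (.c 1) (.c 3))) (.n (.c 5) (.n (.c 6) (.c 4)))))))) (.leaf (.n (.n (.n (.n (.n (.c 4) (.c 1)) (.n (.c 3) (.n (.c 2) (.c 5)))) (.n (.n .z (.n .z (.c 4))) (.n (.c 5) (.n (.c 5) (.c 4))))) (.n (.n (.n (.c 6) (.c 1)) (.n (.c 3) (.n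 (.c 3) (.c 6)))) (.n (.n (.c 2) (.n (.c 3) (.c 3))) (.n (.c 3) (.n (.c 2) (.c 2)))))) (.n (.n (.n (.n (.c 2) (.c 2)) (.n (.c 3) (.n (.c 5) (.c 2)))) (.n (.n (.c 1) (.n (.c 3) .z)) (.n (.c 1) (.n (.c 4) (.c 4))))) (.n (.n (.n (.c 3) (.n (.c 5) (.c 2))) (.n (.c 5) (.n (.c 2) (.c 3)))) (.n (.n (.c 5) (.n (.c 1) (.c 3))) (.n (.c 2) (.n (.c 3) (.c 5)))))))))) (.node
 (.leaf (.n (.n (.n (.n (.n .z (.c 4)) (.n (.c 1) (.n (.c 4) (.c 3)))) (.n (.n (.c 3) (.n (.c 1) .z)) (.n (.c 5) (.n (.c 3) (.c 5))))) (.n (.n (.n (.c 4) (.c 3)) (.n .z (.n (.c 5) (.c 1)))) (.n (.n (.c 4) (.n (.c 4) (.c 2))) (.n (.c 3) (.n (.c 5) (.c 6)))))) (.n (.n (.n (.n (.c 6) .z) (.n (.c 5) (.n (.c 1) (.c 4)))) (.n (.n (.c 6) (.n (.c 5) (.c 6))) (.n (.c 6) (.n (.c 3) (.c 1))))) (.n (.n (.n (.c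 2) (.n (.c 3) (.c 4))) (.n (.c 2) (.n (.c 5) (.c 2)))) (.n (.n (.c 4) (.n (.c 2) (.c 1))) (.n (.c 2) .z)))))) (.node
 (.leaf (.n (.n (.n (.n (.n (.c 1) (.c 5)) (.n .z (.n (.c 5) (.c 3)))) (.n (.n (.c 6) (.n (.c 3) (.c 3))) (.n .z (.n (.c 2) (.c 6))))) (.n (.n (.n .z (.c 6)) (.n (.c 3) (.n (.c 5) .z))) (.n (.n (.c 2) (.n (.c 2) .z)) (.n .z (.n (.c 6) (.c 1)))))) (.n (.n (.n (.n (.c 1) (.c 6)) (.n (.c 6) (.n (.c 1) (.c 2)))) (.n (.n (.c 4) (.n (.c 2) (.c 2))) (.n .z (.n (.c 2) (.c 6))))) (.n (.n (.n (.c 1) (.n (.c 2) (.c 6))) (.n (.c 2) (.n (.c 4) .z))) (.n (.n (.c 5) (.n (.c 1) .z)) (.n .z (.n (.c 3) (.c 5)))))))) (.leaf (.n (.n (.n (.n (.n (.c 1) (.c 3)) (.n (.c 2) (.n (.c 2) (.c 5)))) (.n (.n (.c 6) (.n (.c 5) (.c 6))) (.n .z (.n (.c 1) (.c 5))))) (.n (.n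 (.n (.c 3) .z) (.n (.c 1) (.n (.c 5) (.c 3)))) (.n (.n (.c 3) (.n (.c 1) (.c 3))) (.n (.c 5) (.n (.c 4) (.c 1)))))) (.n (.n (.n (.n (.c 6) (.c 6)) (.n (.c 5) (.n (.c 6) (.c 5)))) (.n (.n .z (.n (.c 5) (.c 5))) (.n (.c 1) (.n (.c 5) .z)))) (.n (.n (.n (.c 2) (.n (.c 6) (.c 3))) (.n (.c 6) (.n (.c 2) (.c 6)))) (.n (.n (.c 3) (.n (.c 6) (.c 4))) (.n (.c 3) (.n (.c 6) (.c 1)))))))))))) (.node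
 (.node
 (.node
 (.leaf (.n (.n (.n (.n (.n (.c 2) .z) (.n (.c 5) (.n (.c 3) .z))) (.n (.n .z (.n (.c 4) (.c 1))) (.n (.c 2) (.n .z (.c 3))))) (.n (.n (.n (.c 3) (.c 4)) (.n (.c 1) (.n (.c 6) (.c 6)))) (.n (.n (.c 5) (.n (.c 3) (.c 5))) (.n (.c 6) (.n (.c 4) (.c 6)))))) (.n (.n (.n (.n (.c 1) .z) (.n .z (.n (.c 6) (.c 4)))) (.n (.n (.c 3) (.n (.c 3) (.c 6))) (.n (.c 4) (.n (.c 1) .z)))) (.n (.n (.n (.c 2) (.n (.c 2) (.c 5))) (.n (.c 3) (.n (.c 1) (.c 3)))) (.n (.n (.c 6) (.n (.c 4) .z)) (.n (.c 4) (.n (.c 6) (.c 4)))))))) (.leaf (.n (.n (.n (.n (.n (.c 6) (.c 2)) (.n (.c 4) (.n (.c 1) (.c 1)))) (.n (.n (.c 4) (.n .z (.c 2))) (.n (.c 1) (.n (.c 1) (.c 4))))) (.n (.n (.n .z (.c 6)) (.n (.c 3) (.n (.c 3) (.c 5)))) (.n .z (.n (.c 5) (.n (.c 1) (.c 2)))))) (.n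 (.n (.n (.n (.c 3) (.c 6)) (.n (.c 4) (.n (.c 6) (.c 4)))) (.n (.n (.c 6) (.n (.c 2) (.c 5))) (.n (.c 6) (.n (.c 3) .z)))) (.n (.n (.n (.c 5) (.n (.c 2) (.c 6))) (.n (.c 2) (.n (.c 1) (.c 3)))) (.n (.n (.c 6) (.n (.c 4) (.c 4))) (.n (.c 2) (.n (.c 1) (.c 5))))))))) (.node
 (.leaf (.n (.n (.n (.n (.n (.c 4) (.c 3)) (.n (.c 3) (.n (.c 2) (.c 1)))) (.n (.n (.c 3) (.n (.c 6) (.c 6))) (.n (.c 4) (.n .z (.c 1))))) (.n (.n (.n (.c 4) (.c 6)) (.n (.c 5) (.n (.c 2) (.c 4)))) (.n (.n (.c 3) (.n .z (.c 1))) (.n (.c 1) (.n (.c 3) (.c 5)))))) (.n (.n (.n (.n (.c 6) (.c 3)) (.n (.c 6) (.n (.c 3) (.c 2)))) (.n (.n (.c 6) (.n .z (.c 2))) (.n (.c 1) (.n (.c 6) (.c 6))))) (.n (.n (.n (.c 3) (.n (.c 2) (.c 2))) (.n (.c 5) (.n (.c 2) (.c 3)))) (.n (.n .z (.n (.c 5) (.c 5))) (.n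 (.c 5) (.n (.c 6) (.c 6)))))))) (.node
 (.leaf (.n (.n (.n (.n (.n (.c 1) (.c 1)) (.n (.c 6) (.n (.c 5) (.c 5)))) (.n (.n (.c 5) (.n (.c 6) (.c 2))) (.n (.c 3) (.n .z (.c 1))))) (.n (.n (.n (.c 2) (.c 2)) (.n (.c 1) (.n (.c 6) .z))) (.n (.n (.c 4) (.n (.c 1) (.c 1))) (.n (.c 5) (.n .z (.c 1)))))) (.n (.n (.n (.n (.c 4) .z) (.n (.c 4) (.n (.c 4) .z))) (.n (.n (.c 3) (.n (.c 1) .z)) (.n (.c 6) (.n (.c 5) (.c 5))))) (.n (.n (.n (.c 5) (.n (.c 1) (.c 4))) (.n (.c 1) (.n .z (.c 2)))) (.n (.n (.c 3) (.n (.c 4) (.c 3))) (.n (.c 5) (.n (.c 4) (.c 5)))))))) (.leaf (.n (.n (.n (.n (.n (.c 1) (.c 6)) (.n (.c 4) (.n (.c 1) (.c 4)))) (.n (.n (.c 6) (.n (.c 3) (.c 1))) (.n (.c 5) (.n .z (.c 3))))) (.n (.n (.n (.c 2) (.c 3)) (.n (.c 4) (.n (.c 5) (.c 5)))) (.n (.n (.c 2)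 (.n (.c 5) .z)) (.n (.c 6) (.n (.c 4) .z))))) (.n (.n (.n (.n (.c 1) (.c 1)) (.n (.c 1) (.n (.c 4) (.c 4)))) (.n (.n (.c 4) (.n (.c 2) (.c 5))) (.n (.c 6) (.n (.c 5) (.c 4))))) (.n (.n (.n (.c 6) (.n (.c 3) (.c 1))) (.n (.c 2) (.n (.c 6) (.c 4)))) (.n (.n (.c 4) (.n (.c 2) (.c 3))) (.n (.c 3) (.n (.c 1) (.c 6))))))))))) (.node
 (.node
 (.leaf (.n (.n (.n (.n .z (.n (.c 5) (.n (.c 5) (.c 3)))) (.n (.n (.c 2) (.n (.c 4) (.c 1))) (.n (.c 3) (.n (.c 6) (.c 4))))) (.n (.n (.n (.c 6) (.c 3)) (.n (.c 6) (.n (.c 1) (.c 5)))) (.n (.n (.c 1) (.n (.c 5) (.c 6))) (.n .z (.n .z (.c 1)))))) (.n (.n (.n (.n (.c 4) (.c 6)) (.n (.c 1) (.n (.c 5) (.c 6)))) (.n (.n (.c 6) (.n (.c 6) (.c 5))) (.n (.c 4) (.n (.c 5) .z)))) (.n (.n (.n (.c 3) (.n (.c 3) (.c 5))) (.n (.c 3) (.n (.c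 5) (.c 3)))) (.n (.n (.c 2) (.n (.c 6) (.c 4))) (.n (.c 4) (.n (.c 4) (.c 5)))))))) (.node
 (.leaf (.n (.n (.n (.n (.n (.c 5) (.c 2)) (.n .z (.n (.c 1) .z))) (.n (.n (.c 2) (.n (.c 5) (.c 6))) (.n (.c 6) (.n (.c 6) (.c 5))))) (.n (.n (.n (.c 5) (.c 2)) (.n (.c 2) (.n .z (.c 2)))) (.n (.n (.c 5) (.n (.c 6) (.c 3))) (.n .z (.n (.c 3) (.c 1)))))) (.n (.n (.n (.n (.c 4) (.c 4)) (.n (.c 5) (.n (.c 4) (.c 5)))) (.n (.n .z (.n .z (.c 3))) (.n (.c 3) .z))) (.n (.n (.n (.c 4) (.n (.c 1) (.c 5))) (.n (.c 1) (.n .z (.c 1)))) (.n (.n (.c 3) (.n (.c 5) (.c 3))) (.n (.c 5) (.n (.c 1) (.c 5)))))))) (.leaf (.n (.n (.n (.n (.n (.c 3) (.c 2)) (.n (.c 4) (.n (.c 3) .z))) (.n (.n (.c 5) (.n (.c 4) (.c 2))) (.n (.c 5) (.n (.c 5) (.c 4))))) (.n (.n (.n (.c 1) (.c 5)) (.n (.c 3)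 (.n (.c 4) (.c 2)))) (.n (.n .z (.n (.c 1) (.c 4))) (.n .z (.n .z (.c 2)))))) (.n (.n (.n (.n (.c 3) (.c 2)) (.n (.c 5) (.n (.c 6) (.c 6)))) (.n (.n (.c 6) (.n .z (.c 5))) (.n (.c 2) (.n (.c 1) (.c 5))))) (.n (.n (.n .z (.n (.c 4) (.c 2))) (.n (.c 1) (.n (.c 1) .z))) (.n (.n (.c 5) (.n (.c 1) .z)) (.n (.c 1) (.n (.c 3) (.c 1)))))))))) (.node
 (.leaf (.n (.n (.n (.n (.n .z (.c 2)) (.n (.c 1) (.n (.c 6) (.c 1)))) (.n (.n .z (.n (.c 2) (.c 2))) (.n .z (.n (.c 3) (.c 5))))) (.n (.n (.n (.c 3) .z) (.n (.c 1) (.n (.c 6) .z))) (.n (.n .z (.n (.c 1) (.c 5))) (.n (.c 4) (.n (.c 2) (.c 4)))))) (.n (.n (.n (.n (.c 1) (.c 4)) (.n (.c 4) (.n (.c 2) (.c 5)))) (.n (.n (.c 2) (.n (.c 2) (.c 6))) (.n (.c 3) (.n (.c 3) .z)))) (.n (.n (.n (.c 5) (.n (.c 4) (.c 3))) (.n (.c 2)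 (.n .z (.c 2)))) (.n (.n (.c 6) (.n (.c 5) (.c 3))) (.n (.c 2) (.n (.c 6) (.c 4)))))))) (.node
 (.leaf (.n (.n (.n (.n (.n (.c 4) (.c 3)) (.n .z (.n (.c 6) (.c 1)))) (.n (.n (.c 2) (.n (.c 1) (.c 6))) (.n (.c 1) (.n (.c 2) (.c 4))))) (.n (.n (.n .z (.c 1)) (.n (.c 1) (.n (.c 4) (.c 3)))) (.n (.n (.c 4) (.n (.c 2) (.c 3))) (.n (.c 4) (.n (.c 6) (.c 6)))))) (.n (.n (.n (.n (.c 6) (.c 3)) (.n (.c 4) (.n (.c 6) (.c 5)))) (.n (.n (.c 1) (.n (.c 3) (.c 5))) (.n (.c 3) (.n (.c 2) (.c 2))))) (.n (.n (.n (.c 3) (.n (.c 3) (.c 2))) (.n (.c 2) (.n .z (.c 5)))) (.n (.n (.c 2) (.n (.c 3) .z)) (.n (.c 1) (.n (.c 5) (.c 3)))))))) (.leaf (.n (.n (.n (.n (.n (.c 5) (.c 1)) (.n (.c 5) (.n (.c 5) .z))) (.n (.n (.c 2) (.n (.c 4) (.c 3))) (.n (.c 3) .z))) (.n (.n (.n .z (.c 5))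 (.n (.c 5) (.n .z (.c 6)))) (.n (.n (.c 3) (.n (.c 3) (.c 1))) (.n (.c 1) (.n (.c 5) (.c 5)))))) (.n (.n (.n (.n (.c 6) (.c 6)) (.n (.c 5) (.n (.c 2) (.c 5)))) (.n (.n (.c 2) (.n (.c 4) (.c 6))) (.n (.c 2) (.n (.c 4) (.c 5))))) (.n (.n (.n .z (.n (.c 4) (.c 6))) (.n (.c 2) (.n (.c 6) (.c 4)))) (.n (.n (.c 1) (.n (.c 1) (.c 2))) (.n (.c 6) (.n .z (.c 5))))))))))))) (.node
 (.node
 (.node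
 (.node
 (.leaf (.n (.n (.n (.n (.n (.c 6) (.c 2)) (.n (.c 5) (.n (.c 6) (.c 6)))) (.n (.n (.c 5) (.n (.c 6) .z)) (.n (.c 1) (.n (.c 6) (.c 1))))) (.n (.n (.n (.c 3) (.c 4)) (.n (.c 2) .z)) (.n (.n (.c 2) (.n (.c 4) (.c 3))) (.n .z (.n (.c 4) (.c 4)))))) (.n (.n (.n (.n (.c 4) (.c 5)) (.n (.c 1) .z)) (.n (.n (.c 4) (.n (.c 5) .z)) (.n (.c 1) (.n (.c 4) .z)))) (.n (.n (.n (.c 6) (.n (.c 2) (.c 1))) (.n .z (.n (.c 6) (.c 5)))) (.n (.n (.c 2) (.n (.c 3) (.c 3))) (.n (.c 1) (.n .z (.c 5)))))))) (.leaf (.n (.n (.n (.n (.n (.c 4) (.c 2)) (.n (.c 2) (.n (.c 6) (.c 2)))) (.n (.n (.c 4) (.n (.c 4) (.c 5))) (.n .z (.n .z (.c 2))))) (.n (.n (.n (.c 1) (.c 1)) (.n (.c 2) (.n .z (.c 6)))) (.n (.n (.c 2) (.n (.c 2) (.c 5))) (.n (.c 5) (.n .z (.c 2)))))) (.n (.n (.n (.n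 .z (.c 3)) (.n (.c 3) (.n (.c 1) (.c 5)))) (.n (.n (.c 2) (.n (.c 1) (.c 3))) (.n .z (.n (.c 3) (.c 1))))) (.n (.n (.n (.c 2) (.n (.c 3) (.c 1))) (.n (.c 6) (.n (.c 4) .z))) (.n (.n (.c 5) (.n .z (.c 6))) (.n .z (.n (.c 2) (.c 5))))))))) (.node
 (.leaf (.n (.n (.n (.n (.n (.c 6) (.c 5)) (.n (.c 4) (.n .z (.c 5)))) (.n (.n (.c 6) (.n (.c 2) (.c 6))) (.n (.c 5) (.n (.c 1) .z)))) (.n (.n (.n (.c 6) (.c 2)) (.n .z (.n (.c 1) .z))) (.n (.n (.c 2) (.n (.c 3) .z)) (.n (.c 3) (.n (.c 2) .z))))) (.n (.n (.n (.n .z (.c 2)) (.n (.c 6) (.n (.c 3) (.c 4)))) (.n (.n (.c 3) (.n (.c 5) (.c 3))) (.n (.c 4) (.n (.c 3) (.c 6))))) (.n (.n (.n (.c 6) (.n (.c 1) (.c 2))) (.n (.c 6) (.n (.c 2) (.c 2)))) (.n (.n (.c 3) (.n (.c 4) (.c 2))) (.n .z (.n (.c 4) (.c 4)))))))) (.node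
 (.leaf (.n (.n (.n (.n (.n .z (.c 1)) (.n (.c 3) (.n (.c 4) (.c 2)))) (.n (.n (.c 5) (.n (.c 5) (.c 1))) (.n .z (.n (.c 6) (.c 5))))) (.n (.n (.n .z (.c 2)) (.n (.c 6) (.n (.c 3) (.c 1)))) (.n (.n (.c 4) (.n (.c 4) (.c 3))) (.n (.c 2) (.n (.c 3) (.c 1)))))) (.n (.n (.n (.n (.c 4) (.c 5)) (.n (.c 1) (.n (.c 6) (.c 1)))) (.n (.n (.c 3) (.n (.c 5) (.c 5))) (.n (.c 4) (.n (.c 3) (.c 5))))) (.n (.n (.n (.c 5) (.n (.c 5) (.c 4))) (.n (.c 4) (.n (.c 4) .z))) (.n (.n (.c 6) (.n (.c 6) (.c 2))) (.n (.c 4) (.n (.c 2) (.c 6)))))))) (.leaf (.n (.n (.n (.n (.n (.c 6) .z) (.n (.c 1) (.n (.c 5) (.c 2)))) (.n (.n (.c 6) (.n (.c 5) (.c 1))) (.n (.c 6) (.n (.c 6) (.c 6))))) (.n (.n (.n (.c 6) (.c 5)) (.n (.c 5) (.n .z (.c 3)))) (.n (.n (.c 4) (.n (.c 2) (.c 2))) (.n (.c 2)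 (.n (.c 5) (.c 1)))))) (.n (.n (.n (.n (.c 4) (.c 5)) (.n (.c 5) (.n (.c 6) (.c 3)))) (.n (.n (.c 2) (.n (.c 2) (.c 5))) (.n (.c 2) (.n (.c 2) (.c 4))))) (.n (.n (.n (.c 2) (.n (.c 3) (.c 2))) (.n (.c 2) (.n (.c 3) (.c 4)))) (.n (.n (.c 1) (.n (.c 5) (.c 2))) (.n (.c 4) (.n (.c 1) (.c 2))))))))))) (.node
 (.node
 (.leaf (.n (.n (.n (.n (.n (.c 1) (.c 2)) (.n (.c 1) (.n .z (.c 5)))) (.n (.n .z (.n (.c 4) (.c 2))) (.n (.c 4) (.n (.c 6) (.c 2))))) (.n (.n (.n (.c 2) (.c 6)) (.n (.c 1) (.n (.c 4) (.c 2)))) (.n (.n (.c 4) (.n (.c 6) .z)) (.n (.c 3) (.n (.c 4) (.c 2)))))) (.n (.n (.n (.n (.c 4) .z) (.n (.c 1) (.n (.c 1) (.c 2)))) (.n (.n (.c 6) (.n .z (.c 5))) (.n (.c 1) (.n (.c 4) (.c 6))))) (.n (.n (.n (.c 5) (.n (.c 1) (.c 2))) (.n (.c 1) (.n (.c 2) (.c 3))))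 (.n (.n (.c 1) (.n (.c 1) (.c 5))) (.n (.c 2) (.n (.c 4) (.c 2)))))))) (.node
 (.leaf (.n (.n (.n (.n (.n .z (.c 6)) (.n .z (.n (.c 6) (.c 3)))) (.n (.n (.c 1) (.n (.c 4) (.c 5))) (.n (.c 1) (.n (.c 1) (.c 4))))) (.n (.n (.n (.c 2) (.c 2)) (.n .z (.n (.c 6) .z))) (.n (.n (.c 1) (.n .z (.c 2))) (.n (.c 3) (.n (.c 3) (.c 4)))))) (.n (.n (.n (.n .z (.c 2)) (.n .z (.n .z (.c 5)))) (.n (.n (.c 2) (.n .z (.c 5))) (.n (.c 3) (.n (.c 3) (.c 1))))) (.n (.n (.n .z (.n (.c 1) .z)) (.n (.c 5) (.n (.c 5) (.c 6)))) (.n (.n (.c 4) (.n (.c 5) (.c 1))) (.n (.c 5) (.n .z (.c 2)))))))) (.leaf (.n (.n (.n (.n (.n (.c 5) (.c 4)) (.n (.c 3) (.n (.c 1) (.c 4)))) (.n (.n (.c 4) (.n (.c 3) (.c 6))) (.n (.c 2) (.n (.c 5) (.c 2))))) (.n (.n (.n (.c 5) (.c 2)) (.n (.c 5) (.n .z (.c 3))))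 (.n (.n (.c 5) (.n (.c 6) .z)) (.n .z (.n (.c 1) .z))))) (.n (.n (.n (.n (.c 3) (.c 1)) (.n (.c 6) (.n (.c 1) (.c 1)))) (.n (.n (.c 5) (.n .z (.c 1))) (.n .z (.n (.c 3) .z)))) (.n (.n (.n (.c 4) (.n (.c 1) (.c 2))) (.n (.c 4) (.n (.c 6) (.c 5)))) (.n (.n (.c 6) (.n (.c 5) (.c 1))) (.n (.c 2) (.n (.c 2) (.c 4)))))))))) (.node
 (.leaf (.n (.n (.n (.n (.n (.c 3) (.c 6)) (.n .z (.n (.c 2) (.c 4)))) (.n (.n (.c 4) (.n (.c 5) .z)) (.n (.c 2) (.n (.c 6) (.c 6))))) (.n (.n (.n (.c 1) (.c 3)) (.n (.c 2) (.n .z (.c 6)))) (.n (.n (.c 3) (.n (.c 4) (.c 1))) (.n (.c 6) (.n (.c 3) (.c 4)))))) (.n (.n (.n (.n (.c 3) (.c 6)) (.n (.c 5) (.n (.c 6) (.c 4)))) (.n (.n (.c 2) (.n (.c 4) (.c 1))) (.n .z (.n (.c 1) (.c 4))))) (.n (.n (.n (.c 5) (.n (.c 1) (.c 4))) (.n (.c 5) (.n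 (.c 6) (.c 3)))) (.n (.n (.c 1) (.n (.c 4) .z)) (.n (.c 4) (.n (.c 2) (.c 1)))))))) (.node
 (.leaf (.n (.n (.n (.n (.n (.c 1) (.c 6)) (.n (.c 3) (.n (.c 2) (.c 3)))) (.n (.n (.c 4) (.n (.c 1) (.c 5))) (.n .z (.n (.c 3) (.c 2))))) (.n (.n (.n (.c 2) .z) (.n (.c 4) .z)) (.n (.n (.c 6) (.n (.c 1) (.c 2))) (.n (.c 3) (.n (.c 2) (.c 2)))))) (.n (.n (.n (.n .z (.c 3)) (.n .z (.n .z (.c 5)))) (.n (.n (.c 3) (.n (.c 2) .z)) (.n (.c 3) (.n .z (.c 3))))) (.n (.n (.n (.c 3) (.n (.c 4) (.c 4))) (.n .z (.n (.c 1) (.c 4)))) (.n (.n (.c 5) (.n (.c 2) (.c 1))) (.n (.c 6) (.n .z (.c 5)))))))) (.leaf (.n (.n (.n (.n (.n (.c 3) (.c 2)) (.n (.c 3) (.n (.c 1) (.c 6)))) (.n (.n .z (.n (.c 4) (.c 2))) (.n (.c 2) (.n (.c 4) (.c 5))))) (.n (.n (.n .z (.c 3)) (.n (.c 4) (.n .z (.c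 6)))) (.n (.n (.c 5) (.n (.c 6) (.c 4))) (.n (.c 4) (.n (.c 5) (.c 5)))))) (.n (.n (.n (.n (.c 6) (.c 5)) (.n (.c 1) (.n (.c 4) (.c 3)))) (.n (.n (.c 2) (.n (.c 1) (.c 2))) (.n .z (.n (.c 4) (.c 5))))) (.n (.n (.n (.c 5) (.n (.c 6) (.c 4))) (.n (.c 6) (.n (.c 6) (.c 3)))) (.n (.n (.c 1) (.n (.c 3) (.c 5))) (.n (.c 6) (.n (.c 6) (.c 1)))))))))))) (.node
 (.node
 (.node
 (.leaf (.n (.n (.n (.n (.n (.c 2) (.c 1)) (.n (.c 2) (.n (.c 1) .z))) (.n (.n (.c 3) (.n (.c 6) (.c 1))) (.n (.c 4) (.n (.c 3) (.c 2))))) (.n (.n (.n (.c 2) (.c 2)) (.n (.c 1) (.n (.c 2) (.c 4)))) (.n (.n (.c 3) (.n .z (.c 4))) (.n (.c 2) (.n (.c 5) (.c 2)))))) (.n (.n (.n (.n (.c 5) (.c 6)) (.n (.c 4) (.n .z (.c 2)))) (.n (.n .z (.n (.c 1) .z)) (.n (.c 1) (.n (.c 5) (.c 4))))) (.n (.n (.n (.c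 3) (.n (.c 2) (.c 2))) (.n (.c 4) (.n (.c 2) (.c 6)))) (.n (.n (.c 6) (.n (.c 3) (.c 3))) (.n (.c 6) (.n (.c 3) (.c 5)))))))) (.node
 (.leaf (.n (.n (.n (.n (.n (.c 3) (.c 2)) (.n (.c 4) (.n (.c 4) (.c 6)))) (.n (.n (.c 4) (.n (.c 1) (.c 1))) (.n .z (.n (.c 6) (.c 5))))) (.n (.n (.n (.c 6) (.c 1)) (.n (.c 5) (.n (.c 3) (.c 2)))) (.n (.n .z (.n .z (.c 2))) (.n .z (.n (.c 6) .z))))) (.n (.n (.n (.n (.c 2) (.c 6)) (.n .z (.n (.c 2) (.c 1)))) (.n (.n (.c 6) (.n .z (.c 2))) (.n (.c 4) (.n .z (.c 6))))) (.n (.n (.n (.c 1) (.n (.c 3) (.c 4))) (.n .z (.n (.c 6) (.c 3)))) (.n (.n .z (.n (.c 4) (.c 4))) (.n (.c 3) (.n (.c 6) (.c 4)))))))) (.leaf (.n (.n (.n (.n (.n (.c 5) (.c 3)) (.n (.c 4) (.n (.c 3) (.c 3)))) (.n (.n (.c 3) (.n (.c 6) (.c 2))) (.n .z (.n .z (.c 1)))))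 (.n (.n (.n (.c 3) .z) (.n (.c 3) (.n (.c 4) .z))) (.n (.n (.c 6) .z) (.n (.c 3) (.n (.c 1) (.c 5)))))) (.n (.n (.n (.n .z (.c 5)) (.n (.c 1) (.n (.c 4) .z))) (.n (.n (.c 2) (.n (.c 6) (.c 2))) (.n (.c 2) (.n (.c 4) (.c 6))))) (.n (.n (.n (.c 2) (.n (.c 4) (.c 2))) (.n (.c 5) (.n (.c 5) (.c 1)))) (.n (.n (.c 1) (.n (.c 5) (.c 1))) (.n .z (.n (.c 6) (.c 5)))))))))) (.node
 (.leaf (.n (.n (.n (.n (.n (.c 1) .z) (.n (.c 5) (.n (.c 1) (.c 2)))) (.n (.n (.c 1) (.n (.c 3) .z)) (.n (.c 1) (.n (.c 1) (.c 3))))) (.n (.n (.n (.c 4) (.c 3)) (.n .z (.n (.c 3) (.c 3)))) (.n (.n (.c 3) (.n (.c 5) (.c 2))) (.n (.c 5) (.n (.c 3) (.c 1)))))) (.n (.n (.n (.n (.c 5) (.c 1)) (.n .z (.n (.c 5) (.c 5)))) (.n (.n (.c 2) (.n (.c 1) (.c 4))) (.n (.c 4) (.n (.c 2) .z)))) (.n (.n (.n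 (.c 6) (.n (.c 6) (.c 1))) (.n (.c 4) (.n (.c 5) .z))) (.n (.n .z (.n (.c 2) (.c 4))) (.n (.c 4) (.n (.c 6) (.c 5)))))))) (.node
 (.leaf (.n (.n (.n (.n (.n (.c 5) (.c 6)) (.n (.c 4) (.n (.c 1) (.c 5)))) (.n (.n (.c 2) (.n (.c 4) (.c 4))) (.n (.c 2) (.n (.c 1) (.c 3))))) (.n (.n (.n (.c 3) (.c 4)) (.n .z (.n (.c 1) .z))) (.n (.n (.c 1) (.n (.c 2) (.c 5))) (.n (.c 5) (.n .z (.c 4)))))) (.n (.n (.n (.n (.c 6) .z) (.n (.c 5) (.n .z (.c 3)))) (.n (.n (.c 3) (.n (.c 1) (.c 4))) (.n (.c 2) (.n (.c 3) (.c 5))))) (.n (.n (.n (.c 1) (.n .z (.c 5))) (.n (.c 4) (.n (.c 5) (.c 1)))) (.n (.n (.c 1) (.n (.c 4) (.c 1))) (.n (.c 6) (.n (.c 4) (.c 5)))))))) (.leaf (.n (.n (.n (.n (.n .z (.c 1)) (.n (.c 1) (.n (.c 3) .z))) (.n (.n (.c 1) (.n (.c 6) (.c 4))) (.n .z (.n .z (.c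 1))))) (.n (.n (.n (.c 6) (.c 1)) (.n (.c 2) (.n .z (.c 5)))) (.n (.n (.c 2) (.n .z (.c 3))) (.n (.c 1) (.n (.c 5) (.c 1)))))) (.n (.n (.n (.n (.c 2) (.c 4)) (.n (.c 1) (.n (.c 6) (.c 5)))) (.n (.n (.c 4) (.n (.c 5) (.c 4))) (.n (.c 4) (.n (.c 1) (.c 1))))) (.n (.n (.n (.c 3) (.n .z (.c 1))) (.n (.c 6) (.n (.c 5) (.c 2)))) (.n (.n (.c 3) (.n (.c 2) .z)) (.n (.c 3) (.n .z (.c 6))))))))))) (.node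
 (.node
 (.leaf (.n (.n (.n (.n (.n (.c 3) (.c 5)) (.n .z (.n (.c 5) (.c 2)))) (.n (.n (.c 2) (.n (.c 5) (.c 3))) (.n (.c 5) (.n (.c 4) (.c 2))))) (.n (.n (.n (.c 2) (.c 2)) (.n (.c 6) (.n (.c 2) (.c 3)))) (.n (.n .z (.n .z (.c 3))) (.n (.c 3) (.n (.c 1) .z))))) (.n (.n (.n (.n (.c 3) (.c 2)) (.n (.c 2) (.n (.c 1) .z))) (.n (.n (.c 5) (.n (.c 6) (.c 4))) (.n (.c 6) (.n .z (.c 3))))) (.n (.n (.n (.c 5) (.n (.c 1) (.c 1))) (.n .z (.n (.c 5) (.c 5)))) (.n (.n (.c 1) (.n (.c 6) (.c 4))) (.n (.c 4) (.n (.c 4) (.c 5)))))))) (.node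
 (.leaf (.n (.n (.n (.n (.n .z (.c 3)) (.n (.c 4) (.n (.c 5) (.c 3)))) (.n (.n (.c 5) (.n (.c 5) .z)) (.n (.c 6) (.n (.c 6) (.c 6))))) (.n (.n (.n (.c 1) (.c 4)) (.n (.c 1) (.n (.c 5) (.c 6)))) (.n (.n (.c 5) (.n (.c 2) (.c 5))) (.n (.c 2) (.n .z (.c 5)))))) (.n (.n (.n (.n (.c 6) (.c 5)) (.n (.c 3) (.n (.c 3) (.c 6)))) (.n (.n (.c 5) (.n (.c 3) (.c 4))) (.n (.c 2) (.n (.c 1) (.c 3))))) (.n (.n (.n (.c 3) (.n (.c 3) .z)) (.n (.c 5) (.n (.c 2) (.c 3)))) (.n (.n (.c 2) (.n (.c 4) (.c 3))) (.n (.c 2) (.n (.c 6) (.c 4)))))))) (.leaf (.n (.n (.n (.n (.n (.c 2) (.c 4)) (.n (.c 1) (.n .z (.c 1)))) (.n (.n (.c 3) (.n (.c 6) (.c 2))) (.n (.c 1) (.n (.c 2) (.c 3))))) (.n (.n (.n (.c 1) (.c 4)) (.n (.c 3) (.n .z (.c 3)))) (.n (.n (.c 5) (.n (.c 2) (.c 4))) (.n (.c 6)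 (.n (.c 4) (.c 4)))))) (.n (.n (.n (.n (.c 1) (.c 6)) (.n (.c 3) (.n (.c 2) (.c 1)))) (.n (.n (.c 4) (.n (.c 4) .z)) (.n (.c 1) (.n (.c 6) (.c 2))))) (.n (.n (.n (.c 1) (.n .z (.c 2))) (.n (.c 2) (.n (.c 3) (.c 5)))) (.n (.n (.c 5) (.n .z (.c 4))) (.n (.c 5) (.n .z (.c 6)))))))))) (.node
 (.leaf (.n (.n (.n (.n (.n (.c 2) (.c 4)) (.n .z (.n (.c 2) (.c 4)))) (.n (.n (.c 2) (.n (.c 4) (.c 3))) (.n .z (.n (.c 6) .z)))) (.n (.n (.n (.c 2) (.c 2)) (.n (.c 3) (.n (.c 1) .z))) (.n (.n (.c 3) (.n (.c 1) (.c 5))) (.n .z (.n (.c 4) (.c 5)))))) (.n (.n (.n (.n (.c 1) (.c 3)) (.n (.c 3) (.n (.c 3) (.c 3)))) (.n (.n (.c 2) (.n .z (.c 2))) (.n (.c 5) (.n (.c 6) (.c 3))))) (.n (.n (.n (.c 4) (.n (.c 1) (.c 1))) (.n (.c 6) .z)) (.n (.n (.c 4) (.n (.c 3) (.c 6))) (.n (.c 3)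 (.n (.c 6) (.c 4)))))))) (.node
 (.leaf (.n (.n (.n (.n (.n (.c 4) (.c 3)) (.n (.c 4) (.n (.c 4) (.c 5)))) (.n (.n (.c 2) (.n .z (.c 5))) (.n (.c 5) (.n .z (.c 2))))) (.n (.n (.n (.c 1) .z) (.n (.c 6) (.n (.c 6) (.c 4)))) (.n (.n (.c 4) (.n (.c 5) .z)) (.n (.c 4) (.n (.c 4) (.c 2)))))) (.n (.n (.n (.n (.c 5) (.c 6)) (.n (.c 4) (.n (.c 6) (.c 5)))) (.n (.n (.c 1) (.n (.c 2) (.c 5))) (.n .z (.n (.c 3) (.c 5))))) (.n (.n (.n (.c 2) (.n .z (.c 6))) (.n (.c 5) (.n (.c 5) .z))) (.n (.n (.c 4) (.n (.c 5) (.c 3))) (.n (.c 1) .z)))))) (.leaf (.n (.n (.n (.n (.n (.c 4) (.c 1)) (.n (.c 3) (.n (.c 4) (.c 5)))) (.n (.n (.c 5) (.n (.c 6) (.c 2))) (.n (.c 4) (.n (.c 4) (.c 2))))) (.n (.n (.n (.c 2) (.c 6)) (.n (.c 1) (.n (.c 3) (.c 2)))) (.n (.n (.c 6) (.n (.c 5) (.c 5)))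 (.n (.c 5) (.n (.c 1) (.c 1)))))) (.n (.n (.n (.n (.c 4) (.c 2)) (.n (.c 5) (.n (.c 3) (.c 4)))) (.n (.n .z (.n (.c 3) (.c 6))) (.n (.c 3) (.n .z (.c 6))))) (.n (.n (.n .z (.n (.c 2) (.c 3))) (.n (.c 3) (.n (.c 3) (.c 4)))) (.n (.n (.c 5) (.n .z (.c 4))) (.n (.c 3) (.n (.c 5) (.c 2))))))))))))))

/-- the rows of letter 7 -/
def rows7 : RT CT := (.node
 (.node
 (.node
 (.node
 (.node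
 (.leaf (.n (.n (.n (.n (.n (.c 4) (.c 2)) (.n (.c 6) (.n (.c 2) (.c 2)))) (.n (.n (.c 1) (.n .z (.c 4))) (.n .z (.n .z (.c 6))))) (.n (.n (.n (.c 5) .z) (.n .z (.n (.c 2) (.c 4)))) (.n (.n (.c 6) (.n (.c 1) (.c 6))) (.n (.c 5) (.n (.c 6) (.c 3)))))) (.n (.n (.n (.n (.c 3) .z) (.n (.c 3) (.n (.c 2) (.c 6)))) (.n (.n (.c 5) (.n .z (.c 1))) (.n (.c 5) (.n (.c 1) .z)))) (.n (.n (.n (.c 3) (.n (.c 1) (.c 4))) (.n (.c 1) (.n (.c 1) (.c 4)))) (.n (.n (.c 4) (.n (.c 1) (.c 6))) (.n (.c 1) (.n (.c 6) (.c 2)))))))) (.leaf (.n (.n (.n (.n (.n .z (.c 5)) (.n .z (.n (.c 4) (.c 4)))) (.n (.n (.c 4) (.n (.c 5) (.c 4))) (.n (.c 3) (.n .z (.c 2))))) (.n (.n (.n (.c 6) (.c 1)) (.n (.c 1) (.n (.c 1) (.c 3)))) (.n (.n (.c 1) (.n (.c 3) (.c 5))) (.n (.c 3) (.n (.c 5) (.c 4))))))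 (.n (.n (.n (.n (.c 2) (.c 1)) (.n (.c 4) (.n (.c 6) (.c 6)))) (.n (.n (.c 1) (.n (.c 3) (.c 6))) (.n (.c 3) (.n (.c 1) (.c 3))))) (.n (.n (.n (.c 4) (.n (.c 3) (.c 4))) (.n (.c 6) (.n (.c 4) (.c 6)))) (.n (.n (.c 3) (.n (.c 6) (.c 4))) (.n (.c 5) (.n (.c 3) .z)))))))) (.node
 (.leaf (.n (.n (.n (.n (.n (.c 5) (.c 4)) (.n (.c 3) (.n (.c 5) .z))) (.n (.n .z (.n (.c 5) (.c 4))) (.n (.c 2) (.n (.c 3) (.c 4))))) (.n (.n (.n (.c 5) (.c 5)) (.n (.c 2) (.n .z (.c 1)))) (.n (.n .z (.n .z (.c 3))) (.n (.c 1) (.n (.c 2) (.c 3)))))) (.n (.n (.n (.n (.c 2) .z) (.n (.c 3) (.n (.c 2) (.c 2)))) (.n (.n .z (.n (.c 6) (.c 3))) (.n .z (.n (.c 5) (.c 1))))) (.n (.n (.n (.c 2) (.n (.c 3) .z)) (.n (.c 1) (.n (.c 3) .z))) (.n (.n (.c 6) (.n .z (.c 2))) (.n (.c 1) (.n (.c 5) (.c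 4)))))))) (.node
 (.leaf (.n (.n (.n (.n (.n (.c 1) (.c 1)) (.n (.c 1) (.n .z (.c 4)))) (.n (.n (.c 5) (.n (.c 5) (.c 5))) (.n (.c 3) (.n .z (.c 1))))) (.n (.n (.n (.c 6) (.c 3)) (.n (.c 2) (.n (.c 5) (.c 6)))) (.n (.n (.c 5) (.n (.c 5) (.c 4))) (.n (.c 5) (.n (.c 4) .z))))) (.n (.n (.n (.n (.c 1) (.c 6)) (.n .z (.n (.c 3) (.c 3)))) (.n (.n (.c 3) (.n (.c 6) (.c 2))) (.n .z (.n (.c 4) (.c 3))))) (.n (.n (.n (.c 1) (.n (.c 2) (.c 6))) (.n (.c 2) (.n (.c 5) (.c 2)))) (.n (.n (.c 1) (.n (.c 1) (.c 6))) (.n (.c 3) (.n (.c 2) (.c 4)))))))) (.leaf (.n (.n (.n (.n (.n (.c 5) (.c 3)) (.n (.c 2) (.n .z (.c 6)))) (.n (.n (.c 2) (.n (.c 2) (.c 2))) (.n (.c 2) (.n (.c 2) (.c 4))))) (.n (.n (.n (.c 6) (.c 6)) (.n (.c 1) (.n (.c 3) .z))) (.n (.n (.c 5) (.n (.c 4) (.c 5)))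 (.n .z (.n (.c 5) (.c 1)))))) (.n (.n (.n (.n (.c 3) (.c 6)) (.n .z (.n (.c 1) (.c 6)))) (.n (.n (.c 3) (.n (.c 4) (.c 3))) (.n (.c 4) (.n .z (.c 2))))) (.n (.n (.n (.c 6) (.n (.c 1) (.c 3))) (.n (.c 4) (.n .z (.c 1)))) (.n (.n (.c 3) (.n (.c 2) (.c 1))) (.n (.c 2) (.n (.c 6) (.c 3))))))))))) (.node
 (.node
 (.leaf (.n (.n (.n (.n (.n (.c 4) (.c 5)) (.n .z (.n (.c 3) (.c 6)))) (.n (.n (.c 6) (.n .z (.c 1))) (.n (.c 2) (.n .z (.c 1))))) (.n (.n (.n (.c 6) .z) (.n (.c 2) (.n (.c 2) (.c 3)))) (.n (.n (.c 2) (.n (.c 5) (.c 5))) (.n .z (.n (.c 4) .z))))) (.n (.n (.n (.n (.c 4) (.c 5)) (.n (.c 1) (.n (.c 4) .z))) (.n (.n (.c 1) (.n (.c 3) (.c 2))) (.n (.c 1) (.n (.c 1) (.c 2))))) (.n (.n (.n (.c 3) (.n (.c 2) (.c 2))) (.n (.c 2) (.n (.c 4) (.c 5)))) (.n (.n (.c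 6) (.n (.c 5) (.c 6))) (.n (.c 3) .z)))))) (.node
 (.leaf (.n (.n (.n (.n (.n (.c 6) (.c 4)) (.n (.c 1) (.n .z (.c 1)))) (.n (.n (.c 1) (.n (.c 2) (.c 4))) (.n (.c 2) (.n (.c 1) (.c 5))))) (.n (.n (.n (.c 4) (.c 6)) (.n .z (.n (.c 5) (.c 1)))) (.n (.n (.c 5) (.n (.c 6) (.c 1))) (.n (.c 4) (.n (.c 6) (.c 5)))))) (.n (.n (.n (.n (.c 2) (.c 3)) (.n (.c 2) (.n (.c 2) (.c 2)))) (.n (.n (.c 3) (.n (.c 4) (.c 4))) (.n (.c 4) (.n (.c 3) (.c 5))))) (.n (.n (.n (.c 1) (.n (.c 4) (.c 3))) (.n (.c 2) (.n .z (.c 1)))) (.n (.n (.c 2) (.n (.c 3) (.c 6))) (.n (.c 5) (.n (.c 5) (.c 4)))))))) (.leaf (.n (.n (.n (.n (.n (.c 1) (.c 6)) (.n (.c 3) (.n (.c 5) (.c 5)))) (.n (.n (.c 3) (.n (.c 4) (.c 4))) (.n (.c 2) (.n (.c 6) (.c 6))))) (.n (.n (.n (.c 5) (.c 5)) (.n .z (.n (.c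 1) (.c 3)))) (.n (.n (.c 5) (.n (.c 5) (.c 5))) (.n .z (.n .z (.c 5)))))) (.n (.n (.n (.n (.c 2) .z) (.n (.c 6) (.n (.c 4) (.c 1)))) (.n (.n .z (.n (.c 5) (.c 2))) (.n (.c 5) (.n .z (.c 3))))) (.n (.n (.n (.c 6) (.n .z (.c 4))) (.n (.c 3) (.n (.c 6) (.c 6)))) (.n (.n (.c 2) (.n (.c 6) (.c 4))) (.n (.c 5) (.n (.c 6) (.c 2)))))))))) (.node
 (.leaf (.n (.n (.n (.n (.n (.c 6) (.c 5)) (.n (.c 1) (.n (.c 5) (.c 5)))) (.n (.n (.c 2) (.n (.c 4) (.c 3))) (.n (.c 6) (.n (.c 5) (.c 3))))) (.n (.n (.n (.c 6) (.c 5)) (.n (.c 6) (.n (.c 1) (.c 6)))) (.n (.n (.c 1) (.n (.c 3) (.c 1))) (.n (.c 3) (.n (.c 1) (.c 5)))))) (.n (.n (.n (.n (.c 1) (.c 5)) (.n .z (.n (.c 5) .z))) (.n (.n .z (.n (.c 1) .z)) (.n (.c 5) (.n (.c 4) (.c 1))))) (.n (.n (.n .z (.n (.c 3) (.c 1))) (.n .z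 (.n .z (.c 2)))) (.n (.n (.c 6) (.n (.c 5) (.c 3))) (.n (.c 3) (.n (.c 5) (.c 2)))))))) (.node
 (.leaf (.n (.n (.n (.n (.n (.c 1) (.c 6)) (.n (.c 5) (.n .z (.c 2)))) (.n (.n (.c 3) (.n (.c 4) (.c 4))) (.n (.c 1) (.n (.c 3) (.c 4))))) (.n (.n (.n (.c 1) (.c 3)) (.n (.c 6) (.n (.c 3) (.c 6)))) (.n (.n .z (.n (.c 5) (.c 4))) (.n (.c 4) (.n (.c 1) .z))))) (.n (.n (.n (.n .z (.c 4)) (.n (.c 2) (.n (.c 4) (.c 5)))) (.n (.n (.c 2) (.n (.c 4) (.c 4))) (.n (.c 4) (.n (.c 4) (.c 1))))) (.n (.n (.n .z (.n (.c 6) (.c 3))) (.n (.c 5) (.n (.c 6) (.c 3)))) (.n (.n (.c 4) (.n (.c 4) (.c 4))) (.n (.c 5) (.n (.c 6) (.c 3)))))))) (.leaf (.n (.n (.n (.n (.n (.c 3) (.c 3)) (.n (.c 3) (.n (.c 6) (.c 5)))) (.n (.n (.c 1) (.n (.c 5) (.c 5))) (.n (.c 1) (.n (.c 3) (.c 6))))) (.n (.n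 (.n (.c 2) (.c 3)) (.n .z (.n .z (.c 2)))) (.n (.n (.c 1) (.n (.c 1) (.c 3))) (.n (.c 5) (.n (.c 5) .z))))) (.n (.n (.n (.n (.c 1) (.c 5)) (.n .z (.n (.c 1) (.c 1)))) (.n (.n (.c 2) (.n (.c 1) (.c 2))) (.n (.c 6) (.n (.c 3) .z)))) (.n (.n (.n (.c 3) (.n (.c 6) (.c 6))) (.n (.c 6) (.n (.c 2) (.c 4)))) (.n (.n (.c 1) (.n (.c 4) (.c 3))) (.n (.c 3) (.n .z (.c 4)))))))))))) (.node
 (.node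
 (.node
 (.leaf (.n (.n (.n (.n (.n .z (.c 5)) (.n (.c 1) (.n (.c 1) (.c 4)))) (.n (.n (.c 6) (.n (.c 6) .z)) (.n (.c 6) .z))) (.n (.n (.n (.c 2) (.c 2)) (.n (.c 2) (.n (.c 4) (.c 1)))) (.n (.n (.c 5) (.n (.c 6) (.c 1))) (.n (.c 6) (.n (.c 6) (.c 2)))))) (.n (.n (.n (.n (.c 2) (.c 3)) (.n (.c 4) (.n (.c 6) (.c 6)))) (.n (.n (.c 3) (.n (.c 4) (.c 1))) (.n (.c 2) (.n (.c 4) (.c 6))))) (.n (.n (.n (.c 2) (.n (.c 3) (.c 2))) (.n .z (.n (.c 4) (.c 4)))) (.n (.n (.c 4) (.n (.c 2) .z)) (.n .z (.n (.c 2) .z))))))) (.leaf (.n (.n (.n (.n (.n (.c 4) (.c 4)) (.n (.c 1) (.n (.c 3) (.c 4)))) (.n (.n (.c 1) (.n (.c 4) (.c 3))) (.n (.c 2) (.n (.c 6) (.c 5))))) (.n (.n (.n (.c 1) (.c 2)) (.n (.c 5) (.n (.c 2) (.c 6)))) (.n (.n (.c 4) (.n (.c 3) (.c 2))) (.n (.c 4) (.n (.c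 6) (.c 1)))))) (.n (.n (.n (.n (.c 1) (.c 3)) (.n (.c 5) (.n .z (.c 5)))) (.n (.n (.c 5) (.n (.c 1) .z)) (.n (.c 3) (.n (.c 5) (.c 4))))) (.n (.n (.n (.c 2) (.n .z (.c 2))) (.n (.c 5) (.n (.c 5) (.c 1)))) (.n (.n (.c 1) (.n (.c 3) (.c 5))) (.n (.c 2) (.n (.c 5) (.c 2))))))))) (.node
 (.leaf (.n (.n (.n (.n (.n .z (.c 4)) (.n (.c 1) (.n (.c 2) (.c 2)))) (.n (.n (.c 2) (.n (.c 6) (.c 4))) (.n (.c 5) (.n (.c 1) (.c 5))))) (.n (.n (.n (.c 6) (.c 1)) (.n (.c 1) (.n (.c 6) (.c 2)))) (.n (.n (.c 6) (.n (.c 3) (.c 6))) (.n (.c 5) (.n (.c 4) (.c 4)))))) (.n (.n (.n (.n (.c 1) (.c 3)) (.n (.c 2) (.n (.c 5) (.c 2)))) (.n (.n (.c 3) (.n (.c 3) (.c 1))) (.n (.c 3) (.n .z (.c 6))))) (.n (.n (.n (.c 2) (.n (.c 1) (.c 5))) (.n (.c 1) (.n (.c 1) .z))) (.n (.n .z (.n (.c 4)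 (.c 1))) (.n (.c 5) (.n (.c 3) (.c 1)))))))) (.node
 (.leaf (.n (.n (.n (.n (.n (.c 2) (.c 4)) (.n (.c 3) (.n (.c 3) (.c 4)))) (.n (.n (.c 3) (.n (.c 4) (.c 2))) (.n (.c 1) (.n (.c 4) (.c 3))))) (.n (.n (.n (.c 4) (.c 5)) (.n (.c 1) (.n (.c 5) (.c 1)))) (.n (.n .z (.n (.c 3) (.c 2))) (.n .z (.n (.c 3) (.c 3)))))) (.n (.n (.n (.n (.c 6) (.c 5)) (.n (.c 3) (.n (.c 5) (.c 4)))) (.n (.n (.c 3) (.n (.c 4) (.c 5))) (.n .z (.n (.c 1) (.c 4))))) (.n (.n (.n (.c 5) (.n .z (.c 1))) (.n (.c 5) (.n (.c 4) (.c 5)))) (.n (.n (.c 1) (.n (.c 3) (.c 5))) (.n (.c 1) (.n (.c 3) (.c 5)))))))) (.leaf (.n (.n (.n (.n (.n (.c 5) .z) (.n (.c 3) (.n (.c 5) (.c 2)))) (.n (.n (.c 6) (.n .z (.c 1))) (.n .z (.n (.c 6) (.c 1))))) (.n (.n (.n (.c 1) (.c 4)) (.n (.c 1) (.n (.c 5) (.c 5))))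 (.n (.n (.c 2) (.n (.c 6) (.c 2))) (.n (.c 6) (.n (.c 5) (.c 5)))))) (.n (.n (.n (.n (.c 2) (.c 3)) (.n (.c 3) (.n (.c 6) .z))) (.n (.n (.c 3) (.n (.c 6) (.c 1))) (.n (.c 3) (.n (.c 1) (.c 2))))) (.n (.n (.n (.c 3) (.n .z (.c 1))) (.n (.c 1) (.n (.c 3) (.c 6)))) (.n (.n (.c 5) (.n (.c 1) (.c 6))) (.n (.c 2) (.n (.c 2) .z)))))))))) (.node
 (.node
 (.leaf (.n (.n (.n (.n (.n (.c 1) (.c 2)) (.n (.c 2) (.n .z (.c 6)))) (.n (.n (.c 1) (.n (.c 3) .z)) (.n (.c 1) (.n (.c 6) .z)))) (.n (.n (.n (.c 3) (.c 1)) (.n (.c 5) (.n .z (.c 3)))) (.n (.n (.c 4) (.n (.c 4) .z)) (.n (.c 3) (.n .z (.c 3)))))) (.n (.n (.n (.n (.c 6) (.c 3)) (.n (.c 5) (.n (.c 2) (.c 6)))) (.n (.n (.c 1) (.n (.c 5) (.c 2))) (.n (.c 5) (.n (.c 4) (.c 2))))) (.n (.n (.n (.c 2) (.n (.c 5) (.c 6))) (.n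 (.c 2) (.n (.c 2) (.c 4)))) (.n (.n (.c 1) (.n (.c 6) .z)) (.n .z (.n (.c 6) (.c 5)))))))) (.node
 (.leaf (.n (.n (.n (.n (.n (.c 2) (.c 3)) (.n (.c 5) (.n (.c 6) (.c 4)))) (.n (.n (.c 1) (.n .z (.c 4))) (.n (.c 1) (.n (.c 5) (.c 3))))) (.n (.n (.n .z (.c 1)) (.n (.c 1) (.n .z (.c 3)))) (.n (.n (.c 4) (.n (.c 1) (.c 6))) (.n (.c 5) (.n (.c 6) (.c 6)))))) (.n (.n (.n (.n (.c 3) (.c 1)) (.n (.c 4) (.n (.c 3) (.c 4)))) (.n (.n (.c 1) (.n (.c 6) (.c 6))) (.n (.c 4) (.n (.c 5) (.c 6))))) (.n (.n (.n (.c 6) (.n (.c 5) (.c 1))) (.n (.c 6) (.n (.c 5) (.c 4)))) (.n (.n (.c 4) (.n (.c 6) (.c 4))) (.n (.c 3) (.n (.c 5) (.c 6)))))))) (.leaf (.n (.n (.n (.n .z (.n .z (.n (.c 3) (.c 3)))) (.n (.n (.c 3) (.n (.c 4) (.c 1))) (.n (.c 2) (.n (.c 3) (.c 3))))) (.n (.n (.n (.c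 1) (.c 3)) (.n (.c 4) (.n (.c 6) (.c 4)))) (.n (.n (.c 1) (.n (.c 3) (.c 5))) (.n (.c 2) (.n (.c 2) (.c 5)))))) (.n (.n (.n (.n .z (.c 5)) (.n (.c 2) (.n (.c 1) (.c 4)))) (.n (.n .z (.n (.c 1) (.c 5))) (.n (.c 2) (.n (.c 3) (.c 5))))) (.n (.n (.n (.c 2) (.n (.c 2) (.c 5))) (.n (.c 3) (.n (.c 4) (.c 5)))) (.n (.n (.c 4) (.n (.c 6) (.c 6))) (.n (.c 5) (.n (.c 2) (.c 3)))))))))) (.node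
 (.leaf (.n (.n (.n (.n (.n (.c 3) (.c 1)) (.n .z (.n (.c 1) (.c 3)))) (.n (.n (.c 1) (.n .z (.c 3))) (.n (.c 4) (.n (.c 3) (.c 4))))) (.n (.n (.n (.c 1) (.c 1)) (.n (.c 4) .z)) (.n (.n (.c 5) (.n (.c 4) (.c 6))) (.n (.c 1) (.n (.c 2) .z))))) (.n (.n (.n (.n .z (.c 2)) (.n (.c 5) (.n (.c 1) .z))) (.n (.n (.c 3) (.n (.c 1) (.c 6))) (.n .z (.n .z (.c 4))))) (.n (.n (.n (.c 6) (.n (.c 1) (.c 4))) (.n (.c 4) (.n .z (.c 1)))) (.n (.n (.c 1) (.n (.c 2) (.c 4))) (.n .z (.n (.c 5) .z))))))) (.node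
 (.leaf (.n (.n (.n (.n (.n (.c 1) (.c 4)) (.n (.c 2) (.n (.c 3) (.c 4)))) (.n (.n (.c 2) (.n (.c 6) (.c 3))) (.n (.c 6) (.n .z (.c 3))))) (.n (.n (.n (.c 5) (.c 3)) (.n (.c 2) (.n (.c 3) (.c 2)))) (.n (.n (.c 3) (.n (.c 1) (.c 1))) (.n (.c 3) (.n (.c 1) (.c 1)))))) (.n (.n (.n (.n (.c 2) (.c 4)) (.n (.c 5) (.n (.c 4) (.c 4)))) (.n (.n (.c 5) (.n (.c 1) (.c 3))) (.n (.c 2) (.n (.c 2) (.c 1))))) (.n (.n (.n (.c 1) (.n (.c 3) (.c 4))) (.n (.c 3) (.n (.c 2) (.c 2)))) (.n (.n .z (.n (.c 2) .z)) (.n (.c 2) (.n (.c 5) (.c 2)))))))) (.leaf (.n (.n (.n (.n (.n (.c 3) (.c 5)) (.n (.c 3) .z)) (.n (.n (.c 4) (.n (.c 4) (.c 1))) (.n (.c 5) (.n .z (.c 1))))) (.n (.n (.n (.c 1) (.c 1)) (.n (.c 5) (.n (.c 3) (.c 6)))) (.n (.n .z (.n (.c 5) (.c 2))) (.n (.c 6) (.n (.c 4)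 (.c 3)))))) (.n (.n (.n (.n (.c 1) (.c 1)) (.n (.c 6) (.n (.c 2) (.c 4)))) (.n (.n (.c 2) (.n (.c 4) (.c 6))) (.n (.c 5) (.n (.c 3) (.c 3))))) (.n (.n (.n (.c 6) (.n (.c 5) (.c 2))) (.n (.c 2) .z)) (.n (.n .z (.n .z (.c 5))) .z)))))))))) (.node
 (.node
 (.node
 (.node
 (.leaf (.n (.n (.n (.n (.n (.c 2) (.c 6)) (.n (.c 1) (.n (.c 1) .z))) (.n (.n (.c 1) (.n (.c 1) (.c 3))) (.n (.c 4) (.n (.c 4) .z)))) (.n (.n (.n (.c 3) (.c 2)) (.n (.c 1) (.n (.c 6) .z))) (.n (.n (.c 1) (.n (.c 4) (.c 4))) (.n (.c 3) (.n (.c 6) (.c 1)))))) (.n (.n (.n (.n (.c 6) (.c 4)) (.n (.c 4) (.n (.c 4) .z))) (.n (.n (.c 5) (.n (.c 2) (.c 6))) (.n (.c 1) (.n (.c 1) (.c 4))))) (.n (.n (.n (.c 4) (.n (.c 1) (.c 5))) (.n (.c 4) (.n .z (.c 1)))) (.n (.n (.c 2) (.n (.c 6) (.c 5))) (.n (.c 6)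 (.n (.c 3) .z))))))) (.leaf (.n (.n (.n (.n .z (.n (.c 6) (.n (.c 3) (.c 2)))) (.n (.n (.c 3) (.n .z (.c 5))) (.n (.c 2) (.n (.c 5) (.c 5))))) (.n (.n (.n (.c 5) (.c 2)) (.n .z (.n (.c 6) (.c 6)))) (.n (.n (.c 1) (.n (.c 6) (.c 4))) (.n (.c 4) (.n (.c 2) .z))))) (.n (.n (.n (.n (.c 3) .z) (.n .z (.n (.c 1) (.c 6)))) (.n (.n (.c 1) (.n (.c 3) (.c 6))) (.n .z (.n (.c 3) (.c 3))))) (.n (.n (.n (.c 3) (.n .z (.c 6))) (.n (.c 5) .z)) (.n (.n (.c 5) (.n (.c 3) (.c 6))) (.n .z (.n (.c 4) (.c 6))))))))) (.node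
 (.leaf (.n (.n (.n (.n (.n (.c 5) (.c 3)) (.n (.c 2) (.n (.c 5) (.c 4)))) (.n (.n (.c 4) (.n (.c 2) .z)) (.n .z (.n (.c 1) (.c 1))))) (.n (.n (.n (.c 3) .z) (.n (.c 3) (.n (.c 5) (.c 1)))) (.n (.n (.c 2) (.n (.c 5) (.c 1))) (.n (.c 4) (.n (.c 5) (.c 5)))))) (.n (.n (.n (.n (.c 4) (.c 4)) (.n (.c 6) (.n (.c 6) (.c 5)))) (.n (.n .z (.n (.c 4) (.c 3))) (.n (.c 3) (.n (.c 3) (.c 1))))) (.n (.n (.n (.c 5) (.n (.c 2) (.c 3))) (.n (.c 2) (.n (.c 5) .z))) (.n (.n .z (.n (.c 6) .z)) (.n (.c 5) (.n (.c 4) (.c 5)))))))) (.node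
 (.leaf (.n (.n (.n (.n (.n (.c 1) (.c 4)) (.n (.c 5) (.n (.c 4) (.c 3)))) (.n (.n (.c 4) (.n (.c 6) (.c 3))) (.n (.c 1) (.n (.c 5) (.c 2))))) (.n (.n (.n (.c 1) (.c 6)) (.n (.c 2) (.n (.c 5) (.c 5)))) (.n (.n .z (.n (.c 4) (.c 2))) (.n (.c 6) (.n (.c 4) .z))))) (.n (.n (.n (.n (.c 5) (.c 2)) (.n (.c 4) (.n (.c 5) (.c 1)))) (.n (.n (.c 4) (.n (.c 4) (.c 2))) (.n .z (.n (.c 1) (.c 6))))) (.n (.n (.n .z (.n (.c 4) (.c 4))) (.n .z (.n (.c 1) .z))) (.n (.n (.c 3) (.n .z (.c 3))) (.n (.c 4) (.n (.c 5) (.c 2)))))))) (.leaf (.n (.n (.n (.n (.n (.c 6) (.c 3)) (.n .z (.n .z (.c 6)))) (.n (.n (.c 6) (.n (.c 5) (.c 1))) (.n (.c 1) (.n (.c 3) (.c 6))))) (.n (.n (.n (.c 3) (.c 3)) (.n .z (.n .z (.c 2)))) (.n (.n (.c 5) (.n .z (.c 6))) (.n (.c 1) (.n (.c 1) (.c 6))))))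 (.n (.n (.n (.n (.c 4) (.c 3)) (.n (.c 3) (.n (.c 3) (.c 6)))) (.n (.n (.c 2) (.n (.c 3) (.c 6))) (.n (.c 3) (.n .z (.c 5))))) (.n (.n (.n (.c 4) (.n (.c 3) (.c 1))) (.n .z (.n (.c 2) .z))) (.n (.n (.c 1) (.n (.c 5) (.c 5))) (.n (.c 3) (.n (.c 5) (.c 6))))))))))) (.node
 (.node
 (.leaf (.n (.n (.n (.n (.n (.c 1) (.c 6)) (.n (.c 4) (.n .z (.c 6)))) (.n (.n (.c 3) (.n (.c 6) (.c 4))) (.n (.c 2) (.n (.c 3) .z)))) (.n (.n (.n (.c 2) (.c 1)) (.n (.c 5) (.n (.c 2) (.c 2)))) (.n (.n (.c 6) (.n .z (.c 3))) (.n .z (.n (.c 2) (.c 4)))))) (.n (.n (.n .z (.n (.c 1) (.n (.c 4) (.c 1)))) (.n (.n (.c 2) (.n (.c 5) (.c 5))) (.n (.c 1) (.n (.c 1) (.c 3))))) (.n (.n (.n .z (.n (.c 3) (.c 1))) (.n (.c 5) (.n (.c 6) (.c 2)))) (.n (.n (.c 2) (.n (.c 2) (.c 2))) (.n (.c 6) (.n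 (.c 5) .z))))))) (.node
 (.leaf (.n (.n (.n (.n (.n (.c 5) (.c 2)) (.n (.c 1) (.n (.c 4) .z))) (.n (.n (.c 4) (.n .z (.c 2))) (.n (.c 4) (.n .z (.c 3))))) (.n (.n (.n (.c 6) (.c 2)) (.n (.c 2) (.n (.c 2) (.c 4)))) (.n (.n (.c 3) (.n (.c 3) (.c 2))) (.n (.c 1) (.n (.c 4) (.c 1)))))) (.n (.n (.n (.n (.c 2) .z) (.n (.c 2) (.n (.c 3) .z))) (.n (.n (.c 4) (.n (.c 1) (.c 3))) (.n (.c 2) (.n .z (.c 5))))) (.n (.n (.n .z (.n (.c 2) (.c 5))) (.n (.c 1) (.n .z (.c 2)))) (.n (.n (.c 3) (.n (.c 2) (.c 3))) (.n (.c 2) (.n (.c 3) (.c 4)))))))) (.leaf (.n (.n (.n (.n (.n (.c 6) (.c 5)) (.n (.c 5) (.n (.c 3) (.c 1)))) (.n (.n (.c 2) (.n (.c 1) .z)) (.n .z (.n .z (.c 6))))) (.n (.n .z (.n (.c 3) (.n (.c 2) (.c 6)))) (.n (.n (.c 5) (.n (.c 5) (.c 4))) (.n (.c 5) (.n (.c 6)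 (.c 2)))))) (.n (.n (.n (.n (.c 5) (.c 1)) (.n (.c 1) (.n (.c 3) (.c 4)))) (.n (.n .z (.n (.c 2) (.c 3))) (.n (.c 5) (.n (.c 3) (.c 4))))) (.n (.n (.n (.c 1) (.n (.c 4) (.c 3))) (.n .z (.n (.c 6) (.c 3)))) (.n (.n (.c 4) (.n (.c 1) (.c 4))) (.n (.c 4) (.n (.c 3) (.c 6)))))))))) (.node
 (.leaf (.n (.n (.n (.n (.n (.c 2) .z) (.n .z (.n (.c 1) (.c 3)))) (.n (.n (.c 4) (.n (.c 3) .z)) (.n (.c 4) (.n (.c 3) (.c 6))))) (.n (.n (.n (.c 4) (.c 1)) (.n (.c 3) (.n (.c 6) (.c 4)))) (.n (.n (.c 3) (.n (.c 6) .z)) (.n (.c 2) (.n (.c 1) (.c 2)))))) (.n (.n (.n (.n (.c 6) (.c 4)) (.n (.c 1) (.n (.c 3) (.c 3)))) (.n (.n (.c 6) (.n (.c 3) (.c 6))) (.n .z (.n (.c 3) (.c 5))))) (.n (.n (.n (.c 4) (.n (.c 5) (.c 4))) (.n (.c 1) (.n (.c 4) (.c 2)))) (.n (.n (.c 3) (.n (.c 1) (.c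 3))) (.n .z (.n (.c 2) (.c 4)))))))) (.node
 (.leaf (.n (.n (.n (.n (.n (.c 4) (.c 2)) (.n (.c 5) (.n (.c 5) (.c 6)))) (.n (.n (.c 4) (.n .z (.c 3))) (.n (.c 2) (.n (.c 6) (.c 6))))) (.n (.n (.n (.c 2) (.c 5)) (.n (.c 5) (.n (.c 3) (.c 1)))) (.n (.n (.c 1) (.n (.c 4) (.c 5))) (.n (.c 1) (.n (.c 3) .z))))) (.n (.n (.n (.n .z (.c 3)) (.n (.c 3) (.n (.c 6) (.c 2)))) (.n (.n (.c 3) (.n .z (.c 6))) (.n (.c 3) (.n (.c 4) (.c 4))))) (.n (.n (.n (.c 3) (.n (.c 3) (.c 2))) (.n (.c 5) (.n (.c 2) (.c 2)))) (.n (.n (.c 4) (.n (.c 6) (.c 6))) (.n (.c 2) (.n .z (.c 6)))))))) (.leaf (.n (.n (.n (.n (.n (.c 6) (.c 2)) (.n .z (.n (.c 4) (.c 1)))) (.n (.n .z (.n (.c 6) (.c 4))) (.n (.c 5) (.n (.c 5) (.c 2))))) (.n (.n (.n (.c 3) (.c 4)) (.n (.c 1) (.n (.c 1) (.c 6)))) (.n (.n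 (.c 5) (.n (.c 1) (.c 2))) (.n (.c 3) (.n (.c 6) (.c 2)))))) (.n (.n (.n (.n .z (.c 6)) (.n .z (.n (.c 4) (.c 5)))) (.n (.n (.c 6) (.n (.c 3) (.c 1))) (.n (.c 6) (.n (.c 4) (.c 3))))) (.n (.n (.n (.c 4) (.n (.c 5) .z)) (.n (.c 3) (.n (.c 3) (.c 5)))) (.n (.n (.c 1) (.n .z (.c 1))) (.n (.c 6) (.n (.c 4) (.c 4)))))))))))) (.node
 (.node
 (.node
 (.leaf (.n (.n (.n (.n (.n (.c 3) (.c 4)) (.n (.c 6) (.n (.c 1) (.c 6)))) (.n (.n .z (.n (.c 6) (.c 1))) (.n (.c 2) (.n (.c 2) (.c 3))))) (.n (.n (.n (.c 5) (.c 2)) (.n (.c 4) (.n (.c 6) (.c 6)))) (.n (.n (.c 3) (.n (.c 2) (.c 3))) (.n (.c 6) (.n .z (.c 4)))))) (.n (.n (.n (.n (.c 4) (.c 1)) (.n (.c 2) (.n (.c 5) (.c 6)))) (.n (.n (.c 4) (.n (.c 4) (.c 1))) (.n (.c 5) (.n (.c 3) (.c 2))))) (.n (.n (.n (.c 3) (.n (.c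 2) (.c 4))) (.n (.c 3) (.n .z (.c 1)))) (.n (.n (.c 2) (.n (.c 1) .z)) (.n (.c 2) (.n (.c 6) (.c 5)))))))) (.node
 (.leaf (.n (.n (.n (.n (.n .z (.c 2)) (.n (.c 5) (.n (.c 2) (.c 1)))) (.n (.n (.c 5) (.n (.c 3) (.c 4))) (.n .z (.n (.c 4) (.c 5))))) (.n (.n (.n (.c 6) (.c 6)) (.n (.c 3) (.n (.c 1) (.c 5)))) (.n (.n (.c 2) (.n (.c 2) (.c 4))) (.n (.c 2) (.n (.c 3) .z))))) (.n (.n (.n (.n (.c 3) (.c 3)) (.n (.c 3) (.n (.c 2) (.c 6)))) (.n (.n (.c 1) (.n (.c 5) (.c 5))) (.n (.c 4) (.n (.c 2) (.c 5))))) (.n (.n (.n (.c 6) (.n (.c 6) (.c 1))) (.n (.c 6) (.n (.c 5) (.c 4)))) (.n (.n (.c 3) (.n (.c 3) (.c 2))) (.n (.c 6) (.n (.c 5) (.c 2)))))))) (.leaf (.n (.n (.n (.n (.n (.c 5) (.c 1)) (.n (.c 3) (.n (.c 2) (.c 1)))) (.n (.n .z (.n (.c 2) (.c 2))) (.n (.c 5) (.n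 (.c 1) (.c 2))))) (.n (.n (.n .z (.c 5)) (.n (.c 4) (.n (.c 5) (.c 4)))) (.n (.n (.c 2) (.n (.c 4) (.c 4))) (.n (.c 2) (.n (.c 3) .z))))) (.n (.n (.n (.n (.c 3) (.c 4)) (.n (.c 2) (.n (.c 4) (.c 1)))) (.n (.n (.c 4) (.n (.c 2) (.c 4))) (.n (.c 3) (.n (.c 4) (.c 3))))) (.n (.n (.n .z (.n (.c 3) (.c 3))) (.n (.c 1) (.n (.c 4) (.c 6)))) (.n (.n (.c 5) (.n (.c 5) .z)) (.n (.c 3) (.n (.c 1) (.c 5)))))))))) (.node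
 (.leaf (.n (.n (.n (.n (.n (.c 2) (.c 4)) (.n (.c 4) (.n .z (.c 6)))) (.n (.n (.c 6) (.n (.c 3) (.c 4))) (.n (.c 1) (.n (.c 2) (.c 4))))) (.n (.n (.n (.c 6) (.c 2)) (.n (.c 3) (.n (.c 1) .z))) (.n (.n (.c 3) (.n (.c 1) .z)) (.n (.c 3) (.n (.c 1) (.c 1)))))) (.n (.n (.n (.n (.c 6) (.c 5)) (.n (.c 6) (.n (.c 3) (.c 3)))) (.n (.n .z (.n (.c 5) (.c 6))) (.n (.c 4) (.n (.c 2) (.c 1))))) (.n (.n (.n (.c 1) (.n (.c 5) (.c 1))) (.n (.c 6) (.n .z (.c 6)))) (.n (.n (.c 1) (.n (.c 6) (.c 1))) (.n (.c 3) (.n (.c 1) .z))))))) (.node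
 (.leaf (.n (.n (.n (.n (.n (.c 5) (.c 4)) (.n (.c 2) (.n (.c 2) (.c 5)))) (.n (.n (.c 6) (.n (.c 6) (.c 1))) (.n (.c 4) (.n (.c 5) (.c 6))))) (.n (.n (.n (.c 3) (.c 1)) (.n (.c 6) (.n (.c 3) (.c 3)))) (.n (.n (.c 4) (.n (.c 2) (.c 5))) (.n (.c 1) (.n (.c 5) (.c 2)))))) (.n (.n (.n (.n (.c 1) (.c 4)) (.n (.c 4) (.n (.c 3) .z))) (.n (.n (.c 2) (.n (.c 4) (.c 5))) (.n (.c 2) (.n .z (.c 3))))) (.n (.n (.n (.c 3) (.n (.c 1) (.c 6))) (.n (.c 3) (.n (.c 2) (.c 1)))) (.n (.n (.c 4) (.n (.c 2) (.c 4))) (.n (.c 1) (.n (.c 4) (.c 6)))))))) (.leaf (.n (.n (.n (.n (.n (.c 4) (.c 2)) (.n .z (.n (.c 3) (.c 3)))) (.n (.n (.c 2) (.n (.c 4) (.c 3))) (.n (.c 1) (.n (.c 4) (.c 1))))) (.n (.n (.n .z (.c 2)) (.n (.c 1) (.n (.c 1) (.c 6)))) (.n (.n .z (.n (.c 1) (.c 3))) (.n (.c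 5) (.n (.c 2) .z))))) (.n (.n (.n (.n (.c 5) (.c 5)) (.n (.c 3) (.n (.c 6) (.c 2)))) (.n (.n .z (.n (.c 1) (.c 2))) (.n .z (.n (.c 6) (.c 3))))) (.n (.n (.n (.c 4) (.n (.c 5) (.c 4))) (.n .z (.n .z (.c 4)))) (.n (.n (.c 5) (.n .z (.c 5))) (.n (.c 2) (.n (.c 5) (.c 5))))))))))) (.node
 (.node
 (.leaf (.n (.n (.n (.n (.n (.c 1) (.c 5)) (.n (.c 6) (.n (.c 4) (.c 4)))) (.n (.n .z (.n (.c 6) (.c 4))) (.n .z (.n (.c 3) (.c 2))))) (.n (.n (.n (.c 6) (.c 4)) (.n .z (.n (.c 1) (.c 5)))) (.n (.n (.c 3) (.n (.c 3) (.c 4))) (.n .z (.n (.c 1) (.c 5)))))) (.n (.n (.n .z (.n (.c 5) (.n .z (.c 4)))) (.n (.n (.c 6) (.n (.c 5) .z)) (.n (.c 1) (.n (.c 3) (.c 2))))) (.n (.n (.n (.c 1) (.n (.c 5) (.c 2))) (.n (.c 2) (.n .z (.c 5)))) (.n (.n (.c 6) (.n (.c 2) .z)) (.n (.c 1) (.n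 (.c 4) (.c 6)))))))) (.node
 (.leaf (.n (.n (.n (.n (.n (.c 5) (.c 3)) (.n (.c 2) (.n (.c 5) (.c 3)))) (.n (.n .z (.n (.c 6) (.c 3))) (.n (.c 5) (.n (.c 1) (.c 6))))) (.n (.n (.n (.c 5) (.c 2)) (.n (.c 3) (.n (.c 1) (.c 5)))) (.n (.n (.c 5) (.n (.c 2) (.c 4))) (.n (.c 2) (.n (.c 5) (.c 6)))))) (.n (.n (.n (.n (.c 2) (.c 3)) (.n (.c 3) (.n (.c 3) (.c 4)))) (.n (.n (.c 5) (.n (.c 4) (.c 5))) (.n (.c 4) (.n (.c 6) .z)))) (.n (.n (.n (.c 4) (.n (.c 6) (.c 5))) (.n (.c 4) (.n (.c 2) (.c 4)))) (.n (.n (.c 2) (.n (.c 1) (.c 5))) (.n (.c 5) (.n (.c 6) (.c 5)))))))) (.leaf (.n (.n (.n (.n (.n (.c 5) (.c 6)) (.n .z (.n (.c 3) (.c 4)))) (.n (.n (.c 3) (.n .z (.c 4))) (.n (.c 4) (.n (.c 5) (.c 5))))) (.n (.n (.n (.c 4) (.c 2)) (.n .z (.n (.c 5) (.c 2)))) (.n (.n (.c 5)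 (.n (.c 3) .z)) (.n (.c 5) (.n (.c 1) (.c 1)))))) (.n (.n (.n (.n (.c 1) (.c 4)) (.n (.c 2) (.n (.c 4) (.c 2)))) (.n (.n (.c 4) (.n (.c 6) (.c 5))) (.n (.c 5) (.n (.c 1) .z)))) (.n (.n (.n (.c 5) (.n (.c 6) .z)) (.n (.c 3) (.n (.c 3) (.c 4)))) (.n (.n (.c 2) (.n (.c 1) (.c 5))) (.n (.c 1) (.n (.c 5) (.c 5)))))))))) (.node
 (.leaf (.n (.n (.n (.n (.n (.c 2) (.c 2)) (.n (.c 6) (.n (.c 2) (.c 6)))) (.n (.n (.c 2) (.n (.c 6) (.c 5))) (.n (.c 5) (.n .z (.c 3))))) (.n (.n (.n (.c 2) (.c 3)) (.n (.c 1) (.n (.c 6) (.c 6)))) (.n (.n (.c 2) (.n (.c 4) .z)) (.n .z (.n (.c 4) .z))))) (.n (.n (.n (.n (.c 4) .z) (.n (.c 5) (.n (.c 5) (.c 6)))) (.n (.n (.c 2) (.n (.c 1) (.c 5))) (.n (.c 5) (.n (.c 1) (.c 3))))) (.n (.n (.n (.c 1) (.n (.c 3) (.c 5))) (.n (.c 1) (.n (.c 6)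 (.c 6)))) (.n (.n (.c 5) (.n .z (.c 3))) (.n (.c 6) (.n (.c 6) (.c 5)))))))) (.node
 (.leaf (.n (.n (.n (.n (.n (.c 1) (.c 2)) (.n (.c 4) (.n (.c 6) (.c 5)))) (.n (.n (.c 1) (.n (.c 5) (.c 5))) (.n (.c 2) (.n (.c 1) (.c 2))))) (.n (.n (.n (.c 5) (.c 6)) (.n (.c 1) (.n (.c 1) (.c 1)))) (.n (.n .z (.n (.c 5) .z)) (.n (.c 6) (.n (.c 4) (.c 5)))))) (.n (.n (.n (.n (.c 2) (.c 6)) (.n (.c 3) (.n (.c 1) (.c 4)))) (.n (.n (.c 3) (.n (.c 6) (.c 6))) (.n (.c 3) (.n (.c 3) (.c 4))))) (.n (.n (.n .z (.n (.c 2) (.c 5))) (.n (.c 2) (.n (.c 6) (.c 3)))) (.n (.n (.c 6) (.n .z (.c 2))) (.n (.c 2) (.n (.c 2) (.c 4)))))))) (.leaf (.n (.n (.n (.n (.n (.c 4) (.c 4)) (.n (.c 1) (.n .z (.c 4)))) (.n (.n (.c 6) (.n (.c 5) (.c 3))) (.n (.c 1) (.n (.c 4) (.c 4))))) (.n (.n (.n (.c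 6) (.c 5)) (.n (.c 4) (.n (.c 2) (.c 2)))) (.n (.n (.c 4) (.n .z (.c 1))) (.n (.c 1) (.n (.c 2) (.c 4)))))) (.n (.n (.n (.n .z (.c 1)) (.n (.c 6) (.n (.c 5) (.c 2)))) (.n (.n (.c 3) (.n (.c 1) (.c 2))) (.n (.c 3) (.n .z (.c 6))))) (.n (.n (.n (.c 5) (.n (.c 6) (.c 4))) (.n (.c 5) (.n (.c 5) (.c 5)))) (.n (.n (.c 4) (.n (.c 6) (.c 3))) (.n (.c 5) (.n (.c 1) .z)))))))))))))

end CfsgLib.Spor.ONGL
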