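import Cfsg.Agent.Lib.Spor.ONGL.Data0
import Cfsg.Agent.Lib.Spor.ONGL.Data1

/-! Products along words of the eight letters, packed in lanes of 32 bits and as matrices. -/

set_option autoImplicit false
set_option maxRecDepth 100000

namespace CfsgLib.Spor.ONGL

open CfsgLib.Spor.Fi22GL

/-- a mask of sixteen bits in every lane -/
def mask7 (n : ℕ) : ℕ := pack n fun _ => 65535

/-- reduce every lane modulo seven -/
def red7 (msk X : ℕ) : ℕ :=
  Nat.sub X (Nat.mul 7 (Nat.land (Nat.shiftRight (Nat.mul X 9363) 16) msk))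

theorem lanes_quot7 : ∀ (n : ℕ) (f : ℕ → ℕ), (∀ j, f j ≤ 1620) →
    ((pack n f * 9363) >>> 16) &&& mask7 n = pack n fun j => f j / 7
  | 0, _, _ => by simp [pack, mask7]
  | n + 1, f, hf => by
    have ih := lanes_quot7 n (fun j => f (j + 1)) fun j => hf _
    rw [mask7, pack, pack, pack]
    rw [mask7] at ih
    rw [Nat.shiftRight_eq_div_pow] at ih ⊢
    generalize pack n (fun j => f (j + 1)) = P at ih ⊢
    generalize pack n (fun j => f (j + 1) / 7) = Q at ih ⊢
    generalize pack n (fun _ => (65535 : ℕ)) = M at ih ⊢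
    have h0 := hf 0
    generalize f 0 = x at h0 ⊢
    have e : (x + 2 ^ 32 * P) * 9363 / 2 ^ 16 = x / 7 + 2 ^ 16 * (P * 9363) := by
      rw [show (x + 2 ^ 32 * P) * 9363 = x * 9363 + 2 ^ 16 * (2 ^ 16 * (P * 9363)) by ring,
        Nat.add_mul_div_left _ _ (by positivity)]
      congr 1
      omega
    rw [e]
    generalize hA : x / 7 + 2 ^ 16 * (P * 9363) = A
    rw [← Nat.div_add_mod (A &&& (65535 + 2 ^ 32 * M)) (2 ^ 32), Nat.and_div_two_pow,
      Nat.and_mod_two_pow,
      show (65535 + 2 ^ 32 * M) / 2 ^ 32 = M by omega,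
      show (65535 + 2 ^ 32 * M) % 2 ^ 32 = 2 ^ 16 - 1 by omega, Nat.and_two_pow_sub_one_eq_mod,
      show A / 2 ^ 32 = P * 9363 / 2 ^ 16 by omega, ih,
      show A % 2 ^ 32 % 2 ^ 16 = x / 7 by omega]
    ring

theorem red7_pack (n : ℕ) (f : ℕ → ℕ) (hf : ∀ j, f j ≤ 1620) :
    red7 (mask7 n) (pack n f) = pack n fun j => f j % 7 := by
  show pack n f - 7 * (((pack n f * 9363) >>> 16) &&& mask7 n) = _
  rw [lanes_quot7 n f hf, pack_mul]
  have h := pack_add n (fun j => f j % 7) fun j => 7 * (f j / 7)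
  rw [show (fun j => f j % 7 + 7 * (f j / 7)) = f from funext fun j => Nat.mod_add_div _ _] at h
  omega

/-- the rows of a letter -/
def rowsOf : ℕ → RT CT
  | 0 => rows0 | 1 => rows1 | 2 => rows2 | 3 => rows3
  | 4 => rows4 | 5 => rows5 | 6 => rows6 | _ => rows7

/-- the shape, with indices below 45 -/
def idT : RT (Fin 45) := natT.map fun k => ⟨k % 45, Nat.mod_lt _ (by decide)⟩

/-- a row of a letter -/
def rowG (g : ℕ) (i : Fin 45) : CT := (rowsOf g).flat.getD i .z

/-- the value at a position of a multiple of the unit matrix -/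
def scl (c : ℕ) (i : Fin 45) (j : ℕ) : ℕ := bif Nat.beq i.val j then c else 0

/-- the packed multiple of the unit matrix -/
def sclRows (c : ℕ) : RT ℕ := idT.map fun i => pack 45 (scl c i)

/-- the mask, evaluated -/
def msk : ℕ := mask7 45

/-- left multiplication by a letter -/
def mulL (g : ℕ) (P : RT ℕ) : RT ℕ := (rowsOf g).map fun C => red7 msk (dotN C P)

/-- the packed product along a word -/
def prodP : List ℕ → RT ℕ
  | [] => sclRows 1
  | g :: w => mulL g (prodP w)

/-- comparison of trees -/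
def beqT : RT ℕ → RT ℕ → Bool
  | .leaf x, .leaf y => Nat.beq x y
  | .node a b, .node c d => beqT a c && beqT b d
  | _, _ => false

theorem beqT_sound : ∀ {s t : RT ℕ}, beqT s t = true → s = t
  | .leaf x, .leaf y, h => by rw [Nat.eq_of_beq_eq_true h]
  | .node a b, .node c d, h => by
    simp only [beqT, Bool.and_eq_true] at h
    rw [beqT_sound h.1, beqT_sound h.2]
  | .leaf _, .node _ _, h => by simp [beqT] at h
  | .node _ _, .leaf _, h => by simp [beqT] at h

/-- a word has the packed product of a multiple of the unit matrix -/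
def isScl (w : List ℕ) (c : ℕ) : Bool := beqT (prodP w) (sclRows c)

/-- all rows of a letter are light enough for a lane -/
def wtOK : Bool := (List.range 8).all fun g => (rowsOf g).flat.all fun C => Nat.ble C.wt 270

theorem wtOK_true : wtOK = true := by decide +kernel

theorem rowsOf_eq : ∀ g < 8, rowsOf g = idT.map (rowG g) := by
  intro g hg
  interval_cases g <;> rfl

theorem mem_idT (i : Fin 45) : i ∈ idT.flat := by
  have h : ((List.finRange 45).all fun i => idT.flat.any fun j => Nat.beq j.val i.val) = true := by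
    decide +kernel
  simp only [List.all_eq_true, List.any_eq_true] at h
  obtain ⟨j, hj, e⟩ := h i (List.mem_finRange i)
  rwa [← Fin.ext (Nat.eq_of_beq_eq_true e)]

theorem wt_le (g : ℕ) (hg : g < 8) (i : Fin 45) : (rowG g i).wt ≤ 270 := by
  have h := wtOK_true
  simp only [wtOK, List.all_eq_true, List.mem_range] at h
  rw [rowG, List.getD_eq_getElem?_getD]
  cases e : (rowsOf g).flat[(i : ℕ)]? with
  | none => simp [CT.wt]
  | some C => exact Nat.le_of_ble_eq_true (h g hg C (List.mem_of_getElem? e))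

/-- a letter as a matrix -/
def gM (g : ℕ) : Matrix (Fin 45) (Fin 45) (ZMod 7) :=
  fun i j => dot (rowG g i) (idT.map fun k => if k = j then (1 : ZMod 7) else 0)

/-- the product of matrices along a word -/
def valM (w : List ℕ) : Matrix (Fin 45) (Fin 45) (ZMod 7) := (w.map gM).prod

theorem scl_cast (c : ℕ) (i j : Fin 45) :
    ((scl c i j : ℕ) : ZMod 7) = ((c : ZMod 7) • (1 : Matrix (Fin 45) (Fin 45) (ZMod 7))) i j := by
  rw [Matrix.smul_apply, Matrix.one_apply]
  by_cases h : i = j
  · subst h; rw [if_pos rfl, smul_eq_mul, mul_one, show scl c i i = c by simp [scl]]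
  · rw [if_neg h, smul_zero, show scl c i j = 0 by
      unfold scl
      cases e : Nat.beq i.val j
      · rfl
      · exact absurd (Fin.ext (Nat.eq_of_beq_eq_true e)) h]
    rfl

theorem prodP_spec : ∀ w : List ℕ, (∀ g ∈ w, g < 8) → ∃ v : Fin 45 → ℕ → ℕ,
    (∀ i j, v i j ≤ 6) ∧ prodP w = idT.map (fun i => pack 45 (v i)) ∧
      ∀ i j : Fin 45, ((v i j : ℕ) : ZMod 7) = valM w i j := by
  intro w
  induction w with
  | nil =>
    refine fun _ => ⟨scl 1, fun i j => ?_, rfl, fun i j => ?_⟩
    · unfold scl; cases Nat.beq i.val j <;> simp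
    · rw [scl_cast, valM, List.map_nil, List.prod_nil, Nat.cast_one, one_smul]
  | cons g w ih =>
    intro hw
    obtain ⟨v, hv, hP, hM⟩ := ih fun x hx => hw x (List.mem_cons_of_mem _ hx)
    have hg := hw g List.mem_cons_self
    let d : Fin 45 → ℕ → ℕ := fun i j => dot (rowG g i) (idT.map fun k => v k j)
    have hd : ∀ i j, d i j ≤ 1620 := fun i j =>
      (dot_le (fun k => v k j) 6 (fun k => hv k j) (rowG g i) idT).trans
        ((Nat.mul_le_mul_right 6 (wt_le g hg i)).trans (by norm_num))
    refine ⟨fun i j => d i j % 7, fun i j => Nat.le_of_lt_succ (Nat.mod_lt _ (by norm_num)), ?_,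
      fun i j => ?_⟩
    · rw [prodP, mulL, rowsOf_eq g hg, RT.map_map, hP]
      refine RT.map_congr idT fun i => ?_
      show red7 msk (dotN (rowG g i) _) = _
      rw [dotN_map, msk, red7_pack _ _ (hd i)]
    · rw [ZMod.natCast_mod, valM, List.map_cons, List.prod_cons, ← valM, Matrix.mul_apply]
      show ((dot (rowG g i) (idT.map fun k => v k j) : ℕ) : ZMod 7) = _
      rw [← dot_cast, RT.map_map, dot_map]
      exact Finset.sum_congr rfl fun k _ => by
        rw [show ((fun x : ℕ => (x : ZMod 7)) ∘ fun k => v k j) k = _ from hM k j]; rfl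

theorem isScl_sound {w : List ℕ} (hw : ∀ g ∈ w, g < 8) {c : ℕ} (hc : c ≤ 6)
    (h : isScl w c = true) : valM w = (c : ZMod 7) • 1 := by
  obtain ⟨a, ha, hA, hM⟩ := prodP_spec w hw
  have e := beqT_sound h
  rw [hA, sclRows] at e
  have hs : ∀ (i : Fin 45) (j : ℕ), scl c i j < 2 ^ 32 := fun i j => by
    unfold scl; cases Nat.beq i.val j <;> simp <;> omega
  ext i j
  rw [← hM, ← scl_cast, pack_inj 45 (fun j => by have := ha i j; omega) (hs i)
    (RT.eq_of_map_eq e i (mem_idT i)) j j.2]

theorem beqT_refl : ∀ t : RT ℕ, beqT t t = true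
  | .leaf x => by simp [beqT]
  | .node a b => by simp [beqT, beqT_refl a, beqT_refl b]

theorem pack_congr : ∀ (n : ℕ) {f g : ℕ → ℕ}, (∀ j < n, f j = g j) → pack n f = pack n g
  | 0, _, _, _ => rfl
  | n + 1, f, g, h => by
    rw [pack, pack, h 0 (Nat.succ_pos n), pack_congr n fun j hj => h (j + 1) (by omega)]

theorem isScl_complete {w : List ℕ} (hw : ∀ g ∈ w, g < 8) {c : ℕ} (hc : c ≤ 6)
    (h : valM w = (c : ZMod 7) • 1) : isScl w c = true := by
  obtain ⟨a, ha, hA, hM⟩ := prodP_spec w hw
  rw [isScl, hA, sclRows, show (idT.map fun i => pack 45 (a i)) = idT.map fun i => pack 45 (scl c i)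
    from RT.map_congr idT fun i => pack_congr 45 fun j hj => ?_, beqT_refl]
  have e : ((a i (⟨j, hj⟩ : Fin 45) : ℕ) : ZMod 7) = ((scl c i (⟨j, hj⟩ : Fin 45) : ℕ) : ZMod 7) := by
    rw [hM, h, scl_cast]
  rw [ZMod.natCast_eq_natCast_iff'] at e
  have h1 := ha i j
  have h2 : scl c i j ≤ 6 := by unfold scl; cases Nat.beq i.val j <;> simp <;> omega
  simp only at e
  omega

end CfsgLib.Spor.ONGL
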