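import Cfsg.Agent.Lib.Spor.ONGL.Check
import Cfsg.Agent.Lib.Spor.ON.Simple
import Mathlib.LinearAlgebra.Matrix.GeneralLinearGroup.Defs

/-! A triple cover of the presented O'Nan group inside `SL(45, 7)`. -/

set_option autoImplicit false
set_option maxRecDepth 100000

namespace CfsgLib.Spor.ONGL

open Cfsg.Spor CfsgLib.Spor.ON Matrix

/-- the rows of the scalar matrices of order dividing three -/
theorem relW (w : List ℕ) (hw : w ∈ baseW) :
    (∀ x ∈ w, x < 8) ∧ ∃ k : ℕ, valM w = (2 : ZMod 7) ^ k • (1 : Matrix (Fin 45) (Fin 45) (ZMod 7)) := by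
  have h := relOK_true
  simp only [relOK, List.all_eq_true, Bool.and_eq_true, Bool.or_eq_true] at h
  obtain ⟨h8, hs⟩ := h w hw
  have h8' : ∀ x ∈ w, x < 8 := fun x hx => by simpa [Nat.blt] using h8 x hx
  refine ⟨h8', ?_⟩
  rcases hs with (h1 | h2) | h4
  · exact ⟨0, by rw [isScl_sound h8' (by omega) h1]; rfl⟩
  · exact ⟨1, by rw [isScl_sound h8' (by omega) h2]; rfl⟩
  · exact ⟨2, by rw [isScl_sound h8' (by omega) h4]; rfl⟩

theorem gM_mul_inv : gM 6 * gM 7 = (1 : Matrix (Fin 45) (Fin 45) (ZMod 7)) ∧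
    gM 7 * gM 6 = (1 : Matrix (Fin 45) (Fin 45) (ZMod 7)) := by
  constructor
  · have h : isScl [6, 7] 1 = true := by decide +kernel
    simpa [valM] using isScl_sound (w := [6, 7]) (by simp) (by omega) h
  · have h : isScl [7, 6] 1 = true := by decide +kernel
    simpa [valM] using isScl_sound (w := [7, 6]) (by simp) (by omega) h

theorem gM_sq (i : ℕ) (hi : i < 6) : gM i * gM i = (1 : Matrix (Fin 45) (Fin 45) (ZMod 7)) := by
  have h : ((List.range 6).all fun i => isScl [i, i] 1) = true := by decide +kernel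
  simp only [List.all_eq_true, List.mem_range] at h
  simpa [valM] using isScl_sound (w := [i, i]) (by simp; omega) (by omega) (h i hi)

/-- a generator as an invertible matrix -/
def gU : ON.Gen → GL (Fin 45) (ZMod 7)
  | .a => ⟨gM 0, gM 0, gM_sq 0 (by omega), gM_sq 0 (by omega)⟩
  | .b => ⟨gM 1, gM 1, gM_sq 1 (by omega), gM_sq 1 (by omega)⟩
  | .c => ⟨gM 2, gM 2, gM_sq 2 (by omega), gM_sq 2 (by omega)⟩
  | .d => ⟨gM 3, gM 3, gM_sq 3 (by omega), gM_sq 3 (by omega)⟩
  | .e => ⟨gM 4, gM 4, gM_sq 4 (by omega), gM_sq 4 (by omega)⟩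
  | .f => ⟨gM 5, gM 5, gM_sq 5 (by omega), gM_sq 5 (by omega)⟩
  | .g => ⟨gM 6, gM 7, gM_mul_inv.1, gM_mul_inv.2⟩

theorem lets_gU (x : ℕ) (hx : x < 8) : ((lets gU x : GL (Fin 45) (ZMod 7)) : Matrix (Fin 45) (Fin 45) (ZMod 7)) = gM x := by
  interval_cases x <;> rfl

attribute [local irreducible] gM

theorem coe_evalW : ∀ w : List ℕ, (∀ x ∈ w, x < 8) →
    ((evalW gU w : GL (Fin 45) (ZMod 7)) : Matrix (Fin 45) (Fin 45) (ZMod 7)) = valM w := by
  intro w
  induction w with
  | nil => intro _; rfl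
  | cons x w ih =>
    intro hw
    have e : evalW gU (x :: w) = lets gU x * evalW gU w := by simp [evalW]
    rw [e, Units.val_mul, ih fun y hy => hw y (List.mem_cons_of_mem _ hy),
      lets_gU x (hw x List.mem_cons_self), valM, valM, List.map_cons, List.prod_cons]

theorem gU_sq (i : ℕ) (hi : i < 6) : lets gU i * lets gU i = 1 :=
  Units.ext (by rw [Units.val_mul, lets_gU i (by omega)]; exact gM_sq i hi)

/-- every relator evaluates to a power of two times the unit matrix -/
theorem rel_scalar {r : FreeGroup ON.Gen} (hr : r ∈ coxRelators ON.edges ∪ {r | r ∈ ON.extra}) :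
    ∃ k : ℕ, ((FreeGroup.lift gU r : GL (Fin 45) (ZMod 7)) : Matrix (Fin 45) (Fin 45) (ZMod 7)) =
      (2 : ZMod 7) ^ k • 1 := by
  obtain ⟨w, hw, e⟩ : ∃ w ∈ baseW, FreeGroup.lift gU r = evalW gU w := by
    rcases hr with ⟨x, hx, y, hy, rfl⟩ | hr
    · obtain ⟨i, hi, rfl⟩ := exists_node hx
      obtain ⟨j, hj, rfl⟩ := exists_node hy
      refine ⟨powW (coxLabel ON.edges (node i) (node j)) i j, ?_, ?_⟩
      · simp only [baseW, coxW, List.mem_append, List.mem_flatMap, List.mem_map, List.mem_range]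
        exact Or.inl (Or.inl ⟨i, hi, j, hj, rfl⟩)
      · rw [evalW_powW, lets_node gU hi, lets_node gU hj]
        simp
    · have h : FreeGroup.lift gU r ∈ extraW.map (evalW gU) :=
        lift_extra gU gU_sq ▸ List.mem_map.2 ⟨r, hr, rfl⟩
      obtain ⟨w, hw, e⟩ := List.mem_map.1 h
      exact ⟨w, List.mem_append_left _ (List.mem_append_right _ hw), e.symm⟩
  obtain ⟨h8, k, hk⟩ := relW w hw
  exact ⟨k, by rw [e, coe_evalW w h8, hk]⟩

theorem det_scalar (k : ℕ) :
    Matrix.det ((2 : ZMod 7) ^ k • (1 : Matrix (Fin 45) (Fin 45) (ZMod 7))) = 1 := by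
  rw [det_smul, det_one, mul_one, Fintype.card_fin, ← pow_mul, mul_comm, pow_mul,
    show (2 : ZMod 7) ^ 45 = 1 from by decide, one_pow]

theorem det_gU (x : ON.Gen) : Matrix.GeneralLinearGroup.det (gU x) = 1 := by
  let f : ON.Gen → (ZMod 7)ˣ := fun y => Matrix.GeneralLinearGroup.det (gU y)
  have hf : FreeGroup.lift f = Matrix.GeneralLinearGroup.det.comp (FreeGroup.lift gU) :=
    FreeGroup.ext_hom _ _ fun y => by simp [f]
  let χ : Cfsg.Spor.ON →* (ZMod 7)ˣ := PresentedGroup.toGroup (f := f) (by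
    intro r hr
    obtain ⟨k, hk⟩ := rel_scalar hr
    refine Units.ext ?_
    rw [hf, MonoidHom.comp_apply, GeneralLinearGroup.val_det_apply, hk, det_scalar, Units.val_one])
  have h : χ = 1 := trivial_of_commute χ fun a b => mul_comm _ _
  have e : χ (PresentedGroup.of x) = f x := PresentedGroup.toGroup.of _
  rw [h] at e
  exact e.symm

/-- a generator in the special linear group -/
def gS (x : ON.Gen) : SpecialLinearGroup (Fin 45) (ZMod 7) :=
  ⟨(gU x : Matrix (Fin 45) (Fin 45) (ZMod 7)), by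
    rw [← GeneralLinearGroup.val_det_apply, det_gU, Units.val_one]⟩

/-- the cover -/
def cover : Subgroup (SpecialLinearGroup (Fin 45) (ZMod 7)) := Subgroup.closure (Set.range gS)

/-- a generator in the cover -/
def gH (x : ON.Gen) : cover := ⟨gS x, Subgroup.subset_closure ⟨x, rfl⟩⟩

/-- the matrices of the cover -/
def toG : cover →* GL (Fin 45) (ZMod 7) := SpecialLinearGroup.toGL.comp cover.subtype

theorem toG_val (a : cover) : ((toG a : GL (Fin 45) (ZMod 7)) : Matrix (Fin 45) (Fin 45) (ZMod 7)) =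
    (a : SpecialLinearGroup (Fin 45) (ZMod 7)).1 := by
  simp [toG]

theorem toG_injective : Function.Injective toG := by
  intro a b h
  have e := congrArg Units.val h
  rw [toG_val, toG_val] at e
  exact Subtype.ext (Subtype.ext e)

theorem gH_val (x : ON.Gen) :
    (gH x : SpecialLinearGroup (Fin 45) (ZMod 7)).1 = (gU x).val := by
  simp only [gH, gS]

attribute [local irreducible] gU

theorem toG_gH (x : ON.Gen) : toG (gH x) = gU x := Units.ext (by rw [toG_val, gH_val])

theorem toG_lift (r : FreeGroup ON.Gen) : toG (FreeGroup.lift gH r) = FreeGroup.lift gU r := by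
  have h : toG.comp (FreeGroup.lift gH) = FreeGroup.lift gU :=
    FreeGroup.ext_hom _ _ fun y => by simp [toG_gH]
  exact DFunLike.congr_fun h r

theorem toG_lets (x : ℕ) : toG (lets gH x) = lets gU x := by
  unfold lets
  split <;> simp [toG_gH]

/-- the central element -/
noncomputable def z : cover := evalW gH zW

theorem coe_z : ((toG z : GL (Fin 45) (ZMod 7)) : Matrix (Fin 45) (Fin 45) (ZMod 7)) =
    (2 : ZMod 7) • 1 := by
  have e : toG z = evalW gU zW := by
    rw [z, evalW, evalW, map_list_prod, List.map_map]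
    exact congrArg List.prod (List.map_congr_left fun x _ => toG_lets x)
  rw [e, coe_evalW zW (by decide)]
  simpa using isScl_sound (w := zW) (by decide) (by omega) zW_scl

theorem coe_z_pow (k : ℕ) :
    ((toG (z ^ k) : GL (Fin 45) (ZMod 7)) : Matrix (Fin 45) (Fin 45) (ZMod 7)) =
      (2 : ZMod 7) ^ k • 1 := by
  rw [map_pow, Units.val_pow_eq_pow_val, coe_z, smul_pow, one_pow]

attribute [local irreducible] z

theorem z_pow_three : z ^ 3 = 1 := by
  refine toG_injective (Units.ext ?_)
  rw [coe_z_pow, map_one, Units.val_one, show (2 : ZMod 7) ^ 3 = 1 from by decide, one_smul]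

theorem z_ne_one : z ≠ 1 := by
  intro h
  have e := coe_z
  rw [h, map_one, Units.val_one] at e
  have := congrFun (congrFun e 0) 0
  simp at this
  exact absurd this (by decide)

theorem orderOf_z : orderOf z = 3 := orderOf_eq_prime z_pow_three z_ne_one

theorem z_comm (a : cover) : z * a = a * z := by
  refine toG_injective (Units.ext ?_)
  rw [map_mul, map_mul, Units.val_mul, Units.val_mul, coe_z, smul_mul_assoc, one_mul,
    mul_smul_comm, mul_one]

theorem normal_zpowers_of_comm {G : Type*} [Group G] (c : G) (hc : ∀ a, c * a = a * c) :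
    (Subgroup.zpowers c).Normal :=
  ⟨fun a ha b => by
    obtain ⟨k, rfl⟩ := Subgroup.mem_zpowers_iff.1 ha
    have h : Commute b (c ^ k) := Commute.zpow_right (hc b).symm k
    rw [h.eq, mul_inv_cancel_right]
    exact Subgroup.zpow_mem_zpowers c k⟩

theorem exists_nat_pow_eq {G : Type*} [Group G] (c : G) (hc : c ^ 3 = 1) {a : G}
    (ha : a ∈ Subgroup.zpowers c) : ∃ j < 3, c ^ j = a := by
  obtain ⟨k, rfl⟩ := Subgroup.mem_zpowers_iff.1 ha
  refine ⟨(k % 3).toNat, by omega, ?_⟩
  have h3 : c ^ (3 : ℤ) = 1 := by exact_mod_cast hc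
  conv_rhs => rw [← Int.mul_ediv_add_emod k 3, _root_.zpow_add, _root_.zpow_mul, h3, _root_.one_zpow, _root_.one_mul]
  rw [← zpow_natCast, Int.toNat_of_nonneg (by omega)]

instance zpowers_z_normal : (Subgroup.zpowers z).Normal := normal_zpowers_of_comm z z_comm

/-- the map from the presented group onto the quotient -/
noncomputable def φ : Cfsg.Spor.ON →* cover ⧸ Subgroup.zpowers z :=
  PresentedGroup.toGroup (f := fun x => (gH x : cover ⧸ Subgroup.zpowers z)) (by
    intro r hr
    have hl : FreeGroup.lift (fun x => (gH x : cover ⧸ Subgroup.zpowers z)) =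
        (QuotientGroup.mk' (Subgroup.zpowers z)).comp (FreeGroup.lift gH) :=
      FreeGroup.ext_hom _ _ fun y => by simp
    obtain ⟨k, hk⟩ := rel_scalar hr
    have e : FreeGroup.lift gH r = z ^ k :=
      toG_injective (Units.ext (by rw [toG_lift, hk, coe_z_pow]))
    rw [hl, MonoidHom.comp_apply, e]
    exact (QuotientGroup.eq_one_iff _).2 (Subgroup.pow_mem _ (Subgroup.mem_zpowers z) k))

theorem φ_of (x : ON.Gen) : φ (PresentedGroup.of x) = (gH x : cover ⧸ Subgroup.zpowers z) :=
  PresentedGroup.toGroup.of _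

theorem φ_surjective : Function.Surjective φ := by
  intro q
  obtain ⟨⟨a, ha⟩, rfl⟩ := QuotientGroup.mk'_surjective (Subgroup.zpowers z) q
  induction ha using Subgroup.closure_induction with
  | mem y hy =>
    obtain ⟨x, rfl⟩ := hy
    exact ⟨PresentedGroup.of x, φ_of x⟩
  | one => exact ⟨1, map_one _⟩
  | mul a b ha hb iha ihb =>
    obtain ⟨p, hp⟩ := iha
    obtain ⟨q, hq⟩ := ihb
    exact ⟨p * q, by rw [map_mul, hp, hq]; rfl⟩
  | inv a ha iha =>
    obtain ⟨p, hp⟩ := iha
    exact ⟨p⁻¹, by rw [map_inv, hp]; rfl⟩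

theorem φ_ne_one : φ (PresentedGroup.of ON.Gen.a) ≠ 1 := by
  rw [φ_of, Ne, QuotientGroup.eq_one_iff]
  intro hm
  obtain ⟨j, hj3, hj⟩ := exists_nat_pow_eq z z_pow_three hm
  have e := coe_z_pow j
  rw [hj, toG_gH] at e
  have hg : (gU ON.Gen.a).val = gM 0 := lets_gU 0 (by omega)
  rw [hg] at e
  have h := gen0_ne
  simp only [Bool.or_eq_false_iff] at h
  have key : ∀ c : ℕ, c ≤ 6 → gM 0 = (c : ZMod 7) • (1 : Matrix (Fin 45) (Fin 45) (ZMod 7)) →
      isScl [0] c = true := fun c hc hM =>
    isScl_complete (by simp) hc (by simpa [valM] using hM)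
  interval_cases j
  · exact Bool.false_ne_true (h.1.1 ▸ key 1 (by omega) (e.trans (by norm_num)))
  · exact Bool.false_ne_true (h.1.2 ▸ key 2 (by omega) (e.trans (by norm_num)))
  · exact Bool.false_ne_true (h.2 ▸ key 4 (by omega) (e.trans (by norm_num)))

/-- the quotient of the cover is the presented group -/
theorem φ_bijective : Function.Bijective φ := by
  have := CfsgLib.Spor.ON.isSimple
  refine ⟨?_, φ_surjective⟩
  rw [← MonoidHom.ker_eq_bot_iff]
  rcases (inferInstance : φ.ker.Normal).eq_bot_or_eq_top with h | h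
  · exact h
  · exact absurd (MonoidHom.mem_ker.1 (h ▸ Subgroup.mem_top (PresentedGroup.of ON.Gen.a))) φ_ne_one

theorem center_eq : Subgroup.center cover = Subgroup.zpowers z := by
  refine le_antisymm (fun a ha => ?_) ?_
  · by_contra hn
    let e := MulEquiv.ofBijective φ φ_bijective
    obtain ⟨p, hp⟩ := φ_surjective (a : cover ⧸ Subgroup.zpowers z)
    have hc : ∀ q : Cfsg.Spor.ON, p * q = q * p := fun q => by
      obtain ⟨b, hb⟩ := QuotientGroup.mk'_surjective (Subgroup.zpowers z) (φ q)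
      refine φ_bijective.1 ?_
      rw [map_mul, map_mul, hp, ← hb, QuotientGroup.mk'_apply, ← QuotientGroup.mk_mul,
        ← QuotientGroup.mk_mul, Subgroup.mem_center_iff.1 ha b]
    have := CfsgLib.Spor.ON.isSimple
    rcases (inferInstance : (Subgroup.center Cfsg.Spor.ON).Normal).eq_bot_or_eq_top with h | h
    · refine hn ((QuotientGroup.eq_one_iff a).1 ?_)
      have hp1 : p = 1 := Subgroup.mem_bot.1 (h ▸ Subgroup.mem_center_iff.2 fun q => (hc q).symm)
      rw [← hp, hp1, map_one]
    · have h1 := trivial_of_commute (MonoidHom.id Cfsg.Spor.ON) fun x y =>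
        (Subgroup.mem_center_iff.1 (h ▸ Subgroup.mem_top x) y).symm
      refine φ_ne_one ?_
      rw [show (PresentedGroup.of ON.Gen.a : Cfsg.Spor.ON) = 1 from DFunLike.congr_fun h1 _,
        map_one]
  · rw [Subgroup.zpowers_le, Subgroup.mem_center_iff]
    exact fun b => (z_comm b).symm

theorem card_center : Nat.card (Subgroup.center cover) = 3 := by
  rw [center_eq, Nat.card_zpowers, orderOf_z]

theorem isON_quotient : Cfsg.IsON (cover ⧸ Subgroup.center cover) := by
  have e : Cfsg.Spor.ON ≃* cover ⧸ Subgroup.center cover :=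
    (MulEquiv.ofBijective φ φ_bijective).trans
      (QuotientGroup.quotientMulEquivOfEq center_eq.symm)
  have := CfsgLib.Spor.ON.isSimple
  exact ⟨e.symm.isSimpleGroup, by rw [← Nat.card_congr e.toEquiv]; exact CfsgLib.Spor.ON.natCard⟩

end CfsgLib.Spor.ONGL
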