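import Cfsg.Agent.Lib.Spor.ONGL.Rep
import Cfsg.Prelude.Def_KGroupFacts

/-! The cover is a stem extension of the presented O'Nan group with kernel of order three. -/

set_option autoImplicit false
set_option maxRecDepth 100000

namespace CfsgLib.Spor.ONGL

open Cfsg.Spor CfsgLib.Spor.ON Matrix

attribute [local irreducible] gM gU z

theorem gH_word (w : List ℕ) (hw : ∀ x ∈ w, x < 8) (h : isScl w 1 = true) : evalW gH w = 1 := by
  refine toG_injective ?_
  have e : toG (evalW gH w) = evalW gU w := by
    rw [evalW, evalW, map_list_prod, List.map_map]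
    exact congrArg List.prod (List.map_congr_left fun x _ => toG_lets x)
  rw [e, map_one]
  refine Units.ext ?_
  rw [coe_evalW w hw, isScl_sound hw (by omega) h, Units.val_one, Nat.cast_one, one_smul]

/-- a commutative image of the cover is trivial -/
theorem cover_trivial_of_commute {R : Type*} [CommGroup R] (f : cover →* R) : f = 1 := by
  have hzf : f z ^ 3 = 1 := by rw [← map_pow, z_pow_three, map_one]
  -- the presented group kills `R / ⟨f z⟩`
  let K : Subgroup R := Subgroup.zpowers (f z)
  let ψ : cover ⧸ Subgroup.zpowers z →* R ⧸ K :=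
    QuotientGroup.map (Subgroup.zpowers z) K f (by
      rw [Subgroup.zpowers_le, Subgroup.mem_comap]
      exact Subgroup.mem_zpowers _)
  have hψ : ψ.comp φ = 1 := trivial_of_commute _ fun x y => mul_comm _ _
  have hmem : ∀ a : cover, f a ∈ K := fun a => by
    obtain ⟨p, hp⟩ := φ_surjective (a : cover ⧸ Subgroup.zpowers z)
    have h := DFunLike.congr_fun hψ p
    rw [MonoidHom.comp_apply, hp, MonoidHom.one_apply] at h
    exact (QuotientGroup.eq_one_iff _).1 h
  have hcube : ∀ a : cover, f a ^ 3 = 1 := fun a => by
    obtain ⟨k, hk⟩ := Subgroup.mem_zpowers_iff.1 (hmem a)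
    rw [← hk, ← zpow_natCast, zpow_comm, zpow_natCast, hzf, _root_.one_zpow]
  have hsq : ∀ x ∈ List.range 6, f (lets gH x) ^ 2 = 1 := fun x hx => by
    rw [List.mem_range] at hx
    have hs : ((List.range 6).all fun i => isScl [i, i] 1) = true := by decide +kernel
    simp only [List.all_eq_true, List.mem_range] at hs
    have h := gH_word [x, x] (by simp; omega) (hs x hx)
    rw [← map_pow, pow_two, show lets gH x * lets gH x = evalW gH [x, x] by simp [evalW], h,
      map_one]
  have hone : ∀ x ∈ List.range 6, f (lets gH x) = 1 := fun x hx => by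
    have h := hsq x hx
    have h3 := hcube (lets gH x)
    rw [pow_succ, h, one_mul] at h3
    exact h3
  have hg : f (gH ON.Gen.g) = 1 := by
    have h : evalW gH [0, 5, 7, 7] = 1 := gH_word _ (by decide) (by decide +kernel)
    have h' := congrArg f h
    simp only [evalW, List.map_cons, List.map_nil, List.prod_cons, List.prod_nil, map_mul,
      map_one, mul_one, hone 0 (by simp), hone 5 (by simp), one_mul] at h'
    have h2 : (f (gH ON.Gen.g))⁻¹ * (f (gH ON.Gen.g))⁻¹ = 1 := by simpa [lets] using h'
    have h3 := hcube (gH ON.Gen.g)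
    rw [pow_succ, pow_two, ← _root_.inv_inv (f (gH ON.Gen.g) * f (gH ON.Gen.g)),
      _root_.mul_inv_rev, h2, inv_one, one_mul] at h3
    exact h3
  refine MonoidHom.ext fun a => ?_
  obtain ⟨a, ha⟩ := a
  induction ha using Subgroup.closure_induction with
  | mem y hy =>
    obtain ⟨x, rfl⟩ := hy
    show f (gH x) = 1
    cases x
    case g => exact hg
    case a => exact hone 0 (by simp)
    case b => exact hone 1 (by simp)
    case c => exact hone 2 (by simp)
    case d => exact hone 3 (by simp)
    case e => exact hone 4 (by simp)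
    case f => exact hone 5 (by simp)
  | one => exact map_one f
  | mul a b ha hb iha ihb =>
    show f (⟨a, ha⟩ * ⟨b, hb⟩) = 1
    simp only [MonoidHom.one_apply] at iha ihb
    rw [map_mul, iha, ihb, one_mul]
  | inv a ha iha =>
    show f (⟨a, ha⟩⁻¹) = 1
    simp only [MonoidHom.one_apply] at iha
    rw [map_inv, iha, inv_one]

/-- the covering map -/
noncomputable def σ : cover →* Cfsg.Spor.ON :=
  (MulEquiv.ofBijective φ φ_bijective).symm.toMonoidHom.comp
    (QuotientGroup.mk' (Subgroup.zpowers z))

theorem ker_σ : σ.ker = Subgroup.zpowers z := by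
  ext a
  simp [σ, MonoidHom.mem_ker]

theorem card_ker_σ : Nat.card σ.ker = 3 := by rw [ker_σ, Nat.card_zpowers, orderOf_z]

theorem stem_σ : Cfsg.IsStemExtension σ := by
  refine ⟨fun p => ?_, ?_, ?_⟩
  · obtain ⟨a, ha⟩ := QuotientGroup.mk'_surjective (Subgroup.zpowers z) (φ p)
    exact ⟨a, by
      rw [σ, MonoidHom.comp_apply, ha]
      exact (MulEquiv.ofBijective φ φ_bijective).symm_apply_apply p⟩
  · rw [ker_σ, center_eq]
  · intro a _
    have h := DFunLike.congr_fun (cover_trivial_of_commute (Abelianization.of (G := cover))) a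
    exact (QuotientGroup.eq_one_iff a).1 h

attribute [local irreducible] σ cover

theorem finite_cover : Finite cover :=
  Finite.of_injective (fun a : cover => (toG a).val)
    (fun _ _ h => toG_injective (Units.ext h))

theorem nonempty_equiv_three {G : Type*} [Group G] (K : Subgroup G) (h : Nat.card K = 3) :
    Nonempty (K ≃* Multiplicative (ZMod 3)) := by
  have : Fact (Nat.Prime 3) := ⟨by norm_num⟩
  exact ⟨mulEquivOfPrimeCardEq (p := 3) h (by simp)⟩

/-- a stem extension with kernel cyclic of order three exists -/
theorem stem_three : ∃ (Γ : Type) (_ : Group Γ) (_ : Finite Γ) (s : Γ →* Cfsg.Spor.ON),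
    Cfsg.IsStemExtension s ∧ Nonempty (s.ker ≃* Multiplicative (ZMod 3)) := by
  have : Finite cover := finite_cover
  exact ⟨↥cover, inferInstance, this, σ, stem_σ, nonempty_equiv_three σ.ker card_ker_σ⟩

end CfsgLib.Spor.ONGL
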